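import Cfsg.Agent.OddHalf.D4.Rk2.Setup
import Cfsg.Agent.OddHalf.D4.EvenPair

/-!
# D4, `K = L₂(q)`, `q ≥ 8` even: the setup `Fr` from a standard subgroup
-/

set_option autoImplicit false
set_option linter.unusedSectionVars false

namespace Cfsg.Agent.OddHalf.D4.Rk2

open Subgroup Cfsg Cfsg.Agent.StdL2.Frame Cfsg.Agent.StdL2.Field
open Cfsg.Agent.StdL2.FrameFT (VV mem_VV up_mem_VV VV_le VV_sq card_VV sem ent_ne)
open Cfsg.Agent.Lib.SL2Mat Cfsg.Agent.Lib.AutSL2
open Cfsg.Agent.OddHalf.D4.CommConj (cj mem_cj cj_mul card_cj cj_eq_of_mem_normalizer mem_normalizer_of_cj_eq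
  mem_cj_mul Tight)
open Cfsg.Agent.OddHalf.D4.Basic (IsSyl exists_isSyl orderOf_conj)

local notation "SL2" => Matrix.SpecialLinearGroup (Fin 2)

universe u

variable {F : Type*} [Field F] {G : Type u} [Group G] {A T S K : Subgroup G} {π : SL2 F →* G}

theorem charP_two [Fintype F] {a : ℕ} (ha : a ≠ 0) (hF : Fintype.card F = 2 ^ a) : CharP F 2 := by
  obtain ⟨p, hp⟩ := CharP.exists F
  have := hp
  obtain ⟨k, hpp, hk⟩ := FiniteField.card F p
  have h5 : 2 ∣ p ^ (k : ℕ) := by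
    rw [← hk, hF]; exact dvd_pow_self 2 ha
  have h6 : 2 ∣ p := Nat.Prime.dvd_of_dvd_pow Nat.prime_two h5
  have h7 : 2 = p := (Nat.prime_dvd_prime_iff_eq Nat.prime_two hpp).mp h6
  exact h7 ▸ hp

theorem exists_par [Fintype F] [CharP F 2] (e : ↥K ≃* Matrix.ProjectiveSpecialLinearGroup (Fin 2) F) :
    ∃ π : SL2 F →* G, IsPar K π := by
  obtain ⟨g⟩ := WeakTI.PslTwo.nonempty_equiv (F := F)
  let E : SL2 F ≃* ↥K := g.trans e.symm
  refine ⟨K.subtype.comp E.toMonoidHom, ⟨K.subtype_injective.comp E.injective, ?_⟩⟩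
  ext x
  constructor
  · rintro ⟨y, rfl⟩
    exact (E y).2
  · intro hx
    exact ⟨E.symm ⟨x, hx⟩, by simp⟩

theorem isPar_conj (P : IsPar K π) {m : G} (hm : m ∈ normalizer (K : Set G)) :
    IsPar K ((MulAut.conj m).toMonoidHom.comp π) := by
  refine ⟨(MulAut.conj m).injective.comp P.inj, ?_⟩
  rw [MonoidHom.range_comp, P.range]
  exact cj_eq_of_mem_normalizer hm

theorem VV_conj (m : G) : VV ((MulAut.conj m).toMonoidHom.comp π) = cj m (VV π) := by
  ext x
  rw [mem_VV]
  constructor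
  · rintro ⟨b, rfl⟩
    exact mem_cj_mul (up_mem_VV b)
  · rintro ⟨v, hv, rfl⟩
    obtain ⟨b, rfl⟩ := mem_VV.1 hv
    exact ⟨b, rfl⟩

theorem VV_two [CharP F 2] : IsPGroup 2 (VV π) := by
  rintro ⟨v, hv⟩
  obtain ⟨b, rfl⟩ := mem_VV.1 hv
  refine ⟨1, Subtype.ext ?_⟩
  show π (up b) ^ 2 ^ 1 = 1
  rw [pow_one, pow_two, ← map_mul, up_mul, CharTwo.add_self_eq_zero, up_zero, map_one]

theorem exists_fr [Finite G] (hS : IsSyl S (normalizer (K : Set G))) (hK : IsStandardSubgroup K)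
    (hs : IsSimpleGroup ↥K) (hrk : ¬ PRankLE 2 1 ↥(centralizer (K : Set G))) [Fintype F] [CharP F 2]
    (h8 : 8 ≤ Nat.card F) (e : ↥K ≃* Matrix.ProjectiveSpecialLinearGroup (Fin 2) F) :
    ∃ π : SL2 F →* G, Fr K S π := by
  obtain ⟨π, P⟩ := exists_par e
  obtain ⟨m, hm, hmS⟩ := hS.conj_into (VV_two (π := π)) ((VV_le P).trans le_normalizer)
  have hT := EvenPair.tight_of_standard hK
  refine ⟨(MulAut.conj m).toMonoidHom.comp π, isPar_conj P hm, h8, hs, hT, ?_, hS, ?_, ?_⟩
  · intro g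
    by_contra hcon
    push Not at hcon
    by_cases hg : K.map (MulAut.conj g).toMonoidHom = K
    · -- `K` is not abelian
      have h1 : ⁅(⊤ : Subgroup ↥K), (⊤ : Subgroup ↥K)⁆ = ⊤ := hK.1.1.commutator_eq_top
      have h2 : ⁅(⊤ : Subgroup ↥K), (⊤ : Subgroup ↥K)⁆ = ⊥ := by
        rw [commutator_eq_bot_iff_le_centralizer]
        intro x _
        rw [mem_centralizer_iff]
        intro y _
        have hx : (x : G) ∈ K.map (MulAut.conj g).toMonoidHom := by rw [hg]; exact x.2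
        obtain ⟨b, hb, hbx⟩ := hx
        have h3 := hcon y y.2 b hb
        have h4 : (x : G) = g * b * g⁻¹ := hbx.symm
        apply Subtype.ext
        show (y : G) * x = x * y
        rw [h4]; exact h3
      rw [h1] at h2
      exact (top_ne_bot (α := Subgroup ↥K)) h2
    · apply hK.2.2.1 g hg
      rw [commutator_eq_bot_iff_le_centralizer]
      intro x hx
      rw [mem_centralizer_iff]
      rintro _ ⟨b, hb, rfl⟩
      exact (hcon x hx b hb).symm
  · rw [VV_conj]
    rintro _ ⟨v, hv, rfl⟩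
    exact hmS v hv
  · obtain ⟨a, b, ha, hb, ha2, hb2, hab, hne⟩ := EvenPair.exists_two_of_not_pRankLE hrk
    -- the four-group `⟨a, b⟩` has a conjugate in `RR`
    have hSyl : IsSyl (S ⊓ centralizer (K : Set G)) (centralizer (K : Set G)) := by
      apply hS.inf hT.le
      intro t ht
      apply mem_normalizer_of_cj_eq
      have h1 : cj t (centralizer (K : Set G)) ≤ centralizer (K : Set G) := by
        rintro _ ⟨c, hc, rfl⟩
        exact hT.norm t (hS.le ht) c hc
      exact eq_of_le_of_card_ge h1 (card_cj _ _).ge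
    have haa : a ^ 2 ^ 1 = 1 := by rw [pow_one, ← ha2, pow_orderOf_eq_one]
    have hbb : b ^ 2 ^ 1 = 1 := by rw [pow_one, ← hb2, pow_orderOf_eq_one]
    have hpg : ∀ {x : G}, x ^ 2 ^ 1 = 1 → IsPGroup 2 (zpowers x) := by
      intro x hx
      rintro ⟨y, hy⟩
      obtain ⟨z, rfl⟩ := mem_zpowers_iff.1 hy
      refine ⟨1, Subtype.ext ?_⟩
      show (x ^ z) ^ 2 ^ 1 = 1
      rw [← zpow_natCast, ← zpow_mul, mul_comm, zpow_mul, zpow_natCast, hx, one_zpow]
    have h2 : IsPGroup 2 (zpowers a ⊔ zpowers b : Subgroup G) := by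
      apply Cfsg.Agent.StdL2.FieldStart.isPGroup_sup (hpg haa) (hpg hbb)
      rw [zpowers_le, mem_normalizer_iff]
      have hc : ∀ z ∈ zpowers a, b * z * b⁻¹ = z := by
        intro z hz
        obtain ⟨k, rfl⟩ := mem_zpowers_iff.1 hz
        have : Commute b (a ^ k) := (show Commute b a from hab.symm).zpow_right k
        rw [this.eq, mul_inv_cancel_right]
      have hc' : ∀ z ∈ zpowers a, b⁻¹ * z * b = z := by
        intro z hz
        obtain ⟨k, rfl⟩ := mem_zpowers_iff.1 hz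
        have : Commute b⁻¹ (a ^ k) := (show Commute b a from hab.symm).inv_left.zpow_right k
        rw [this.eq, mul_assoc, inv_mul_cancel, mul_one]
      intro z
      constructor
      · intro hz; rw [hc z hz]; exact hz
      · intro hz
        have h3 := hc' _ hz
        have h4 : b⁻¹ * (b * z * b⁻¹) * b = z := by group
        rw [h4] at h3
        rw [h3]; exact hz
    obtain ⟨c, hc, hcS⟩ := hSyl.conj_into h2 (sup_le (by rw [zpowers_le]; exact ha) (by rw [zpowers_le]; exact hb))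
    refine ⟨c * a * c⁻¹, hcS a (mem_sup_left (mem_zpowers a)), c * b * c⁻¹, hcS b (mem_sup_right (mem_zpowers b)),
      ?_, ?_, ?_, ?_⟩
    · rw [orderOf_conj, ha2]
    · rw [orderOf_conj, hb2]
    · calc c * a * c⁻¹ * (c * b * c⁻¹) = c * (a * b) * c⁻¹ := by group
        _ = c * b * c⁻¹ * (c * a * c⁻¹) := by rw [hab]; group
    · intro h
      exact hne (mul_left_cancel (mul_right_cancel h))

end Cfsg.Agent.OddHalf.D4.Rk2
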