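import Cfsg.Agent.OddHalf.D4.Rk2.Memb
import Cfsg.Agent.OddHalf.D4.Exists

/-!
# D4, `K = L₂(q)`: existence of a full pair

`Fr.exists_pr`: the setup `Fr` gives `Pr`.
-/

set_option autoImplicit false
set_option linter.unusedSectionVars false

namespace Cfsg.Agent.OddHalf.D4.Rk2

open Subgroup Cfsg.Agent.StdL2.Frame Cfsg.Agent.StdL2.Field
open Cfsg.Agent.StdL2.FrameFT (VV mem_VV up_mem_VV VV_le VV_sq card_VV)
open Cfsg.Agent.Lib.SL2Mat Cfsg.Agent.Lib.AutSL2
open Cfsg.Agent.OddHalf.D4.CommConj (cj mem_cj cj_mul card_cj cj_eq_of_mem_normalizer mem_normalizer_of_cj_eq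
  mem_cj_mul Tight)
open Cfsg.Agent.OddHalf.D4.Basic (IsSyl exists_isSyl orderOf_conj)
open Cfsg.Agent.OddHalf.D4.EvenPair (H1173 exists_even)
open Cfsg.Agent.OddHalf.D4 (FullPair)

local notation "SL2" => Matrix.SpecialLinearGroup (Fin 2)

universe u

variable {F : Type*} [Field F] {G : Type u} [Group G] {A T : Subgroup G} {π : SL2 F →* G}

/-- Sylow 2-subgroups are conjugate -/
theorem exists_cj_eq [Finite G] {T T' M : Subgroup G} (h : IsSyl T M) (h' : IsSyl T' M) :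
    ∃ m ∈ M, cj m T' = T := by
  obtain ⟨m, hm, hmT⟩ := h.conj_into h'.two h'.le
  refine ⟨m, hm, ?_⟩
  have h1 : cj m T' ≤ T := by
    rintro _ ⟨t, ht, rfl⟩
    exact hmT t ht
  have h2 : cj m M = M := cj_eq_of_mem_normalizer (le_normalizer hm)
  have h3 : IsSyl (cj m T') M := by
    have := isSyl_cj h' m
    rwa [h2] at this
  exact le_antisymm h1 (h3.max T h.two h1 h.le)

theorem commutator_self_le (A : Subgroup G) : ⁅A, A⁆ ≤ A := by
  rw [commutator_le]
  intro x hx y hy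
  exact mul_mem (mul_mem (mul_mem hx hy) (inv_mem hx)) (inv_mem hy)

namespace Fr

variable [Finite F] [CharP F 2] [Finite G] (H : Fr A T π)
include H

theorem ne_bot : A ≠ ⊥ := by
  have := H.simple.toNontrivial
  rintro rfl
  exact not_subsingleton ↥(⊥ : Subgroup G) inferInstance

theorem perfect : ⁅A, A⁆ = A := by
  have := H.simple
  have hn : (⁅A, A⁆.subgroupOf A).Normal := by
    refine ⟨fun x hx g => ?_⟩
    rw [mem_subgroupOf] at hx ⊢
    have hg : (g : G) ∈ normalizer (A : Set G) := le_normalizer g.2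
    have h1 : cj (g : G) ⁅A, A⁆ = ⁅A, A⁆ := by
      show (⁅A, A⁆).map _ = _
      rw [Subgroup.map_commutator]
      have h2 : A.map (MulAut.conj (g : G)).toMonoidHom = A := cj_eq_of_mem_normalizer hg
      rw [h2]
    have h2 : (g : G) * x * (g : G)⁻¹ ∈ cj (g : G) ⁅A, A⁆ := mem_cj_mul hx
    rw [h1] at h2
    exact h2
  rcases hn.eq_bot_or_eq_top with h | h
  · exfalso
    obtain ⟨b, hb⟩ : ∃ b : F, b ≠ 0 := ⟨1, one_ne_zero⟩
    have hcomm : ∀ x ∈ A, ∀ y ∈ A, x * y = y * x := by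
      intro x hx y hy
      have h1 : x * y * x⁻¹ * y⁻¹ ∈ ⁅A, A⁆ := commutator_mem_commutator hx hy
      have h2 : (⟨x * y * x⁻¹ * y⁻¹, commutator_self_le A h1⟩ : A) ∈ ⁅A, A⁆.subgroupOf A := h1
      rw [h, mem_bot] at h2
      have h3 : x * y * x⁻¹ * y⁻¹ = 1 := congrArg Subtype.val h2
      rw [mul_inv_eq_one, mul_inv_eq_iff_eq_mul] at h3
      exact h3
    have h1 : π (up b) = 1 := eq_one_of_cent H.P (VV_le H.P (up_mem_VV b))
      (mem_cent.2 fun x hx => hcomm _ (VV_le H.P (up_mem_VV b)) x hx)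
    rw [← map_one π] at h1
    have h2 := H.P.inj h1
    rw [← up_zero] at h2
    exact hb (up_inj h2)
  · refine le_antisymm (commutator_self_le A) ?_
    intro x hx
    have : (⟨x, hx⟩ : A) ∈ ⁅A, A⁆.subgroupOf A := by rw [h]; trivial
    exact this

theorem even : Even (Nat.card ↥(centralizer (A : Set G))) := by
  obtain ⟨r, hr, -, -, hr2, -⟩ := H.two
  have h1 : orderOf (⟨r, hr.2⟩ : centralizer (A : Set G)) ∣ Nat.card ↥(centralizer (A : Set G)) :=
    orderOf_dvd_natCard _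
  rw [Subgroup.orderOf_mk, hr2] at h1
  exact (even_iff_two_dvd).2 h1

/-- elements of a Sylow 2-subgroup `T'` of `N(A)` centralizing `T' ∩ A` -/
theorem innerSyl : ∀ T' : Subgroup G, IsSyl T' (normalizer (A : Set G)) → ∀ y ∈ T',
    (∀ s ∈ T', s ∈ A → s * y = y * s) →
      ∃ k ∈ centralizer (A : Set G), ∃ s ∈ T', s ∈ A ∧ (∀ u ∈ T', u ∈ A → u * s = s * u) ∧ y = k * s := by
  intro T' hT' y hy hc
  obtain ⟨m, hm, hmT⟩ := exists_cj_eq H.syl hT'
  have hyT : m * y * m⁻¹ ∈ T := by rw [← hmT]; exact mem_cj_mul hy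
  have hmem : ∀ v ∈ VV π, m⁻¹ * v * m ∈ T' ∧ m⁻¹ * v * m ∈ A := by
    intro v hv
    refine ⟨?_, ?_⟩
    · have h1 : v ∈ cj m T' := by rw [hmT]; exact H.VT hv
      rwa [mem_cj] at h1
    · have := (mem_normalizer_iff''.mp hm v).mp (VV_le H.P hv)
      exact this
  have hcV : ∀ v ∈ VV π, (m * y * m⁻¹) * v = v * (m * y * m⁻¹) := by
    intro v hv
    have h1 := hc _ (hmem v hv).1 (hmem v hv).2
    calc (m * y * m⁻¹) * v = m * (y * (m⁻¹ * v * m)) * m⁻¹ := by group
      _ = v * (m * y * m⁻¹) := by rw [← h1]; group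
  obtain ⟨r, hr, v, hv, hrv⟩ := H.cent hyT hcV
  refine ⟨m⁻¹ * r * m, ?_, m⁻¹ * v * m, (hmem v hv).1, (hmem v hv).2, ?_, ?_⟩
  · have := H.tight.norm m⁻¹ (inv_mem hm) r hr.2
    rwa [inv_inv] at this
  · intro u hu huA
    have h1 : m * u * m⁻¹ ∈ VV π := by
      apply H.mem_VV_of_mem_T
      · rw [← hmT]; exact mem_cj_mul hu
      · exact (mem_normalizer_iff.mp hm u).mp huA
    have h2 : (m * u * m⁻¹) * v = v * (m * u * m⁻¹) := by
      obtain ⟨a, ha⟩ := mem_VV.1 h1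
      obtain ⟨b, rfl⟩ := mem_VV.1 hv
      rw [← ha, ← map_mul, ← map_mul, up_mul, up_mul, add_comm]
    calc u * (m⁻¹ * v * m) = m⁻¹ * ((m * u * m⁻¹) * v) * m := by group
      _ = m⁻¹ * v * m * u := by rw [h2]; group
  · have : y = m⁻¹ * (m * y * m⁻¹) * m := by group
    rw [this, hrv]; group

/-- **the full pair** -/
theorem exists_full [IsSimpleGroup G] (h1173 : H1173 G) :
    ∃ a, a ∉ normalizer (A : Set G) ∧ cj a (RR A T) ≤ T := by
  have hcomm : ∀ k ∈ A, ∀ c ∈ centralizer (A : Set G), k * c = c * k :=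
    fun k hk c hc => mem_centralizer_iff.mp hc k hk
  obtain ⟨g, hg, r, hr, hr2, hrg⟩ := exists_even h1173 H.tight H.even H.ne_bot H.perfect hcomm
  obtain ⟨E, hE⟩ := H.tight.exists_maxE hg hr hr2 hrg
  obtain ⟨L, Q, U, hF, -, -⟩ := Exists.fullPair_of_maxE H.tight
    (fun x hx hxc => eq_one_of_cent H.P hx hxc) H.innerSyl hE
  obtain ⟨a, ha, rfl⟩ := hF.conj
  -- `Q U` is a 2-subgroup of `N(A)`
  have hQU : U ≤ normalizer (Q : Set G) := by
    intro u hu
    rw [mem_normalizer_iff]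
    intro q
    have key : ∀ q ∈ Q, u * q * u⁻¹ = q := fun q hq => by
      rw [← hF.comm q hq u hu, mul_inv_cancel_right]
    constructor
    · intro hq
      rw [key q hq]; exact hq
    · intro hq
      have h1 := key _ hq
      have h2 : u * q * u⁻¹ = q := by
        have := mul_left_cancel (mul_right_cancel h1 : u * (u * q * u⁻¹) = u * q)
        exact this
      rw [← h2]; exact hq
  have hUM : U ≤ normalizer (A : Set G) := by
    intro u hu
    obtain ⟨q, hq, hq2⟩ := exists_inv_syl hF.sylQ H.even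
    apply H.tight.tight u q (hF.sylQ.le hq) hq2
    rw [← hF.comm q hq u hu, mul_inv_cancel_right]
    exact hF.sylQ.le hq
  have h2 : IsPGroup 2 (Q ⊔ U : Subgroup G) :=
    Cfsg.Agent.StdL2.FieldStart.isPGroup_sup hF.sylQ.two hF.sylU.two hQU
  obtain ⟨m, hm, hmT⟩ := H.syl.conj_into h2 (sup_le (hF.sylQ.le.trans H.tight.le) hUM)
  -- `U` is conjugate to `cj a R`
  have h3 : IsSyl (cj a (RR A T)) (centralizer ((cj a A : Subgroup G) : Set G)) := by
    rw [centralizer_cj]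
    exact isSyl_cj H.sylR a
  obtain ⟨c, hc, hcU⟩ := exists_cj_eq hF.sylU h3
  rw [centralizer_cj, mem_cj] at hc
  refine ⟨m * c * a, ?_, ?_⟩
  · intro h
    apply ha
    have h4 : c * a ∈ normalizer (A : Set G) := by
      have := mul_mem (inv_mem hm) h
      have e : m⁻¹ * (m * c * a) = c * a := by group
      rwa [e] at this
    have h5 : a = (c * a) * (a⁻¹ * c * a)⁻¹ := by group
    rw [h5]
    exact mul_mem h4 (inv_mem (H.tight.le hc))
  · have e : cj (m * c * a) (RR A T) = cj m U := by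
      rw [mul_assoc, cj_mul, cj_mul, hcU]
    rw [e]
    rintro _ ⟨u, hu, rfl⟩
    exact hmT u (mem_sup_right hu)

/-- **`Fr` gives `Pr`** -/
theorem pr [IsSimpleGroup G] (h1173 : H1173 G) : Pr A T π := ⟨H, H.exists_full h1173⟩

end Fr

end Cfsg.Agent.OddHalf.D4.Rk2
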