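import Cfsg.Agent.OddHalf.D4.Rk2.False
import Cfsg.Agent.OddHalf.D4.Rk2.Start
import Cfsg.Agent.OddHalf.D4.Rk2.Par
import Cfsg.Agent.OddHalf.D4.Start

/-!
# D4, the row `K = L₂(2^a)`, `a ≥ 3`, `m_2(C(K)) ≥ 2`

`row` : `Cut.Row1 Cut.L2e` from S1173 and S1169.
-/

set_option autoImplicit false

namespace Cfsg.Agent.OddHalf.D4.Rk2

open Subgroup Cfsg
open Cfsg.Agent.OddHalf.D4.Basic (IsSyl exists_isSyl)

universe u

/-- **the standard subgroup `L₂(2^a)`, `a ≥ 3`, `m_2(C(K)) ≥ 2`**, `G` simple -/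
theorem false_of_std {G : Type u} [Group G] [Finite G] [IsSimpleGroup G] (h1173 : EvenPair.H1173 G)
    (gold : Cfsg.Agent.StdSz.EndClosed.Gold.{u}) {K : Subgroup G} (hK : IsStandardSubgroup K)
    (hs : IsSimpleGroup ↥K) (hrk : ¬ PRankLE 2 1 ↥(centralizer (K : Set G))) {F : Type*} [Field F] [Fintype F]
    {a : ℕ} (ha : 3 ≤ a) (hF : Fintype.card F = 2 ^ a)
    (e : Nonempty (↥K ≃* Matrix.ProjectiveSpecialLinearGroup (Fin 2) F)) : False := by
  obtain ⟨e⟩ := e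
  have hch := charP_two (F := F) (a := a) (by omega) hF
  have h8 : 8 ≤ Nat.card F := by
    rw [Nat.card_eq_fintype_card, hF]
    calc 8 = 2 ^ 3 := by norm_num
      _ ≤ 2 ^ a := Nat.pow_le_pow_right (by norm_num) ha
  obtain ⟨T, hT, -⟩ := exists_isSyl (G := G) (M := normalizer (K : Set G)) (Q := ⊥) IsPGroup.of_bot bot_le
  obtain ⟨π, H⟩ := exists_fr hT hK hs hrk h8 e
  exact (H.pr h1173).false gold

/-- **the row `L₂(2^a)`, `a ≥ 3`** -/
theorem row (h1173 : Start.P1173.{u}) (gold : Cfsg.Agent.StdSz.EndClosed.Gold.{u}) :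
    Cut.Row1.{u} (fun K _ => Cut.L2e K) := by
  intro G _ hG K hK hrk hz hP
  have := hG.fin
  have := hG.simple
  obtain ⟨F, _, _, a, ha, hF, he⟩ := hP
  obtain ⟨x, y, hx, hy, hx2, hy2, hxy, hne⟩ := EvenPair.exists_two_of_not_pRankLE hrk
  exact false_of_std (h1173 G (Start.oddCore_eq_bot hx2)) gold hK.std (Start.isSimple_of_center hK.simple hz) hrk
    ha hF he

end Cfsg.Agent.OddHalf.D4.Rk2
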