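import Cfsg.Agent.OddHalf.D4.Rk2.Dich
import Cfsg.Agent.OddHalf.D4.RkAff

/-!
# D4, `K = L₂(q)`: the affine case, translations
-/

set_option autoImplicit false
set_option linter.unusedSectionVars false

namespace Cfsg.Agent.OddHalf.D4.Rk2

open Subgroup Cfsg.Agent.StdL2.Frame Cfsg.Agent.StdL2.Field
open Cfsg.Agent.StdL2.FrameFT (VV mem_VV up_mem_VV VV_le VV_sq card_VV)
open Cfsg.Agent.Lib.SL2Mat Cfsg.Agent.Lib.AutSL2
open Cfsg.Agent.OddHalf.D4.CommConj (cj mem_cj cj_mul card_cj cj_eq_of_mem_normalizer mem_normalizer_of_cj_eq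
  mem_cj_mul Tight)
open Cfsg.Agent.OddHalf.D4.Basic (IsSyl exists_isSyl orderOf_conj)

local notation "SL2" => Matrix.SpecialLinearGroup (Fin 2)

universe u

variable {F : Type*} [Field F] {G : Type u} [Group G] {A T : Subgroup G} {π : SL2 F →* G}

/-- the affine case -/
structure Af (A T : Subgroup G) (π : SL2 F →* G) (f : G → F) : Prop extends Pr A T π where
  gf : Gf A T π f
  noII : ∀ Z ∈ LL A T π, ¬ Z ≤ VV π

namespace Af

variable [Finite F] [CharP F 2] [Finite G] {f : G → F} (H : Af A T π f)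
include H

theorem all_gr {Z : Subgroup G} (hZ : Z ∈ LL A T π) : ∃ c, IsGr A T π f c Z :=
  H.gf.isGr_of H.toPr hZ (H.noII Z hZ)

theorem u_not_mem {Z : Subgroup G} (hZ : Z ∈ LL A T π) {b : F} (hb : b ≠ 0) : π (up b) ∉ Z :=
  fun h => H.noII Z hZ (H.toPr.le_VV_of_meet hZ hb h)

/-- `N(VQ)` normalizes the root group -/
theorem norm_VV {n : G} (hn : n ∈ normalizer (VQ A T π : Set G)) : cj n (VV π) = VV π := by
  have h1 : cj n (VV π) ≤ VV π := by
    rintro _ ⟨v, hv, rfl⟩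
    obtain ⟨b, rfl⟩ := mem_VV.1 hv
    show n * π (up b) * n⁻¹ ∈ VV π
    by_cases hb : b = 0
    · rw [hb, H.u0, mul_one, mul_inv_cancel]; exact one_mem _
    by_contra h
    obtain ⟨c, Z, hZ, -, hmem⟩ := H.gf.cover H.toPr ((mem_normalizer_iff.1 hn _).1 (H.uVQ b)) h
    apply H.u_not_mem (H.toPr.cj_mem_LL (inv_mem hn) hZ) hb
    rw [mem_cj, inv_inv]
    exact hmem
  exact eq_of_le_of_card_ge h1 (card_cj _ _).ge

theorem norm_u {n : G} (hn : n ∈ normalizer (VQ A T π : Set G)) (b : F) :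
    ∃ b', n * π (up b) * n⁻¹ = π (up b') := by
  have h1 : n * π (up b) * n⁻¹ ∈ cj n (VV π) := mem_cj_mul (up_mem_VV b)
  rw [H.norm_VV hn] at h1
  obtain ⟨b', h⟩ := mem_VV.1 h1
  exact ⟨b', h.symm⟩

/-- the elements of `N(VQ)` acting trivially on `VQ / VV` -/
def N0 : Subgroup G where
  carrier := {x | x ∈ normalizer (VQ A T π : Set G) ∧ ∀ r ∈ RR A T, ∃ b : F, x * r * x⁻¹ = r * π (up b)}
  one_mem' := ⟨one_mem _, fun r _ => ⟨0, by rw [H.u0]; group⟩⟩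
  mul_mem' := by
    rintro x y ⟨hx, hx'⟩ ⟨hy, hy'⟩
    refine ⟨mul_mem hx hy, fun r hr => ?_⟩
    obtain ⟨b, hb⟩ := hy' r hr
    obtain ⟨c, hc⟩ := hx' r hr
    obtain ⟨b', hb'⟩ := H.norm_u hx b
    refine ⟨c + b', ?_⟩
    calc x * y * r * (x * y)⁻¹ = x * (y * r * y⁻¹) * x⁻¹ := by group
      _ = x * (r * π (up b)) * x⁻¹ := by rw [hb]
      _ = (x * r * x⁻¹) * (x * π (up b) * x⁻¹) := by group
      _ = r * π (up (c + b')) := by rw [hc, hb', mul_assoc, H.uadd]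
  inv_mem' := by
    rintro x ⟨hx, hx'⟩
    refine ⟨inv_mem hx, fun r hr => ?_⟩
    obtain ⟨b, hb⟩ := hx' r hr
    obtain ⟨b', hb'⟩ := H.norm_u (inv_mem hx) b
    refine ⟨-b', ?_⟩
    rw [inv_inv] at hb' ⊢
    have h1 : x * r = r * π (up b) * x := mul_inv_eq_iff_eq_mul.1 hb
    calc x⁻¹ * r * x = x⁻¹ * (r * π (up b) * x) * (x⁻¹ * (π (up b))⁻¹ * x) := by group
      _ = x⁻¹ * (x * r) * (x⁻¹ * (π (up b))⁻¹ * x) := by rw [h1]
      _ = r * (x⁻¹ * π (up b) * x)⁻¹ := by group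
      _ = r * π (up (-b')) := by rw [hb', ← map_inv, up_inv]

theorem mem_N0 {x : G} : x ∈ H.N0 ↔ x ∈ normalizer (VQ A T π : Set G) ∧
    ∀ r ∈ RR A T, ∃ b : F, x * r * x⁻¹ = r * π (up b) := Iff.rfl

/-- `N0` is normal in `N(VQ)` -/
theorem N0_conj {n x : G} (hn : n ∈ normalizer (VQ A T π : Set G)) (hx : x ∈ H.N0) : n * x * n⁻¹ ∈ H.N0 := by
  obtain ⟨hxN, hx'⟩ := hx
  refine ⟨mul_mem (mul_mem hn hxN) (inv_mem hn), fun r hr => ?_⟩
  -- `n⁻¹ r n = s u(b)`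
  obtain ⟨s, hs, b, hsb⟩ := H.mem_VQ.1 ((mem_normalizer_iff.1 (inv_mem hn) r).1 (H.RVQ hr))
  obtain ⟨c, hc⟩ := hx' s hs
  obtain ⟨b', hb'⟩ := H.norm_u hxN b
  obtain ⟨d, hd⟩ := H.norm_u hn (-b + (c + b'))
  refine ⟨d, ?_⟩
  rw [inv_inv] at hsb
  have h2 : x * (n⁻¹ * r * n) * x⁻¹ = (n⁻¹ * r * n) * π (up (-b + (c + b'))) := by
    calc x * (n⁻¹ * r * n) * x⁻¹ = (x * s * x⁻¹) * (x * π (up b) * x⁻¹) := by rw [hsb]; group
      _ = s * π (up (c + b')) := by rw [hc, hb', mul_assoc, H.uadd]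
      _ = (s * π (up b)) * π (up (-b + (c + b'))) := by
        rw [mul_assoc, H.uadd]; congr 3; ring
      _ = _ := by rw [hsb]
  calc n * x * n⁻¹ * r * (n * x * n⁻¹)⁻¹ = n * (x * (n⁻¹ * r * n) * x⁻¹) * n⁻¹ := by group
    _ = r * (n * π (up (-b + (c + b'))) * n⁻¹) := by rw [h2]; group
    _ = r * π (up d) := by rw [hd]

theorem tor_mem_N0 {h : G} (hN : h ∈ normalizer (VQ A T π : Set G)) (hr : ∀ r ∈ RR A T, h * r = r * h) :
    h ∈ H.N0 :=
  ⟨hN, fun r hr' => ⟨0, by rw [H.u0, hr r hr', mul_inv_cancel_right, mul_one]⟩⟩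

theorem exists_two : ∃ r ∈ RR A T, ∃ s ∈ RR A T, f r ≠ 0 ∧ f s ≠ 0 ∧ f r ≠ f s := by
  obtain ⟨r, hr, s, hs, hr2, hs2, -, hne⟩ := H.two
  have hr1 : r ≠ 1 := by
    rintro rfl; rw [orderOf_one] at hr2; omega
  have hs1 : s ≠ 1 := by
    rintro rfl; rw [orderOf_one] at hs2; omega
  refine ⟨r, hr, s, hs, fun h => hr1 (H.gf.f_inj r hr h), fun h => hs1 (H.gf.f_inj s hs h), fun h => hne ?_⟩
  have h1 : f (r * s) = 0 := by
    rw [H.gf.f_add r hr s hs, h, CharTwo.add_self_eq_zero]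
  have h2 := H.gf.f_inj _ (mul_mem hr hs) h1
  have h3 : s = r⁻¹ := eq_inv_of_mul_eq_one_right h2
  rw [h3]
  exact (inv_eq_of_mul_eq_one_left (H.rsq hr)).symm

/-- there is an element `≠ 0, 1` in `F` -/
theorem exists_ne : ∃ c : F, c ≠ 0 ∧ c ≠ 1 := by
  classical
  by_contra h
  push Not at h
  have h8 := H.q8
  have := Fintype.ofFinite F
  have h1 : (Finset.univ : Finset F) ⊆ {0, 1} := by
    intro x _
    by_cases hx : x = 0
    · simp [hx]
    · simp [h x hx]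
  have h2 := Finset.card_le_card h1
  have h3 : ({0, 1} : Finset F).card ≤ 2 := Finset.card_le_two
  rw [Finset.card_univ, ← Nat.card_eq_fintype_card] at h2
  omega

/-- `N0` moves `R` -/
theorem exists_moves : ∃ x ∈ H.N0, ∃ r ∈ RR A T, x * r ≠ r * x := by
  by_contra hcon
  push Not at hcon
  obtain ⟨Z, hZ, hgr⟩ := H.gf.gr 1
  obtain ⟨n, hn, hnZ⟩ := H.toPr.exists_norm hZ
  obtain ⟨c, hc0, hc1⟩ := H.exists_ne
  obtain ⟨h, hA, hN, hhr, hhu⟩ := H.toPr.exists_tor c hc0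
  obtain ⟨r, hr, -, -, hfr, -⟩ := H.exists_two
  have hz : r * π (up (f r)) ∈ Z := by
    rw [hgr]
    exact ⟨r, hr, by rw [one_mul]⟩
  rw [← hnZ, mem_cj] at hz
  have h1 := H.N0_conj (inv_mem hn) (H.tor_mem_N0 hN hhr)
  have h2 := hcon _ h1 _ hz
  rw [inv_inv] at h2
  have h3 : h * (r * π (up (f r))) = r * π (up (f r)) * h := by
    calc h * (r * π (up (f r))) = n * (n⁻¹ * h * n * (n⁻¹ * (r * π (up (f r))) * n)) * n⁻¹ := by group
      _ = _ := by rw [h2]; group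
  have h4 : h * (r * π (up (f r))) * h⁻¹ = r * π (up (c * f r)) := by
    have e : h * (r * π (up (f r))) * h⁻¹ = (h * r * h⁻¹) * (h * π (up (f r)) * h⁻¹) := by group
    rw [e, hhr r hr, mul_inv_cancel_right, hhu]
  rw [h3, mul_inv_cancel_right] at h4
  have h5 := (H.uniq hr hr h4).2
  apply hc1
  have h6 : (1 - c) * f r = 0 := by linear_combination h5
  rcases mul_eq_zero.1 h6 with h | h
  · exact (sub_eq_zero.1 h).symm
  · exact absurd h hfr

/-- the action of `N0` on `R` -/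
theorem N0_R {x : G} (hx : x ∈ H.N0) : ∃ c : F, ∀ r ∈ RR A T, x * r * x⁻¹ = r * π (up (c * f r)) := by
  obtain ⟨c, hc⟩ := H.all_gr (H.toPr.cj_mem_LL hx.1 H.toPr.R_mem_LL)
  refine ⟨c, fun r hr => ?_⟩
  obtain ⟨b, hb⟩ := hx.2 r hr
  obtain ⟨s, hs, h1⟩ := (hc _).1 (mem_cj_mul (g := x) hr)
  rw [hb] at h1
  obtain ⟨rfl, h2⟩ := H.uniq hr hs h1
  rw [hb, h2]

/-- **all translations are realized** -/
theorem exists_transl (c : F) : ∃ x ∈ H.N0, (∀ a, x * π (up a) = π (up a) * x) ∧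
    ∀ r ∈ RR A T, x * r * x⁻¹ = r * π (up (c * f r)) := by
  have htor : ∀ c : Fˣ, ∃ h ∈ H.N0, (∀ r ∈ RR A T, h * r = r * h) ∧
      ∀ b, h * π (up b) * h⁻¹ = π (up ((c : F) * b)) := by
    intro c
    obtain ⟨h, hA, hN, hhr, hhu⟩ := H.toPr.exists_tor c c.ne_zero
    exact ⟨h, H.tor_mem_N0 hN hhr, hhr, hhu⟩
  choose h hN hhr hhu using htor
  have HA : RkAff.Aff (RR A T) (fun b => π (up b)) h f H.N0 :=
    { u_add := fun a b => (H.uadd a b).symm
      u_inj := fun a b hab => H.uinj hab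
      comm := fun r hr a => (H.ru hr a).symm
      disj := fun a ha => H.uinj (by rw [eq_one_of_cent H.P (H.P.mem _) ha.2, H.u0])
      h_u := hhu
      h_R := hhr
      h_N := hN
      f_add := H.gf.f_add
      f_inj := H.gf.f_inj
      N_u := fun x hx a => H.norm_u hx.1 a
      N_R := fun x hx => H.N0_R hx
      N_tr := H.exists_moves
      two := H.exists_two }
  exact HA.exists_transl_all c

end Af

end Cfsg.Agent.OddHalf.D4.Rk2
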