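import Cfsg.Agent.OddHalf.D4.Rk2.Memb

/-!
# D4, `K = L₂(q)`: the dichotomy

Either no member other than `R` meets the root group, and the members are the graphs of `c f`, `c ∈ F`, or the members
are `R` and the root group.
-/

set_option autoImplicit false
set_option linter.unusedSectionVars false

namespace Cfsg.Agent.OddHalf.D4.Rk2

open Subgroup Cfsg.Agent.StdL2.Frame Cfsg.Agent.StdL2.Field
open Cfsg.Agent.StdL2.FrameFT (VV mem_VV up_mem_VV VV_le VV_sq card_VV)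
open Cfsg.Agent.Lib.SL2Mat Cfsg.Agent.Lib.AutSL2
open Cfsg.Agent.OddHalf.D4.CommConj (cj mem_cj cj_mul card_cj cj_eq_of_mem_normalizer mem_normalizer_of_cj_eq
  mem_cj_mul Tight)
open Cfsg.Agent.OddHalf.D4.Basic (IsSyl exists_isSyl orderOf_conj)

local notation "SL2" => Matrix.SpecialLinearGroup (Fin 2)

universe u

variable {F : Type*} [Field F] {G : Type u} [Group G] {A T : Subgroup G} {π : SL2 F →* G}

/-- `Z` is the graph of `c f` -/
def IsGr (A T : Subgroup G) (π : SL2 F →* G) (f : G → F) (c : F) (Z : Subgroup G) : Prop :=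
  ∀ z, z ∈ Z ↔ ∃ r ∈ RR A T, z = r * π (up (c * f r))

/-- the function of a type I member -/
structure Gf (A T : Subgroup G) (π : SL2 F →* G) (f : G → F) : Prop where
  f_add : ∀ r ∈ RR A T, ∀ s ∈ RR A T, f (r * s) = f r + f s
  f_inj : ∀ r ∈ RR A T, f r = 0 → r = 1
  gr : ∀ c, ∃ Z ∈ LL A T π, IsGr A T π f c Z

namespace Pr

variable [Finite F] [CharP F 2] [Finite G] (H : Pr A T π)
include H

theorem exists_gf {Y : Subgroup G} (hY : Y ∈ LL A T π) (hYR : Y ≠ RR A T) (hYV : ¬ Y ≤ VV π) :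
    ∃ f, Gf A T π f ∧ IsGr A T π f 1 Y := by
  classical
  have hnz : ∀ b : F, π (up b) ∈ Y → b = 0 := by
    intro b hb
    by_contra h
    exact hYV (H.le_VV_of_meet hY h hb)
  have key : ∀ y : Y, ∃ r : RR A T, ∃ b : F, (y : G) = r * π (up b) := by
    intro y
    obtain ⟨r, hr, b, h⟩ := H.mem_VQ.1 (hY.1 y.2)
    exact ⟨⟨r, hr⟩, b, h⟩
  choose p b hpb using key
  have hpinj : Function.Injective p := by
    intro y z hyz
    have h1 : (y : G)⁻¹ * z = π (up (-b y + b z)) := by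
      rw [hpb y, hpb z, hyz, ← up_mul, map_mul, ← up_inv, map_inv]
      group
    have h2 := hnz _ (h1 ▸ Y.mul_mem (Y.inv_mem y.2) z.2)
    rw [h2, H.u0] at h1
    exact Subtype.ext (inv_mul_eq_one.1 h1)
  have hcard : Nat.card Y = Nat.card (RR A T) := H.LL_card hY
  have hpbij : Function.Bijective p :=
    (Nat.bijective_iff_injective_and_card p).2 ⟨hpinj, hcard⟩
  have hs : ∀ r : RR A T, ∃ c : F, (r : G) * π (up c) ∈ Y := by
    intro r
    obtain ⟨y, hy⟩ := hpbij.2 r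
    refine ⟨b y, ?_⟩
    rw [← hy, ← hpb y]; exact y.2
  choose f0 hf0 using hs
  have huniq : ∀ r : RR A T, ∀ c : F, (r : G) * π (up c) ∈ Y → c = f0 r := by
    intro r c hc
    have h1 : ((r : G) * π (up c))⁻¹ * ((r : G) * π (up (f0 r))) = π (up (-c + f0 r)) := by
      rw [← up_mul, map_mul, ← up_inv, map_inv]; group
    have h2 := hnz _ (h1 ▸ Y.mul_mem (Y.inv_mem hc) (hf0 r))
    linear_combination -h2
  let f : G → F := fun x => if h : x ∈ RR A T then f0 ⟨x, h⟩ else 0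
  have hf : ∀ (x : G) (h : x ∈ RR A T), f x = f0 ⟨x, h⟩ := fun x h => dif_pos h
  have hfY : ∀ r ∈ RR A T, r * π (up (f r)) ∈ Y := by
    intro r hr
    rw [hf r hr]; exact hf0 ⟨r, hr⟩
  have hgr1 : IsGr A T π f 1 Y := by
    intro z
    constructor
    · intro hz
      refine ⟨p ⟨z, hz⟩, (p ⟨z, hz⟩).2, ?_⟩
      have h1 := hpb ⟨z, hz⟩
      rw [one_mul, hf _ (p ⟨z, hz⟩).2, ← huniq _ (b ⟨z, hz⟩) (by rw [← h1]; exact hz)]
      exact h1
    · rintro ⟨r, hr, rfl⟩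
      rw [one_mul]; exact hfY r hr
  refine ⟨f, ⟨?_, ?_, ?_⟩, hgr1⟩
  · intro r hr s hs
    have h1 : (r * s) * π (up (f r + f s)) ∈ Y := by
      have e : (r * s) * π (up (f r + f s)) = (r * π (up (f r))) * (s * π (up (f s))) := by
        rw [← H.uadd]
        calc r * s * (π (up (f r)) * π (up (f s))) = r * (s * π (up (f r))) * π (up (f s)) := by group
          _ = _ := by rw [H.ru hs]; group
      rw [e]; exact mul_mem (hfY r hr) (hfY s hs)
    rw [hf (r * s) (mul_mem hr hs)]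
    exact (huniq ⟨r * s, mul_mem hr hs⟩ _ h1).symm
  · intro r hr h0
    have h1 := hfY r hr
    rw [h0, H.u0, mul_one] at h1
    by_contra hr1
    exact hYR (H.LL_eq hY H.R_mem_LL h1 hr hr1)
  · intro c
    by_cases hc : c = 0
    · refine ⟨RR A T, H.R_mem_LL, fun z => ⟨fun hz => ⟨z, hz, ?_⟩, ?_⟩⟩
      · rw [hc, zero_mul, H.u0, mul_one]
      · rintro ⟨r, hr, rfl⟩
        rw [hc, zero_mul, H.u0, mul_one]; exact hr
    · obtain ⟨h, hA, hN, hhr, hhu⟩ := H.exists_tor c hc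
      have hconj : ∀ r ∈ RR A T, ∀ b : F, h * (r * π (up b)) * h⁻¹ = r * π (up (c * b)) := by
        intro r hr b
        have e : h * (r * π (up b)) * h⁻¹ = (h * r * h⁻¹) * (h * π (up b) * h⁻¹) := by group
        rw [e, hhr r hr, mul_inv_cancel_right, hhu]
      refine ⟨cj h Y, H.cj_mem_LL hN hY, fun z => ⟨?_, ?_⟩⟩
      · rintro ⟨y, hy, rfl⟩
        obtain ⟨r, hr, rfl⟩ := (hgr1 y).1 hy
        refine ⟨r, hr, ?_⟩
        show h * (r * π (up (1 * f r))) * h⁻¹ = _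
        rw [hconj r hr, one_mul]
      · rintro ⟨r, hr, rfl⟩
        rw [← hconj r hr]
        exact mem_cj_mul (hfY r hr)

end Pr

namespace Gf

variable [Finite F] [CharP F 2] [Finite G] {f : G → F} (L : Gf A T π f) (H : Pr A T π)
include L H

theorem f_one : f 1 = 0 := by
  have := L.f_add 1 (one_mem _) 1 (one_mem _)
  rw [one_mul] at this
  linear_combination -this

/-- the elements of `VQ` outside the root group are covered -/
theorem cover {v : G} (hv : v ∈ VQ A T π) (hv1 : v ∉ VV π) :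
    ∃ c, ∃ Z ∈ LL A T π, IsGr A T π f c Z ∧ v ∈ Z := by
  obtain ⟨r, hr, b, rfl⟩ := H.mem_VQ.1 hv
  have hr1 : r ≠ 1 := by
    rintro rfl
    exact hv1 (by rw [one_mul]; exact up_mem_VV b)
  have hfr : f r ≠ 0 := fun h => hr1 (L.f_inj r hr h)
  obtain ⟨Z, hZ, hgr⟩ := L.gr (b / f r)
  refine ⟨b / f r, Z, hZ, hgr, (hgr _).2 ⟨r, hr, ?_⟩⟩
  rw [div_mul_cancel₀ _ hfr]

/-- the members which are not in the root group -/
theorem isGr_of {Z : Subgroup G} (hZ : Z ∈ LL A T π) (hZV : ¬ Z ≤ VV π) : ∃ c, IsGr A T π f c Z := by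
  obtain ⟨z, hz, hzV⟩ := SetLike.not_le_iff_exists.1 hZV
  obtain ⟨c, Z', hZ', hgr, hz'⟩ := L.cover H (hZ.1 hz) hzV
  have hz1 : z ≠ 1 := by
    rintro rfl
    exact hzV (one_mem _)
  rw [H.LL_eq hZ hZ' hz hz' hz1]
  exact ⟨c, hgr⟩

end Gf

namespace Pr

variable [Finite F] [CharP F 2] [Finite G] (H : Pr A T π)
include H

/-- if a member is contained in the root group then the root group is covered -/
theorem cover_VV {Y : Subgroup G} (hY : Y ∈ LL A T π) (hYV : Y ≤ VV π) {w : G} (hw : w ∈ VV π) (hw1 : w ≠ 1) :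
    ∃ Z ∈ LL A T π, Z ≤ VV π ∧ w ∈ Z := by
  have hY1 : ∃ y ∈ Y, y ≠ 1 := by
    by_contra h
    push Not at h
    have h1 := H.LL_card hY
    have h2 : Nat.card Y ≤ 1 := by
      have : Subsingleton Y := ⟨fun a b => Subtype.ext (by rw [h a a.2, h b b.2])⟩
      exact Finite.card_le_one_iff_subsingleton.2 this
    have := H.card_R
    omega
  obtain ⟨y, hy, hy1⟩ := hY1
  obtain ⟨b0, rfl⟩ := mem_VV.1 (hYV hy)
  obtain ⟨b, rfl⟩ := mem_VV.1 hw
  have hb0 : b0 ≠ 0 := by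
    rintro rfl; exact hy1 H.u0
  have hb : b ≠ 0 := by
    rintro rfl; exact hw1 H.u0
  obtain ⟨h, hA, hN, hhr, hhu⟩ := H.exists_tor (b / b0) (div_ne_zero hb hb0)
  have h1 : h * π (up b0) * h⁻¹ = π (up b) := by rw [hhu, div_mul_cancel₀ _ hb0]
  have h2 : π (up b) ∈ cj h Y := by rw [← h1]; exact mem_cj_mul hy
  exact ⟨cj h Y, H.cj_mem_LL hN hY, H.le_VV_of_meet (H.cj_mem_LL hN hY) hb h2, h2⟩

/-- **no type I member**: then the root group is a member -/
theorem VV_mem_LL {Y : Subgroup G} (hY : Y ∈ LL A T π) (hYV : Y ≤ VV π)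
    (hall : ∀ Z ∈ LL A T π, Z ≠ RR A T → Z ≤ VV π) : VV π ∈ LL A T π := by
  by_cases hc : VV π ≤ Y
  · rw [le_antisymm hc hYV]; exact hY
  exfalso
  obtain ⟨w, hw, hwY⟩ := SetLike.not_le_iff_exists.1 hc
  have hw1 : w ≠ 1 := by
    rintro rfl; exact hwY (one_mem _)
  obtain ⟨Z1, hZ1, hZ1V, hwZ1⟩ := H.cover_VV hY hYV hw hw1
  have hY1 : ∃ y ∈ Y, y ≠ 1 := by
    by_contra h
    push Not at h
    have h1 := H.LL_card hY
    have h2 : Nat.card Y ≤ 1 := by
      have : Subsingleton Y := ⟨fun a b => Subtype.ext (by rw [h a a.2, h b b.2])⟩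
      exact Finite.card_le_one_iff_subsingleton.2 this
    have := H.card_R
    omega
  obtain ⟨y, hy, hy1⟩ := hY1
  have hyw : y * w ∈ VV π := mul_mem (hYV hy) hw
  have hyw1 : y * w ≠ 1 := by
    intro h
    apply hwY
    have : w = y⁻¹ := eq_inv_of_mul_eq_one_right h
    rw [this]; exact inv_mem hy
  obtain ⟨Z, hZ, hZV, hywZ⟩ := H.cover_VV hY hYV hyw hyw1
  have hZY : Y ≠ Z := by
    rintro rfl
    apply hwY
    have : w = y⁻¹ * (y * w) := by group
    rw [this]; exact mul_mem (inv_mem hy) hywZ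
  have hZZ1 : Z1 ≠ Z := by
    rintro rfl
    have h1 : y ∈ Z1 := by
      have : y = y * w * w⁻¹ := by group
      rw [this]; exact mul_mem hywZ (inv_mem hwZ1)
    exact hZY (H.LL_eq hY hZ1 hy h1 hy1)
  obtain ⟨n, hn, hnZ⟩ := H.exists_norm hZ
  have key : ∀ X ∈ LL A T π, X ≠ Z → X ≤ cj n (VV π) := by
    intro X hX hXZ
    have h1 : cj n⁻¹ X ≤ VV π := by
      apply hall _ (H.cj_mem_LL (inv_mem hn) hX)
      intro h
      apply hXZ
      rw [← hnZ, ← h, cj_cj_inv]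
    have := cj_mono n h1
    rwa [cj_cj_inv] at this
  have h1 : y * w ∈ cj n (VV π) := mul_mem (key Y hY hZY hy) (key Z1 hZ1 hZZ1 hwZ1)
  have h2 : y * w ∈ cj n (RR A T) := by rw [hnZ]; exact hywZ
  rw [mem_cj] at h1 h2
  have h3 := eq_one_of_cent H.P (VV_le H.P h1) h2.2
  apply hyw1
  have : y * w = n * (n⁻¹ * (y * w) * n) * n⁻¹ := by group
  rw [this, h3]; group

end Pr

/-! ### no mixed case -/

theorem card_ne_add_one {α : Type*} [Finite α] (a : α) : Nat.card {x : α // x ≠ a} + 1 = Nat.card α := by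
  classical
  rw [← Finite.card_option]
  exact Nat.card_congr (Equiv.optionSubtypeNe a)

namespace Pr

variable [Finite F] [CharP F 2] [Finite G] (H : Pr A T π)
include H

/-- counting: the members in `W` partition `W` -/
theorem card_part {W : Subgroup G} (hW : ∀ w ∈ W, w ≠ 1 → ∃ Z ∈ LL A T π, w ∈ Z ∧ Z ≤ W) :
    Nat.card {Z : LL A T π // (Z : Subgroup G) ≤ W} * Nat.card {r : RR A T // r ≠ 1} =
      Nat.card {w : W // w ≠ 1} := by
  have hg : ∀ Z : LL A T π, ∃ g : G, (Z : Subgroup G) = cj g (RR A T) := fun Z => Z.2.2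
  choose g hg using hg
  rw [← Nat.card_prod]
  refine Nat.card_congr (Equiv.ofBijective
    (fun x : {Z : LL A T π // (Z : Subgroup G) ≤ W} × {r : RR A T // r ≠ 1} =>
      (⟨⟨g x.1.1 * x.2.1 * (g x.1.1)⁻¹, x.1.2 (by rw [hg x.1.1]; exact mem_cj_mul x.2.1.2)⟩, ?_⟩ :
        {w : W // w ≠ 1})) ⟨?_, ?_⟩)
  · intro h
    have h1 : g x.1.1 * x.2.1 * (g x.1.1)⁻¹ = 1 := congrArg Subtype.val h
    apply x.2.2
    apply Subtype.ext
    have h2 : g x.1.1 * x.2.1 = g x.1.1 := mul_inv_eq_one.1 h1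
    exact mul_eq_left.1 h2
  · rintro ⟨⟨Z, hZ⟩, ⟨r, hr⟩⟩ ⟨⟨Z', hZ'⟩, ⟨r', hr'⟩⟩ h
    have h1 : g Z * r * (g Z)⁻¹ = g Z' * r' * (g Z')⁻¹ := by
      have := congrArg (fun w : {w : W // w ≠ 1} => ((w : W) : G)) h
      exact this
    have h2 : (Z : Subgroup G) = Z' := by
      apply H.LL_eq Z.2 Z'.2 (y := g Z * r * (g Z)⁻¹)
      · rw [hg Z]; exact mem_cj_mul r.2
      · rw [h1, hg Z']; exact mem_cj_mul r'.2
      · intro h3
        apply hr
        apply Subtype.ext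
        have h4 : g Z * r = g Z := mul_inv_eq_one.1 h3
        exact mul_eq_left.1 h4
    have h3 : Z = Z' := Subtype.ext h2
    subst h3
    have h4 : (r : G) = r' := mul_left_cancel (mul_right_cancel h1)
    have h5 : r = r' := Subtype.ext h4
    subst h5
    rfl
  · rintro ⟨⟨w, hw⟩, hw1⟩
    have hw1' : w ≠ 1 := fun h => hw1 (Subtype.ext h)
    obtain ⟨Z, hZ, hwZ, hZW⟩ := hW w hw hw1'
    have h1 : w ∈ cj (g ⟨Z, hZ⟩) (RR A T) := by rw [← hg ⟨Z, hZ⟩]; exact hwZ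
    rw [mem_cj] at h1
    refine ⟨⟨⟨⟨Z, hZ⟩, hZW⟩, ⟨⟨(g ⟨Z, hZ⟩)⁻¹ * w * g ⟨Z, hZ⟩, h1⟩, ?_⟩⟩, ?_⟩
    · intro h
      have h2 : (g ⟨Z, hZ⟩)⁻¹ * w * g ⟨Z, hZ⟩ = 1 := congrArg Subtype.val h
      apply hw1'
      have : w = g ⟨Z, hZ⟩ * ((g ⟨Z, hZ⟩)⁻¹ * w * g ⟨Z, hZ⟩) * (g ⟨Z, hZ⟩)⁻¹ := by group
      rw [this, h2]; group
    · apply Subtype.ext
      apply Subtype.ext
      show g ⟨Z, hZ⟩ * ((g ⟨Z, hZ⟩)⁻¹ * w * g ⟨Z, hZ⟩) * (g ⟨Z, hZ⟩)⁻¹ = w
      group

/-- `Z ≤ ι(Y)` -/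
def Adj (_H : Pr A T π) (Y Z : Subgroup G) : Prop :=
  ∃ n ∈ normalizer (VQ A T π : Set G), cj n (RR A T) = Y ∧ Z ≤ cj n (VV π)

theorem adj_iff {n : G} (hn : n ∈ normalizer (VQ A T π : Set G)) {Z : Subgroup G} :
    H.Adj (cj n (RR A T)) Z ↔ Z ≤ cj n (VV π) := by
  constructor
  · rintro ⟨m, hm, hmn, hZ⟩
    have h1 : cj (n⁻¹ * m) (RR A T) = RR A T := by rw [cj_mul, hmn, cj_inv_cj]
    have h2 := H.cj_VV_of_mem_M (mul_mem (inv_mem hn) hm) (H.mem_M_of_cj h1)
    have h3 : cj m (VV π) = cj n (VV π) := by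
      have := congrArg (cj n) h2
      rwa [← cj_mul, mul_inv_cancel_left] at this
    rw [← h3]; exact hZ
  · intro hZ
    exact ⟨n, hn, rfl, hZ⟩

theorem adj_R {Z : Subgroup G} : H.Adj (RR A T) Z ↔ Z ≤ VV π := by
  have := H.adj_iff (one_mem _) (Z := Z)
  rwa [cj_one, cj_one] at this

theorem adj_cj {n : G} (hn : n ∈ normalizer (VQ A T π : Set G)) {Y Z : Subgroup G} (h : H.Adj Y Z) :
    H.Adj (cj n Y) (cj n Z) := by
  obtain ⟨m, hm, rfl, hZ⟩ := h
  refine ⟨n * m, mul_mem hn hm, cj_mul n m _, ?_⟩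
  rw [cj_mul]; exact cj_mono n hZ

theorem VV_inf_R {x : G} (hx : x ∈ VV π) (hxR : x ∈ RR A T) : x = 1 :=
  eq_one_of_cent H.P (VV_le H.P hx) hxR.2

theorem not_R_le {n : G} : ¬ cj n (RR A T) ≤ cj n (VV π) := by
  intro h
  have h1 : RR A T ≤ VV π := by
    have := cj_mono n⁻¹ h
    rwa [cj_inv_cj, cj_inv_cj] at this
  obtain ⟨r, hr, hr2⟩ := H.exists_r
  have h2 := H.VV_inf_R (h1 hr) hr
  rw [h2, orderOf_one] at hr2
  omega

/-- **no mixed case** -/
theorem no_mixed {Y : Subgroup G} (hY : Y ∈ LL A T π) (hYV : Y ≤ VV π) {Z : Subgroup G} (hZ : Z ∈ LL A T π)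
    (hZR : Z ≠ RR A T) (hZV : ¬ Z ≤ VV π) : False := by
  classical
  obtain ⟨f, hf, -⟩ := H.exists_gf hZ hZR hZV
  have hfin : Finite (LL A T π) := Subtype.finite
  have hcr := card_ne_add_one (1 : RR A T)
  have hcV := card_ne_add_one (1 : VQ A T π)
  have hcW := card_ne_add_one (1 : (VV π : Subgroup G))
  have h4 := H.card_R
  have h8 := H.q8
  have hcq := card_VV H.P
  have hcVQ := H.card_VQ
  -- parity of `|R|` and `|F|`
  have : Fact (Nat.Prime 2) := ⟨Nat.prime_two⟩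
  have h2R : 2 ∣ Nat.card (RR A T) := by
    obtain ⟨n, hn⟩ := IsPGroup.iff_card.1 H.toFr.R2
    rw [hn] at h4 ⊢
    exact dvd_pow_self 2 (by rintro rfl; simp at h4)
  have h2F : 2 ∣ Nat.card F := by
    obtain ⟨n, hn⟩ := IsPGroup.iff_card.1 (H.V2.to_le H.VVQ)
    rw [← hcq, hn]
    rw [← hcq, hn] at h8
    exact dvd_pow_self 2 (by rintro rfl; simp at h8)
  -- the counts
  have hκ := H.card_part (W := VV π) (fun w hw hw1 => by
    obtain ⟨Z, hZ, hZV, hwZ⟩ := H.cover_VV hY hYV hw hw1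
    exact ⟨Z, hZ, hwZ, hZV⟩)
  have hL := H.card_part (W := VQ A T π) (fun w hw hw1 => by
    by_cases hwV : w ∈ VV π
    · obtain ⟨Z, hZ, hZV, hwZ⟩ := H.cover_VV hY hYV hwV hw1
      exact ⟨Z, hZ, hwZ, hZ.1⟩
    · obtain ⟨c, Z, hZ, -, hwZ⟩ := hf.cover H hw hwV
      exact ⟨Z, hZ, hwZ, hZ.1⟩)
  have hLall : Nat.card {Z : LL A T π // (Z : Subgroup G) ≤ VQ A T π} = Nat.card (LL A T π) :=
    Nat.card_congr (Equiv.subtypeUnivEquiv fun Z => Z.2.1)
  rw [hLall] at hL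
  set κ := Nat.card {Z : LL A T π // (Z : Subgroup G) ≤ VV π} with hκdef
  set ℓ := Nat.card (LL A T π) with hℓdef
  have hκodd : Odd κ := by
    have h1 : Odd (κ * Nat.card {r : RR A T // r ≠ 1}) := by
      rw [hκ]
      obtain ⟨k, hk⟩ := h2F
      exact ⟨k - 1, by omega⟩
    exact (Nat.odd_mul.1 h1).1
  have hℓodd : Odd ℓ := by
    have h1 : Odd (ℓ * Nat.card {r : RR A T // r ≠ 1}) := by
      rw [hL]
      obtain ⟨k, hk⟩ := h2F
      have h5 : 2 ∣ Nat.card (VQ A T π) := by rw [hcVQ]; exact Dvd.dvd.mul_left ⟨k, hk⟩ _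
      obtain ⟨j, hj⟩ := h5
      have h6 : 0 < Nat.card (VQ A T π) := Nat.card_pos
      exact ⟨j - 1, by omega⟩
    exact (Nat.odd_mul.1 h1).1
  -- rows
  have hrow : ∀ Y : LL A T π, Nat.card {Z : LL A T π // H.Adj Y Z} = κ := by
    intro Y
    obtain ⟨n, hn, hnY⟩ := H.exists_norm Y.2
    have hiff : ∀ Z : Subgroup G, H.Adj Y Z ↔ Z ≤ cj n (VV π) := by
      intro Z
      rw [← hnY]; exact H.adj_iff hn
    refine Nat.card_congr
      { toFun := fun Z => ⟨⟨cj n⁻¹ Z.1, H.cj_mem_LL (inv_mem hn) Z.1.2⟩, ?_⟩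
        invFun := fun Z => ⟨⟨cj n Z.1, H.cj_mem_LL hn Z.1.2⟩, ?_⟩
        left_inv := ?_
        right_inv := ?_ }
    · have := cj_mono n⁻¹ ((hiff _).1 Z.2)
      rwa [cj_inv_cj] at this
    · exact (hiff _).2 (cj_mono n Z.2)
    · intro Z
      apply Subtype.ext
      apply Subtype.ext
      exact cj_cj_inv n _
    · intro Z
      apply Subtype.ext
      apply Subtype.ext
      exact cj_inv_cj n _
  -- columns
  have hcol : ∀ Z : LL A T π, Nat.card {Y : LL A T π // H.Adj Y Z} =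
      Nat.card {Y : LL A T π // H.Adj Y (RR A T)} := by
    intro Z
    obtain ⟨n, hn, hnZ⟩ := H.exists_norm Z.2
    refine Nat.card_congr
      { toFun := fun Y => ⟨⟨cj n⁻¹ Y.1, H.cj_mem_LL (inv_mem hn) Y.1.2⟩, ?_⟩
        invFun := fun Y => ⟨⟨cj n Y.1, H.cj_mem_LL hn Y.1.2⟩, ?_⟩
        left_inv := ?_
        right_inv := ?_ }
    · have h1 := H.adj_cj (inv_mem hn) Y.2
      have e : cj n⁻¹ (Z : Subgroup G) = RR A T := by rw [← hnZ, cj_inv_cj]
      rw [e] at h1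
      exact h1
    · have h1 := H.adj_cj hn Y.2
      rw [hnZ] at h1
      exact h1
    · intro Z
      apply Subtype.ext
      apply Subtype.ext
      exact cj_cj_inv n _
    · intro Z
      apply Subtype.ext
      apply Subtype.ext
      exact cj_inv_cj n _
  have hftype : Fintype (LL A T π) := Fintype.ofFinite _
  have hdc : ℓ * κ = ℓ * Nat.card {Y : LL A T π // H.Adj Y (RR A T)} := by
    have h1 := Finset.sum_card_bipartiteAbove_eq_sum_card_bipartiteBelow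
      (s := (Finset.univ : Finset (LL A T π))) (t := (Finset.univ : Finset (LL A T π)))
      (r := fun Y Z : LL A T π => H.Adj Y Z)
    have h2 : ∀ Y : LL A T π, (Finset.bipartiteAbove (fun Y Z : LL A T π => H.Adj Y Z) Finset.univ Y).card = κ := by
      intro Y
      rw [← hrow Y, Nat.card_eq_fintype_card, Fintype.card_subtype]
      rfl
    have h3 : ∀ Z : LL A T π, (Finset.bipartiteBelow (fun Y Z : LL A T π => H.Adj Y Z) Finset.univ Z).card =
        Nat.card {Y : LL A T π // H.Adj Y (RR A T)} := by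
      intro Z
      rw [← hcol Z, Nat.card_eq_fintype_card, Fintype.card_subtype]
      rfl
    rw [Finset.sum_congr rfl (fun Y _ => h2 Y), Finset.sum_congr rfl (fun Z _ => h3 Z),
      Finset.sum_const, Finset.sum_const, Finset.card_univ, smul_eq_mul, smul_eq_mul,
      ← Nat.card_eq_fintype_card] at h1
    exact h1
  have hℓ0 : 0 < ℓ := hℓodd.pos
  have hB : κ = Nat.card {Y : LL A T π // H.Adj Y (RR A T)} := Nat.eq_of_mul_eq_mul_left hℓ0 hdc
  -- the column of `R` is contained in the row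
  have hsub : ∀ Y : LL A T π, H.Adj Y (RR A T) → (Y : Subgroup G) ≤ VV π := by
    intro Y hYR
    by_contra hYV'
    have hYne : (Y : Subgroup G) ≠ RR A T := by
      intro h
      rw [h, H.adj_R] at hYR
      exact H.not_R_le (n := 1) (by rw [cj_one, cj_one]; exact hYR)
    obtain ⟨c, hc⟩ := hf.isGr_of H Y.2 hYV'
    have hc0 : c ≠ 0 := by
      rintro rfl
      apply hYne
      ext z
      rw [hc z]
      constructor
      · rintro ⟨r, hr, rfl⟩
        rw [zero_mul, H.u0, mul_one]; exact hr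
      · intro hz
        exact ⟨z, hz, by rw [zero_mul, H.u0, mul_one]⟩
    -- an injection of `F \ 0` into the column
    have h1 : ∀ d : {d : F // d ≠ 0}, ∃ Z : LL A T π, H.Adj Z (RR A T) ∧ IsGr A T π f (d * c) Z := by
      intro d
      obtain ⟨h, hA, hN, hhr, hhu⟩ := H.exists_tor d d.2
      have hR : cj h (RR A T) = RR A T := by
        have h2 : cj h (RR A T) ≤ RR A T := by
          rintro _ ⟨r, hr, rfl⟩
          show h * r * h⁻¹ ∈ RR A T
          rw [hhr r hr, mul_inv_cancel_right]; exact hr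
        exact eq_of_le_of_card_ge h2 (card_cj _ _).ge
      refine ⟨⟨cj h Y, H.cj_mem_LL hN Y.2⟩, ?_, ?_⟩
      · have := H.adj_cj hN hYR
        rwa [hR] at this
      · intro z
        have hconj : ∀ r ∈ RR A T, ∀ b : F, h * (r * π (up b)) * h⁻¹ = r * π (up (d * b)) := by
          intro r hr b
          have e : h * (r * π (up b)) * h⁻¹ = (h * r * h⁻¹) * (h * π (up b) * h⁻¹) := by group
          rw [e, hhr r hr, mul_inv_cancel_right, hhu]
        constructor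
        · rintro ⟨y, hy, rfl⟩
          obtain ⟨r, hr, rfl⟩ := (hc y).1 hy
          refine ⟨r, hr, ?_⟩
          show h * (r * π (up (c * f r))) * h⁻¹ = _
          rw [hconj r hr, mul_assoc]
        · rintro ⟨r, hr, rfl⟩
          rw [mul_assoc, ← hconj r hr]
          exact mem_cj_mul ((hc _).2 ⟨r, hr, rfl⟩)
    choose Z hZ1 hZ2 using h1
    have hinj : Function.Injective (fun d : {d : F // d ≠ 0} =>
        (⟨Z d, hZ1 d⟩ : {Y : LL A T π // H.Adj Y (RR A T)})) := by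
      intro d e hde
      have h2 : Z d = Z e := congrArg Subtype.val hde
      obtain ⟨r, hr, hr2⟩ := H.exists_r
      have hr1 : r ≠ 1 := by
        rintro rfl; rw [orderOf_one] at hr2; omega
      have hfr : f r ≠ 0 := fun h => hr1 (hf.f_inj r hr h)
      have h3 : r * π (up (d * c * f r)) ∈ (Z e : Subgroup G) := by
        rw [← h2]; exact (hZ2 d _).2 ⟨r, hr, rfl⟩
      obtain ⟨s, hs, hrs⟩ := (hZ2 e _).1 h3
      obtain ⟨rfl, h4⟩ := H.uniq hr hs hrs
      have h5 : (d : F) * c = e * c := mul_right_cancel₀ hfr h4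
      exact Subtype.ext (mul_right_cancel₀ hc0 h5)
    have h2 := Nat.card_le_card_of_injective _ hinj
    rw [← hB] at h2
    have h3 := card_ne_add_one (0 : F)
    have h5 : 3 ≤ Nat.card {r : RR A T // r ≠ 1} := by omega
    have h6 : κ * 3 ≤ κ * Nat.card {r : RR A T // r ≠ 1} := Nat.mul_le_mul_left _ h5
    omega
  have hsup : ∀ Y : LL A T π, (Y : Subgroup G) ≤ VV π → H.Adj Y (RR A T) := by
    intro Y hYV'
    have h1 : Function.Injective (fun Y : {Y : LL A T π // H.Adj Y (RR A T)} =>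
        (⟨Y.1, hsub Y.1 Y.2⟩ : {Y : LL A T π // (Y : Subgroup G) ≤ VV π})) := by
      intro Y Z h
      exact Subtype.ext (congrArg (fun w : {Y : LL A T π // (Y : Subgroup G) ≤ VV π} => w.1) h)
    have h2 := (Nat.bijective_iff_injective_and_card _).2 ⟨h1, hB.symm⟩
    obtain ⟨⟨Z, hZ⟩, hZY⟩ := h2.2 ⟨Y, hYV'⟩
    have h3 : Z = Y := congrArg (fun w : {Y : LL A T π // (Y : Subgroup G) ≤ VV π} => w.1) hZY
    rw [← h3]; exact hZ
  have hsymm : ∀ Y Z : LL A T π, H.Adj Y Z → H.Adj Z Y := by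
    intro Y Z h
    obtain ⟨n, hn, hnY⟩ := H.exists_norm Y.2
    have h1 := h
    rw [← hnY, H.adj_iff hn] at h1
    have h2 : cj n⁻¹ (Z : Subgroup G) ≤ VV π := by
      have := cj_mono n⁻¹ h1
      rwa [cj_inv_cj] at this
    have h3 := H.adj_cj hn (hsup ⟨_, H.cj_mem_LL (inv_mem hn) Z.2⟩ h2)
    rw [hnY] at h3
    have h4 : cj n (cj n⁻¹ (Z : Subgroup G)) = Z := cj_cj_inv n _
    rw [← h4]
    exact h3
  -- the graph
  let Γ : SimpleGraph (LL A T π) :=
    { Adj := fun Y Z => H.Adj Y Z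
      symm := ⟨fun Y Z h => hsymm Y Z h⟩
      loopless := ⟨fun Y h => by
        obtain ⟨n, hn, hnY⟩ := H.exists_norm Y.2
        rw [← hnY, H.adj_iff hn] at h
        exact H.not_R_le h⟩ }
  have hdeg : ∀ Y : LL A T π, Γ.degree Y = κ := by
    intro Y
    rw [← hrow Y, ← SimpleGraph.card_neighborFinset_eq_degree]
    rw [Nat.card_eq_fintype_card, Fintype.card_subtype]
    congr 1
    ext Z
    rw [SimpleGraph.mem_neighborFinset, Finset.mem_filter]
    exact ⟨fun h => ⟨Finset.mem_univ _, h⟩, fun h => h.2⟩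
  have hsum := Γ.sum_degrees_eq_twice_card_edges
  rw [Finset.sum_congr rfl (fun Y _ => hdeg Y), Finset.sum_const, Finset.card_univ, smul_eq_mul,
    ← Nat.card_eq_fintype_card] at hsum
  have hodd : Odd (ℓ * κ) := hℓodd.mul hκodd
  have h9 : ℓ * κ = 2 * Γ.edgeFinset.card := hsum
  rw [h9] at hodd
  exact (Nat.not_odd_iff_even.2 (even_two_mul _)) hodd

/-- **Dichotomy.** -/
theorem dichotomy : (∃ f, Gf A T π f ∧ ∀ Z ∈ LL A T π, ¬ Z ≤ VV π) ∨
    (VV π ∈ LL A T π ∧ ∀ Z ∈ LL A T π, Z = RR A T ∨ Z = VV π) := by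
  obtain ⟨a, ha, hU⟩ := H.full
  have hY0 : cj a (RR A T) ∈ LL A T π := by
    refine ⟨?_, a, rfl⟩
    intro x hx
    exact H.mem_VQ_of_cent (hU hx) (H.toFr.inner ha hU hx)
  have hY0R : cj a (RR A T) ≠ RR A T := fun h => ha (H.mem_M_of_cj h)
  by_cases hII : ∃ Y ∈ LL A T π, Y ≤ VV π
  · right
    obtain ⟨Y, hY, hYV⟩ := hII
    have hall : ∀ Z ∈ LL A T π, Z ≠ RR A T → Z ≤ VV π := by
      intro Z hZ hZR
      by_contra h
      exact H.no_mixed hY hYV hZ hZR h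
    have h1 := H.VV_mem_LL hY hYV hall
    refine ⟨h1, fun Z hZ => ?_⟩
    by_cases hZR : Z = RR A T
    · exact Or.inl hZR
    · right
      apply eq_of_le_of_card_ge (hall Z hZ hZR)
      rw [H.LL_card hZ, H.LL_card h1]
  · left
    push Not at hII
    obtain ⟨f, hf, -⟩ := H.exists_gf hY0 hY0R (hII _ hY0)
    exact ⟨f, hf, hII⟩

end Pr

end Cfsg.Agent.OddHalf.D4.Rk2
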