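import Cfsg.Agent.OddHalf.D4.Rk2.Tone

/-!
# D4, `K = L₂(q)`: the affine case, the group `E₁`

`T₁ / VV` is elementary abelian; `E₁ / VV = [T₁ / VV, h₀]` for a torus element `h₀`: a complement of `VQ / VV`,
invariant under the torus elements and under `S`; `E₁` is abelian, `e² = u(s χ(e))`.
-/

set_option autoImplicit false
set_option linter.unusedSectionVars false

namespace Cfsg.Agent.OddHalf.D4.Rk2

open Subgroup Cfsg.Agent.StdL2.Frame Cfsg.Agent.StdL2.Field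
open Cfsg.Agent.StdL2.FrameFT (VV mem_VV up_mem_VV VV_le VV_sq card_VV sem ent_ne)
open Cfsg.Agent.Lib.SL2Mat Cfsg.Agent.Lib.AutSL2
open Cfsg.Agent.OddHalf.D4.CommConj (cj mem_cj cj_mul card_cj cj_eq_of_mem_normalizer mem_normalizer_of_cj_eq
  mem_cj_mul Tight)
open Cfsg.Agent.OddHalf.D4.Basic (IsSyl exists_isSyl orderOf_conj)

local notation "SL2" => Matrix.SpecialLinearGroup (Fin 2)

universe u

variable {F : Type*} [Field F] {G : Type u} [Group G] {A T S : Subgroup G} {π : SL2 F →* G}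

namespace Sy

variable [Finite F] [CharP F 2] [Finite G] {f : G → F}

section Basic

variable (H : Sy A T S π f)
include H

theorem T1_u {t : G} (ht : t ∈ H.T1) (b : F) : t * π (up b) = π (up b) * t := H.toAf.EE_u ht.2 b

theorem T1_v {t v : G} (ht : t ∈ H.T1) (hv : v ∈ VV π) : t * v = v * t := by
  obtain ⟨b, rfl⟩ := mem_VV.1 hv
  exact H.T1_u ht b

theorem VV_T1 : VV π ≤ H.T1 := fun _ hv => H.VQ_T1 (H.VVQ hv)

theorem R_T1 : RR A T ≤ H.T1 := fun _ hv => H.VQ_T1 (H.RVQ hv)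

theorem chi_T1_mul {x y : G} (hx : x ∈ H.T1) (hy : y ∈ H.T1) : H.chi (x * y) = H.chi x + H.chi y :=
  H.toAf.chi_mul hx.2 hy.2

theorem chi_T1_inv {x : G} (hx : x ∈ H.T1) : H.chi x⁻¹ = H.chi x := H.toAf.chi_inv hx.2

theorem chi_VQ {v : G} (hv : v ∈ VQ A T π) : H.chi v = 0 := (H.toAf.VQ_EE hv).2

/-- squares of `T₁` -/
theorem sq_mem {t : G} (ht : t ∈ H.T1) : t * t ∈ VV π := by
  by_cases h0 : H.chi t = 0
  · rw [H.vsq (H.mem_VQ_of_chi ht h0)]; exact one_mem _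
  have h1 : t * t ∈ VQ A T π := by
    apply H.mem_VQ_of_chi (mul_mem ht ht)
    rw [H.chi_T1_mul ht ht, CharTwo.add_self_eq_zero]
  obtain ⟨r, hr, b, hrb⟩ := H.mem_VQ.1 h1
  have h2 := H.toAf.EE_conj_ru ht.2 hr b
  rw [← hrb] at h2
  have h3 : t * (t * t) * t⁻¹ = t * t := by group
  rw [h3, hrb] at h2
  have h4 := (H.uniq hr hr h2).2
  have h5 : H.chi t * f r = 0 := by linear_combination -h4
  have h6 : f r = 0 := (mul_eq_zero.1 h5).resolve_left h0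
  have h7 := H.gf.f_inj r hr h6
  rw [hrb, h7, one_mul]
  exact up_mem_VV b

/-- commutators of `T₁` -/
theorem comm_mem {x y : G} (hx : x ∈ H.T1) (hy : y ∈ H.T1) : x * y * x⁻¹ * y⁻¹ ∈ VV π := by
  have h1 := H.sq_mem (mul_mem hx hy)
  have h2 := inv_mem (H.sq_mem hx)
  have h3 := inv_mem (H.sq_mem hy)
  have h4 : y⁻¹ * (x * x)⁻¹ * y = (x * x)⁻¹ := by
    rw [mul_assoc, ← H.T1_v hy h2, inv_mul_cancel_left]
  have e : x * y * x⁻¹ * y⁻¹ = (x * y) * (x * y) * (y⁻¹ * (x * x)⁻¹ * y) * (y * y)⁻¹ := by group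
  rw [e, h4]
  exact mul_mem (mul_mem h1 h2) h3

theorem exists_comm_u {x y : G} (hx : x ∈ H.T1) (hy : y ∈ H.T1) : ∃ b, x * y = y * x * π (up b) := by
  obtain ⟨b, hb⟩ := mem_VV.1 (H.comm_mem (inv_mem hx) (inv_mem hy))
  refine ⟨b, ?_⟩
  rw [hb]
  group

/-- `S` normalizes `T₁` -/
theorem S_T1 {s t : G} (hs : s ∈ S) (ht : t ∈ H.T1) : s * t * s⁻¹ ∈ H.T1 :=
  mem_inf.2 ⟨mul_mem (mul_mem hs ht.1) (inv_mem hs), H.toAf.EE_conj (H.S_N hs) ht.2⟩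

theorem S_nT1 {s : G} (hs : s ∈ S) : s ∈ normalizer (H.T1 : Set G) := by
  apply mem_normalizer_of_cj_eq
  have h1 : cj s H.T1 ≤ H.T1 := by
    rintro _ ⟨x, hx, rfl⟩
    exact H.S_T1 hs hx
  exact eq_of_le_of_card_ge h1 (card_cj _ _).ge

/-- `S = T₁ T` -/
theorem S_eq {s : G} (hs : s ∈ S) : ∃ t ∈ H.T1, ∃ m ∈ T, s = t * m := by
  obtain ⟨c, hc⟩ := H.toAf.all_gr (H.toPr.cj_mem_LL (H.S_N hs) H.toPr.R_mem_LL)
  obtain ⟨t, ht, hct⟩ := H.exists_T1 c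
  have h1 : cj t (RR A T) = cj s (RR A T) := by
    ext x
    rw [hc]
    constructor
    · rintro ⟨r, hr, rfl⟩
      refine ⟨r, hr, ?_⟩
      show t * r * t⁻¹ = _
      rw [H.toAf.chi_spec ht.2 r hr, hct]
    · rintro ⟨r, hr, rfl⟩
      rw [← hct, ← H.toAf.chi_spec ht.2 r hr]
      exact mem_cj_mul hr
  have h2 : cj (t⁻¹ * s) (RR A T) = RR A T := by
    rw [cj_mul, ← h1, cj_inv_cj]
  refine ⟨t, ht, t⁻¹ * s, H.mem_T (mul_mem (inv_mem ht.1) hs) (H.toPr.mem_M_of_cj h2), ?_⟩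
  rw [mul_inv_cancel_left]

end Basic

/-- torus type elements -/
structure Tor (H : Sy A T S π f) (h : G) (c : F) : Prop where
  nT : h ∈ normalizer (H.T1 : Set G)
  nV : h ∈ normalizer (VQ A T π : Set G)
  cR : ∀ r ∈ RR A T, h * r = r * h
  u : ∀ b, h * π (up b) * h⁻¹ = π (up (c * b))

theorem exists_Tor (H : Sy A T S π f) {c : F} (hc : c ≠ 0) : ∃ h, Tor H h c := by
  obtain ⟨h, h1, h2, h3, h4⟩ := H.exists_tor' hc
  exact ⟨h, h1, h2, h3, h4⟩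

namespace Tor

variable {H : Sy A T S π f} {h h' : G} {c c' : F}

theorem T1m (K : Tor H h c) {t : G} (ht : t ∈ H.T1) : h * t * h⁻¹ ∈ H.T1 := H.norm_T1 K.nT ht

theorem chi (K : Tor H h c) {t : G} (ht : t ∈ H.T1) : H.chi (h * t * h⁻¹) = c * H.chi t :=
  H.chi_tor K.nV K.cR K.u ht.2

/-- `[h, v] ∈ VV` for `v ∈ VQ` -/
theorem VQm (K : Tor H h c) {v : G} (hv : v ∈ VQ A T π) : ∃ b, h * v * h⁻¹ = v * π (up b) := by
  obtain ⟨r, hr, b, rfl⟩ := H.mem_VQ.1 hv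
  refine ⟨-b + c * b, ?_⟩
  calc h * (r * π (up b)) * h⁻¹ = (h * r) * π (up b) * h⁻¹ := by group
    _ = r * (h * π (up b) * h⁻¹) := by rw [K.cR r hr]; group
    _ = r * π (up (b + (-b + c * b))) := by rw [K.u]; congr 3; ring
    _ = _ := by rw [← H.uadd, mul_assoc]

/-- two torus type elements commute modulo the centralizer of `VQ` -/
theorem comm (K : Tor H h c) (K' : Tor H h' c') : ∀ v ∈ VQ A T π,
    (h * h' * h⁻¹ * h'⁻¹) * v = v * (h * h' * h⁻¹ * h'⁻¹) := by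
  intro v hv
  obtain ⟨r, hr, b, rfl⟩ := H.mem_VQ.1 hv
  have h1 : (h * h' * h⁻¹ * h'⁻¹) * r = r * (h * h' * h⁻¹ * h'⁻¹) := by
    have c1 : Commute h r := K.cR r hr
    have c2 : Commute h' r := K'.cR r hr
    exact ((c1.mul_left c2).mul_left c1.inv_left).mul_left c2.inv_left
  have h2 : (h * h' * h⁻¹ * h'⁻¹) * π (up b) = π (up b) * (h * h' * h⁻¹ * h'⁻¹) := by
    have e1 := K.u
    have e2 := K'.u
    have e3 : h * h' * π (up b) * (h * h')⁻¹ = h' * h * π (up b) * (h' * h)⁻¹ := by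
      calc h * h' * π (up b) * (h * h')⁻¹ = h * (h' * π (up b) * h'⁻¹) * h⁻¹ := by group
        _ = π (up (c * (c' * b))) := by rw [e2, e1]
        _ = π (up (c' * (c * b))) := by congr 2; ring
        _ = h' * (h * π (up b) * h⁻¹) * h'⁻¹ := by rw [e1, e2]
        _ = _ := by group
    have hcc : c ≠ 0 ∨ c = 0 := ne_or_eq _ _
    -- apply with `b` replaced by the preimage under `h' h`
    have key : ∀ b', h * h' * π (up b') * (h * h')⁻¹ = h' * h * π (up b') * (h' * h)⁻¹ := by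
      intro b'
      calc h * h' * π (up b') * (h * h')⁻¹ = h * (h' * π (up b') * h'⁻¹) * h⁻¹ := by group
        _ = π (up (c * (c' * b'))) := by rw [e2, e1]
        _ = π (up (c' * (c * b'))) := by congr 2; ring
        _ = h' * (h * π (up b') * h⁻¹) * h'⁻¹ := by rw [e1, e2]
        _ = _ := by group
    obtain ⟨b', hb'⟩ := H.toAf.norm_u (inv_mem (mul_mem K'.nV K.nV)) b
    have h3 := key b'
    rw [← hb'] at h3
    have e4 : h' * h * ((h' * h)⁻¹ * π (up b) * (h' * h)⁻¹⁻¹) * (h' * h)⁻¹ = π (up b) := by group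
    rw [e4] at h3
    calc (h * h' * h⁻¹ * h'⁻¹) * π (up b)
        = (h * h' * ((h' * h)⁻¹ * π (up b) * (h' * h)⁻¹⁻¹) * (h * h')⁻¹) * (h * h' * h⁻¹ * h'⁻¹) := by group
      _ = _ := by rw [h3]
  calc (h * h' * h⁻¹ * h'⁻¹) * (r * π (up b)) = ((h * h' * h⁻¹ * h'⁻¹) * r) * π (up b) := by group
    _ = r * ((h * h' * h⁻¹ * h'⁻¹) * π (up b)) := by rw [h1]; group
    _ = _ := by rw [h2]; group

/-- the group `E₁` -/
def EO (K : Tor H h c) : Subgroup G where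
  carrier := {x | ∃ a ∈ H.T1, ∃ b : F, x = h * a * h⁻¹ * a⁻¹ * π (up b)}
  one_mem' := ⟨1, one_mem _, 0, by rw [H.u0]; group⟩
  mul_mem' := by
    rintro x y ⟨a, ha, b, rfl⟩ ⟨a', ha', b', rfl⟩
    have h1 := K.T1m ha
    have h2 := K.T1m ha'
    obtain ⟨d, hd⟩ := H.exists_comm_u (inv_mem ha) h2
    obtain ⟨d', hd'⟩ := H.exists_comm_u (inv_mem ha) (inv_mem ha')
    refine ⟨a * a', mul_mem ha ha', d + d' + b + b', ?_⟩
    have e1 := H.T1_u (mul_mem h2 (inv_mem ha')) b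
    have e2 := H.T1_u (inv_mem ha') d
    calc h * a * h⁻¹ * a⁻¹ * π (up b) * (h * a' * h⁻¹ * a'⁻¹ * π (up b'))
        = (h * a * h⁻¹) * a⁻¹ * (π (up b) * (h * a' * h⁻¹ * a'⁻¹)) * π (up b') := by group
      _ = (h * a * h⁻¹) * (a⁻¹ * (h * a' * h⁻¹)) * a'⁻¹ * π (up b) * π (up b') := by rw [← e1]; group
      _ = (h * a * h⁻¹) * (h * a' * h⁻¹) * a⁻¹ * (π (up d) * a'⁻¹) * π (up b) * π (up b') := by
        rw [hd]; group
      _ = (h * a * h⁻¹) * (h * a' * h⁻¹) * (a⁻¹ * a'⁻¹) * π (up d) * π (up b) * π (up b') := by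
        rw [← e2]; group
      _ = (h * a * h⁻¹) * (h * a' * h⁻¹) * (a'⁻¹ * a⁻¹) * (π (up d') * π (up d) * π (up b) * π (up b')) := by
        rw [hd']; group
      _ = _ := by
        rw [H.uadd, H.uadd, H.uadd]
        have e3 : d' + d + b + b' = d + d' + b + b' := by ring
        rw [e3]; group
  inv_mem' := by
    rintro x ⟨a, ha, b, rfl⟩
    have h1 := K.T1m ha
    obtain ⟨d, hd⟩ := H.exists_comm_u ha (inv_mem h1)
    refine ⟨a⁻¹, inv_mem ha, d + -b, ?_⟩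
    have h3 : (π (up b) : G)⁻¹ = π (up (-b)) := by rw [← map_inv, up_inv]
    have e1 := H.T1_u (mul_mem ha (inv_mem h1)) (-b)
    calc (h * a * h⁻¹ * a⁻¹ * π (up b))⁻¹ = (π (up b))⁻¹ * (a * (h * a * h⁻¹)⁻¹) := by group
      _ = (a * (h * a * h⁻¹)⁻¹) * π (up (-b)) := by rw [h3, ← e1]
      _ = ((h * a * h⁻¹)⁻¹ * a) * (π (up d) * π (up (-b))) := by rw [hd]; group
      _ = _ := by rw [H.uadd]; group

theorem mem_EO {K : Tor H h c} {x : G} :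
    x ∈ K.EO ↔ ∃ a ∈ H.T1, ∃ b : F, x = h * a * h⁻¹ * a⁻¹ * π (up b) := Iff.rfl

theorem EO_T1 (K : Tor H h c) : K.EO ≤ H.T1 := by
  rintro _ ⟨a, ha, b, rfl⟩
  exact mul_mem (mul_mem (K.T1m ha) (inv_mem ha)) (H.VV_T1 (up_mem_VV b))

theorem VV_EO (K : Tor H h c) : VV π ≤ K.EO := by
  intro v hv
  obtain ⟨b, rfl⟩ := mem_VV.1 hv
  exact ⟨1, one_mem _, b, by group⟩

theorem EO_chi (K : Tor H h c) {a : G} (ha : a ∈ H.T1) (b : F) :
    H.chi (h * a * h⁻¹ * a⁻¹ * π (up b)) = (c + 1) * H.chi a := by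
  rw [H.chi_T1_mul (mul_mem (K.T1m ha) (inv_mem ha)) (H.VV_T1 (up_mem_VV b)),
    H.chi_T1_mul (K.T1m ha) (inv_mem ha), K.chi ha, H.chi_T1_inv ha, H.chi_VQ (H.uVQ b)]
  ring

theorem EO_VQ (K : Tor H h c) (hc : c ≠ 1) {x : G} (hx : x ∈ K.EO) (hv : x ∈ VQ A T π) : x ∈ VV π := by
  obtain ⟨a, ha, b, rfl⟩ := hx
  have h1 := H.chi_VQ hv
  rw [K.EO_chi ha] at h1
  have h2 : c + 1 ≠ 0 := by
    intro h
    apply hc
    have e2 : (2 : F) = 0 := CharTwo.two_eq_zero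
    linear_combination h - e2
  have h3 : H.chi a = 0 := (mul_eq_zero.1 h1).resolve_left h2
  obtain ⟨d, hd⟩ := K.VQm (H.mem_VQ_of_chi ha h3)
  rw [hd, H.vcomm (H.mem_VQ_of_chi ha h3) (H.uVQ d), mul_inv_cancel_right]
  exact mul_mem (up_mem_VV d) (up_mem_VV b)

theorem exists_EO (K : Tor H h c) (hc : c ≠ 1) (x : F) : ∃ e ∈ K.EO, H.chi e = x := by
  have h2 : c + 1 ≠ 0 := by
    intro h
    apply hc
    have e2 : (2 : F) = 0 := CharTwo.two_eq_zero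
    linear_combination h - e2
  obtain ⟨a, ha, hax⟩ := H.exists_T1 ((c + 1)⁻¹ * x)
  refine ⟨h * a * h⁻¹ * a⁻¹ * π (up 0), ⟨a, ha, 0, rfl⟩, ?_⟩
  rw [K.EO_chi ha, hax, mul_inv_cancel_left₀ h2]

/-- `E₁` is invariant under torus type elements -/
theorem EO_tor (K : Tor H h c) (K' : Tor H h' c') {x : G} (hx : x ∈ K.EO) : h' * x * h'⁻¹ ∈ K.EO := by
  obtain ⟨a, ha, b, rfl⟩ := hx
  -- `z = [h', h]`
  have hz := K'.comm K
  have hzT : h' * h * h'⁻¹ * h⁻¹ ∈ normalizer (H.T1 : Set G) :=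
    mul_mem (mul_mem (mul_mem K'.nT K.nT) (inv_mem K'.nT)) (inv_mem K.nT)
  have h1 := K'.T1m ha
  have h2 := K.T1m h1
  obtain ⟨d, hd⟩ := mem_VV.1 (H.comm_cent hzT hz h2)
  refine ⟨h' * a * h'⁻¹, h1, d + c' * b, ?_⟩
  have h3 : h' * (h * a * h⁻¹) * h'⁻¹ = π (up d) * (h * (h' * a * h'⁻¹) * h⁻¹) := by
    rw [hd]; group
  calc h' * (h * a * h⁻¹ * a⁻¹ * π (up b)) * h'⁻¹
      = (h' * (h * a * h⁻¹) * h'⁻¹) * (h' * a * h'⁻¹)⁻¹ * (h' * π (up b) * h'⁻¹) := by group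
    _ = π (up d) * (h * (h' * a * h'⁻¹) * h⁻¹ * (h' * a * h'⁻¹)⁻¹) * π (up (c' * b)) := by
      rw [h3, K'.u]; group
    _ = (h * (h' * a * h'⁻¹) * h⁻¹ * (h' * a * h'⁻¹)⁻¹) * π (up d) * π (up (c' * b)) := by
      rw [H.T1_u (mul_mem h2 (inv_mem h1))]
    _ = _ := by rw [mul_assoc, H.uadd]

/-- `[h', T₁] ≤ E₁` -/
theorem comm_EO (K : Tor H h c) (hc : c ≠ 1) (K' : Tor H h' c') {a : G} (ha : a ∈ H.T1) :
    h' * a * h'⁻¹ * a⁻¹ ∈ K.EO := by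
  obtain ⟨e, he, hea⟩ := K.exists_EO hc (H.chi a)
  have heT := K.EO_T1 he
  have hv : a * e⁻¹ ∈ VQ A T π := by
    apply H.mem_VQ_of_chi (mul_mem ha (inv_mem heT))
    rw [H.chi_T1_mul ha (inv_mem heT), H.chi_T1_inv heT, hea, CharTwo.add_self_eq_zero]
  obtain ⟨d, hd⟩ := K'.VQm hv
  have h1 : h' * e * h'⁻¹ * e⁻¹ ∈ K.EO := mul_mem (K.EO_tor K' he) (inv_mem he)
  have h2 : h' * a * h'⁻¹ * a⁻¹ =
      (a * e⁻¹) * (π (up d) * (h' * e * h'⁻¹ * e⁻¹)) * (a * e⁻¹)⁻¹ := by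
    calc h' * a * h'⁻¹ * a⁻¹ = (h' * (a * e⁻¹) * h'⁻¹) * (h' * e * h'⁻¹) * a⁻¹ := by group
      _ = _ := by rw [hd]; group
  rw [h2]
  have h3 : π (up d) * (h' * e * h'⁻¹ * e⁻¹) ∈ K.EO := mul_mem (K.VV_EO (up_mem_VV d)) h1
  obtain ⟨b, hb⟩ := H.exists_comm_u (mul_mem ha (inv_mem heT)) (K.EO_T1 h3)
  rw [hb]
  have h4 : (π (up d) * (h' * e * h'⁻¹ * e⁻¹)) * (a * e⁻¹) * π (up b) * (a * e⁻¹)⁻¹ =
      (π (up d) * (h' * e * h'⁻¹ * e⁻¹)) * π (up b) := by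
    calc _ = (π (up d) * (h' * e * h'⁻¹ * e⁻¹)) * ((a * e⁻¹) * π (up b)) * (a * e⁻¹)⁻¹ := by group
      _ = _ := by rw [H.T1_u (mul_mem ha (inv_mem heT))]; group
  rw [h4]
  exact mul_mem h3 (K.VV_EO (up_mem_VV b))

/-- `E₁` is invariant under `T₁` -/
theorem EO_norm_T1 (K : Tor H h c) {t x : G} (ht : t ∈ H.T1) (hx : x ∈ K.EO) : t * x * t⁻¹ ∈ K.EO := by
  obtain ⟨b, hb⟩ := H.exists_comm_u ht (K.EO_T1 hx)
  rw [hb]
  have h4 : x * t * π (up b) * t⁻¹ = x * π (up b) := by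
    calc _ = x * (t * π (up b)) * t⁻¹ := by group
      _ = _ := by rw [H.T1_u ht]; group
  rw [h4]
  exact mul_mem hx (K.VV_EO (up_mem_VV b))

/-- conjugates of torus type elements by elements of `T` -/
theorem conj (K : Tor H h c) {m : G} (hm : m ∈ T) : ∃ c', Tor H (m * h * m⁻¹) c' := by
  have hmS : m ∈ S := H.TS hm
  obtain ⟨y, hy, h0, h1⟩ := sem H.P (H.nT hm) (fun v hv => H.Vn hm hv)
  set μ := ent y 0 0 ^ 2 with hμ
  have hμ0 : μ ≠ 0 := pow_ne_zero 2 (ent_ne y h0)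
  set σ := fld H.P ⟨m, H.nT hm⟩ with hσ
  refine ⟨σ c, ⟨?_, ?_, ?_, ?_⟩⟩
  · exact mul_mem (mul_mem (H.S_nT1 hmS) K.nT) (inv_mem (H.S_nT1 hmS))
  · exact mul_mem (mul_mem (H.S_N hmS) K.nV) (inv_mem (H.S_N hmS))
  · intro r hr
    have h2 : m⁻¹ * r * m ∈ RR A T := by
      have h3 : r ∈ cj m (RR A T) := by
        rw [H.toPr.cj_R_of_mem_M (H.S_N hmS) (H.nT hm)]; exact hr
      rwa [mem_cj] at h3
    have h4 := K.cR _ h2
    calc m * h * m⁻¹ * r = m * (h * (m⁻¹ * r * m)) * m⁻¹ := by group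
      _ = _ := by rw [h4]; group
  · intro b
    have h2 := h1 (σ.symm (μ⁻¹ * b))
    rw [RingEquiv.apply_symm_apply, mul_inv_cancel_left₀ hμ0] at h2
    have h3 : m⁻¹ * π (up b) * m = π (up (σ.symm (μ⁻¹ * b))) := by
      rw [← h2]; group
    calc m * h * m⁻¹ * π (up b) * (m * h * m⁻¹)⁻¹ = m * (h * (m⁻¹ * π (up b) * m) * h⁻¹) * m⁻¹ := by group
      _ = m * π (up (c * σ.symm (μ⁻¹ * b))) * m⁻¹ := by rw [h3, K.u]
      _ = π (up (μ * (σ c * (μ⁻¹ * b)))) := by rw [h1, map_mul, RingEquiv.apply_symm_apply]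
      _ = _ := by congr 2; field_simp

/-- `E₁` is invariant under `T` -/
theorem EO_norm_T (K : Tor H h c) (hc : c ≠ 1) {m x : G} (hm : m ∈ T) (hx : x ∈ K.EO) :
    m * x * m⁻¹ ∈ K.EO := by
  obtain ⟨a, ha, b, rfl⟩ := hx
  obtain ⟨c', K'⟩ := K.conj hm
  have hmS : m ∈ S := H.TS hm
  have h1 : m * a * m⁻¹ ∈ H.T1 := H.S_T1 hmS ha
  have h2 := K.comm_EO hc K' h1
  have h3 : m * π (up b) * m⁻¹ ∈ K.EO := K.VV_EO (H.Vn hm (up_mem_VV b))
  have e : m * (h * a * h⁻¹ * a⁻¹ * π (up b)) * m⁻¹ =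
      (m * h * m⁻¹ * (m * a * m⁻¹) * (m * h * m⁻¹)⁻¹ * (m * a * m⁻¹)⁻¹) * (m * π (up b) * m⁻¹) := by group
  rw [e]
  exact mul_mem h2 h3

/-- `E₁` is invariant under `S` -/
theorem EO_norm_S (K : Tor H h c) (hc : c ≠ 1) {m x : G} (hm : m ∈ S) (hx : x ∈ K.EO) :
    m * x * m⁻¹ ∈ K.EO := by
  obtain ⟨t, ht, m', hm', rfl⟩ := H.S_eq hm
  have e : t * m' * x * (t * m')⁻¹ = t * (m' * x * m'⁻¹) * t⁻¹ := by group
  rw [e]
  exact K.EO_norm_T1 ht (K.EO_norm_T hc hm' hx)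

/-- two elements of `E₁` with the same `χ` -/
theorem EO_eq (K : Tor H h c) (hc : c ≠ 1) {e e' : G} (he : e ∈ K.EO) (he' : e' ∈ K.EO)
    (h1 : H.chi e = H.chi e') : ∃ b, e = e' * π (up b) := by
  have h2 : e'⁻¹ * e ∈ VQ A T π := by
    apply H.mem_VQ_of_chi (mul_mem (inv_mem (K.EO_T1 he')) (K.EO_T1 he))
    rw [H.chi_T1_mul (inv_mem (K.EO_T1 he')) (K.EO_T1 he), H.chi_T1_inv (K.EO_T1 he'), h1,
      CharTwo.add_self_eq_zero]
  obtain ⟨b, hb⟩ := mem_VV.1 (K.EO_VQ hc (mul_mem (inv_mem he') he) h2)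
  exact ⟨b, by rw [hb, mul_inv_cancel_left]⟩

/-- **`E₁` is abelian** -/
theorem EO_comm (K : Tor H h c) (hc : c ≠ 1) {e e' : G} (he : e ∈ K.EO) (he' : e' ∈ K.EO) :
    e * e' = e' * e := by
  have key : ∀ x y : F, ∃ b, ∀ e ∈ K.EO, ∀ e' ∈ K.EO, H.chi e = x → H.chi e' = y →
      e * e' = e' * e * π (up b) := by
    intro x y
    obtain ⟨e0, he0, hx⟩ := K.exists_EO hc x
    obtain ⟨e1, he1, hy⟩ := K.exists_EO hc y
    obtain ⟨b, hb⟩ := H.exists_comm_u (K.EO_T1 he0) (K.EO_T1 he1)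
    refine ⟨b, fun e he e' he' h1 h2 => ?_⟩
    obtain ⟨d, rfl⟩ := K.EO_eq hc he he0 (h1.trans hx.symm)
    obtain ⟨d', rfl⟩ := K.EO_eq hc he' he1 (h2.trans hy.symm)
    have c0 := H.T1_u (K.EO_T1 he0)
    have c1 := H.T1_u (K.EO_T1 he1)
    calc e0 * π (up d) * (e1 * π (up d')) = e0 * (π (up d) * e1) * π (up d') := by group
      _ = e0 * e1 * (π (up d) * π (up d')) := by rw [← c1]; group
      _ = e1 * e0 * (π (up b) * π (up d) * π (up d')) := by rw [hb]; group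
      _ = e1 * (e0 * π (up d')) * (π (up d) * π (up b)) := by
        rw [H.uadd, H.uadd, mul_assoc e1 (e0 * π (up d')), mul_assoc e0, H.uadd, H.uadd]
        have e3 : b + d + d' = d' + (d + b) := by ring
        rw [e3]; group
      _ = _ := by rw [c0]; group
  choose β hβ using key
  have hadd : ∀ x y z, β (x + y) z = β x z + β y z := by
    intro x y z
    obtain ⟨e0, he0, hx⟩ := K.exists_EO hc x
    obtain ⟨e1, he1, hy⟩ := K.exists_EO hc y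
    obtain ⟨e2, he2, hz⟩ := K.exists_EO hc z
    have h1 := hβ (x + y) z (e0 * e1) (mul_mem he0 he1) e2 he2
      (by rw [H.chi_T1_mul (K.EO_T1 he0) (K.EO_T1 he1), hx, hy]) hz
    have h2 := hβ x z e0 he0 e2 he2 hx hz
    have h3 := hβ y z e1 he1 e2 he2 hy hz
    have c1 := H.T1_u (K.EO_T1 he1)
    have h4 : e0 * e1 * e2 = e2 * (e0 * e1) * π (up (β x z + β y z)) := by
      calc e0 * e1 * e2 = e0 * (e1 * e2) := by group
        _ = (e0 * e2) * e1 * π (up (β y z)) := by rw [h3]; group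
        _ = e2 * e0 * (π (up (β x z)) * e1) * π (up (β y z)) := by rw [h2]; group
        _ = e2 * (e0 * e1) * (π (up (β x z)) * π (up (β y z))) := by rw [← c1]; group
        _ = _ := by rw [H.uadd]
    rw [h1] at h4
    exact H.uinj (mul_left_cancel h4)
  have halt : ∀ x, β x x = 0 := by
    intro x
    obtain ⟨e0, he0, hx⟩ := K.exists_EO hc x
    have h1 := hβ x x e0 he0 e0 he0 hx hx
    have h2 : π (up (β x x)) = 1 := mul_eq_left.1 h1.symm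
    rw [← H.u0] at h2
    exact H.uinj h2
  have hsymm : ∀ x y, β x y = β y x := by
    intro x y
    obtain ⟨e0, he0, hx⟩ := K.exists_EO hc x
    obtain ⟨e1, he1, hy⟩ := K.exists_EO hc y
    have h1 := hβ x y e0 he0 e1 he1 hx hy
    have h2 := hβ y x e1 he1 e0 he0 hy hx
    rw [h2, mul_assoc, H.uadd] at h1
    have h3 : π (up (β y x + β x y)) = 1 := mul_eq_left.1 h1.symm
    rw [← H.u0] at h3
    have h4 := H.uinj h3
    have e2 : (2 : F) = 0 := CharTwo.two_eq_zero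
    linear_combination h4 - β y x * e2
  have hscale : ∀ c', c' ≠ 0 → ∀ x y, β (c' * x) (c' * y) = c' * β x y := by
    intro c' hc' x y
    obtain ⟨h', K'⟩ := exists_Tor H hc'
    obtain ⟨e0, he0, hx⟩ := K.exists_EO hc x
    obtain ⟨e1, he1, hy⟩ := K.exists_EO hc y
    have h1 := hβ x y e0 he0 e1 he1 hx hy
    have h2 := hβ (c' * x) (c' * y) _ (K.EO_tor K' he0) _ (K.EO_tor K' he1)
      (by rw [K'.chi (K.EO_T1 he0), hx]) (by rw [K'.chi (K.EO_T1 he1), hy])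
    have h3 : h' * e0 * h'⁻¹ * (h' * e1 * h'⁻¹) =
        h' * e1 * h'⁻¹ * (h' * e0 * h'⁻¹) * π (up (c' * β x y)) := by
      rw [← K'.u]
      calc h' * e0 * h'⁻¹ * (h' * e1 * h'⁻¹) = h' * (e0 * e1) * h'⁻¹ := by group
        _ = _ := by rw [h1]; group
    rw [h2] at h3
    exact H.uinj (mul_left_cancel h3)
  have h0 : ∀ t, β t 1 = 0 := by
    apply RkAff.hua (g := fun t => β t 1)
    · intro a b; exact hadd a b 1
    · exact halt 1
    · intro t ht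
      have h1 := hscale t ht 1 t⁻¹
      rw [mul_one, mul_inv_cancel₀ ht] at h1
      show β t 1 = t * β t⁻¹ 1
      rw [h1, hsymm 1]
  have hz : ∀ x y, β x y = 0 := by
    intro x y
    by_cases hy : y = 0
    · rw [hsymm, hy]
      have := hadd 0 0 x
      rw [add_zero] at this
      exact add_eq_left.mp this.symm
    · have h1 := hscale y hy (y⁻¹ * x) 1
      rw [mul_one, mul_inv_cancel_left₀ hy, h0, mul_zero] at h1
      exact h1
  have h1 := hβ _ _ e he e' he' rfl rfl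
  rw [hz, H.u0, mul_one] at h1
  exact h1

/-- squares of `E₁` -/
theorem EO_sq (K : Tor H h c) (hc : c ≠ 1) : ∃ s : F, ∀ e ∈ K.EO, e * e = π (up (s * H.chi e)) := by
  have key : ∀ x : F, ∃ b, ∀ e ∈ K.EO, H.chi e = x → e * e = π (up b) := by
    intro x
    obtain ⟨e0, he0, hx⟩ := K.exists_EO hc x
    obtain ⟨b, hb⟩ := mem_VV.1 (H.sq_mem (K.EO_T1 he0))
    refine ⟨b, fun e he h1 => ?_⟩
    obtain ⟨d, rfl⟩ := K.EO_eq hc he he0 (h1.trans hx.symm)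
    have c0 := H.T1_u (K.EO_T1 he0) d
    calc e0 * π (up d) * (e0 * π (up d)) = e0 * (π (up d) * e0) * π (up d) := by group
      _ = (e0 * e0) * (π (up d) * π (up d)) := by rw [← c0]; group
      _ = _ := by rw [H.uadd, CharTwo.add_self_eq_zero, H.u0, mul_one, hb]
  choose s hs using key
  refine ⟨s 1, fun e he => ?_⟩
  by_cases h0 : H.chi e = 0
  · have h1 : e ∈ VQ A T π := H.mem_VQ_of_chi (K.EO_T1 he) h0
    rw [h0, mul_zero, H.u0]
    exact H.vsq h1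
  · obtain ⟨h', K'⟩ := exists_Tor H h0
    obtain ⟨e1, he1, hx⟩ := K.exists_EO hc 1
    have h1 := hs _ _ (K.EO_tor K' he1) rfl
    rw [K'.chi (K.EO_T1 he1), hx, mul_one] at h1
    have h2 : h' * e1 * h'⁻¹ * (h' * e1 * h'⁻¹) = π (up (H.chi e * s 1)) := by
      rw [← K'.u, ← hs 1 e1 he1 hx]; group
    rw [h1] at h2
    rw [hs _ e he rfl, h2, mul_comm]

end Tor

end Sy

/-- the data of `E₁` -/
structure Ef {f : G → F} [Finite F] [CharP F 2] [Finite G] (H : Sy A T S π f) (E : Subgroup G) (s : F) : Prop where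
  ET : E ≤ H.T1
  VE : VV π ≤ E
  EVQ : ∀ x ∈ E, x ∈ VQ A T π → x ∈ VV π
  onto : ∀ x : F, ∃ e ∈ E, H.chi e = x
  tor : ∀ h c, Sy.Tor H h c → ∀ x ∈ E, h * x * h⁻¹ ∈ E
  torc : ∀ h c, Sy.Tor H h c → ∀ a ∈ H.T1, h * a * h⁻¹ * a⁻¹ ∈ E
  normS : ∀ m ∈ S, ∀ x ∈ E, m * x * m⁻¹ ∈ E
  comm : ∀ x ∈ E, ∀ y ∈ E, x * y = y * x
  sq : ∀ e ∈ E, e * e = π (up (s * H.chi e))

theorem Sy.exists_Ef {f : G → F} [Finite F] [CharP F 2] [Finite G] (H : Sy A T S π f) : ∃ E s, Ef H E s := by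
  obtain ⟨c, hc0, hc1⟩ := H.toAf.exists_ne
  obtain ⟨h, K⟩ := Sy.exists_Tor H hc0
  obtain ⟨s, hs⟩ := K.EO_sq hc1
  exact ⟨K.EO, s, K.EO_T1, K.VV_EO, fun x hx hv => K.EO_VQ hc1 hx hv, K.exists_EO hc1,
    fun h' c' K' x hx => K.EO_tor K' hx, fun h' c' K' a ha => K.comm_EO hc1 K' ha,
    fun m hm x hx => K.EO_norm_S hc1 hm hx, fun x hx y hy => K.EO_comm hc1 hx hy, hs⟩

end Cfsg.Agent.OddHalf.D4.Rk2
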