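import Cfsg.Agent.OddHalf.D4.Rk2.FieldT
import Cfsg.Agent.OddHalf.D4.Rk2.Affine

/-!
# D4, `K = L₂(q)`: 2-groups acting semilinearly on the root group

`Semi π s c σ`: `s u(b) s⁻¹ = u(c σ(b))`.  For a 2-group `S` acting semilinearly: the numbers of fixed points and the
structure of `S / C_S(VV)`.  In the affine case `N(VQ)` acts semilinearly.
-/

set_option autoImplicit false
set_option linter.unusedSectionVars false

namespace Cfsg.Agent.OddHalf.D4.Rk2

open Subgroup Cfsg.Agent.StdL2.Frame Cfsg.Agent.StdL2.Field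
open Cfsg.Agent.StdL2.FrameFT (VV mem_VV up_mem_VV VV_le VV_sq card_VV le_VV sem ent_ne)
open Cfsg.Agent.Lib.SL2Mat Cfsg.Agent.Lib.AutSL2 Cfsg.Agent.StdRank2.OutField
open Cfsg.Agent.OddHalf.D4.CommConj (cj mem_cj cj_mul card_cj cj_eq_of_mem_normalizer mem_normalizer_of_cj_eq
  mem_cj_mul Tight)

local notation "SL2" => Matrix.SpecialLinearGroup (Fin 2)

universe u

variable {F : Type*} [Field F] {G : Type u} [Group G] {A T : Subgroup G} {π : SL2 F →* G}

/-- the semilinear action -/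
def Semi (π : SL2 F →* G) (s : G) (c : F) (σ : F ≃+* F) : Prop :=
  ∀ b, s * π (up b) * s⁻¹ = π (up (c * σ b))

theorem Semi.mul {s s' : G} {c c' : F} {σ σ' : F ≃+* F} (h : Semi π s c σ) (h' : Semi π s' c' σ') :
    Semi π (s * s') (c * σ c') (σ * σ') := by
  intro b
  calc s * s' * π (up b) * (s * s')⁻¹ = s * (s' * π (up b) * s'⁻¹) * s⁻¹ := by group
    _ = π (up (c * σ (c' * σ' b))) := by rw [h', h]
    _ = π (up (c * σ c' * (σ * σ') b)) := by
      rw [map_mul, mul_assoc]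
      rfl

theorem Semi.one : Semi π (1 : G) (1 : F) (1 : F ≃+* F) := by
  intro b
  rw [one_mul, inv_one, mul_one, one_mul]
  rfl

theorem Semi.unique (P : IsPar A π) {s : G} {c c' : F} {σ σ' : F ≃+* F} (h : Semi π s c σ)
    (h' : Semi π s c' σ') : c = c' ∧ σ = σ' := by
  have h1 : ∀ b, c * σ b = c' * σ' b := fun b => up_inj (P.inj ((h b).symm.trans (h' b)))
  have h2 : c = c' := by
    have := h1 1
    rwa [map_one, map_one, mul_one, mul_one] at this
  have hc : c ≠ 0 := by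
    rintro rfl
    have h3 := h 1
    rw [zero_mul, up_zero, map_one] at h3
    have h4 : π (up (1 : F)) = 1 := by
      have : s * π (up 1) * s⁻¹ = s * 1 * s⁻¹ := by rw [h3]; group
      exact mul_left_cancel (mul_right_cancel this)
    have h5 : up (1 : F) = up 0 := by
      apply P.inj
      rw [h4, up_zero, map_one]
    exact one_ne_zero (up_inj h5)
  refine ⟨h2, RingEquiv.ext fun b => ?_⟩
  have h3 := h1 b
  rw [← h2] at h3
  exact mul_left_cancel₀ hc h3

theorem Semi.exists_pow {s : G} {c : F} {σ : F ≃+* F} (h : Semi π s c σ) (n : ℕ) :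
    ∃ d, Semi π (s ^ n) d (σ ^ n) := by
  induction n with
  | zero => exact ⟨1, by rw [pow_zero, pow_zero]; exact Semi.one⟩
  | succ n ih =>
    obtain ⟨d, hd⟩ := ih
    refine ⟨d * (σ ^ n) c, ?_⟩
    rw [pow_succ, pow_succ]
    exact hd.mul h

theorem Semi.pow_one {s : G} {c : F} (h : Semi π s c (1 : F ≃+* F)) (n : ℕ) :
    Semi π (s ^ n) (c ^ n) (1 : F ≃+* F) := by
  induction n with
  | zero => rw [pow_zero, pow_zero]; exact Semi.one
  | succ n ih =>
    have h1 := ih.mul h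
    rw [pow_succ, pow_succ]
    have e1 : c ^ n * (1 : F ≃+* F) c = c ^ n * c := rfl
    rw [e1, mul_one] at h1
    exact h1

/-- the order of the field automorphism of a 2-element -/
theorem Semi.order (P : IsPar A π) {s : G} {c : F} {σ : F ≃+* F} (h : Semi π s c σ) {m : ℕ}
    (hm : s ^ 2 ^ m = 1) : ∃ k, orderOf σ = 2 ^ k := by
  obtain ⟨d, hd⟩ := h.exists_pow (2 ^ m)
  rw [hm] at hd
  have h1 := (hd.unique P Semi.one).2
  obtain ⟨k, -, hk⟩ := (Nat.dvd_prime_pow Nat.prime_two).mp (orderOf_dvd_of_pow_eq_one h1)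
  exact ⟨k, hk⟩

theorem pow_two_pow_eq_one [CharP F 2] : ∀ (i : ℕ) (x : F), x ^ (2 ^ i) = 1 → x = 1 := by
  intro i
  induction i with
  | zero => intro x hx; simpa using hx
  | succ i ih =>
    intro x hx
    apply ih
    rw [pow_succ, pow_mul] at hx
    have e2 : (2 : F) = 0 := CharTwo.two_eq_zero
    have h8 : (x ^ 2 ^ i - 1) ^ 2 = 0 := by
      linear_combination hx - (x ^ 2 ^ i - 1) * e2
    have := pow_eq_zero_iff (two_ne_zero) |>.1 h8
    linear_combination this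

theorem Semi.cent_iff [CharP F 2] (P : IsPar A π) {s : G} {c : F} {σ : F ≃+* F} (h : Semi π s c σ) {m : ℕ}
    (hm : s ^ 2 ^ m = 1) : s ∈ centralizer (VV π : Set G) ↔ σ = 1 := by
  rw [mem_cent]
  constructor
  · intro h1
    have h2 : Semi π s 1 (1 : F ≃+* F) := by
      intro b
      rw [h1 _ (up_mem_VV b), mul_inv_cancel_right, one_mul]
      rfl
    exact (h.unique P h2).2
  · rintro rfl
    have h1 := h.pow_one (2 ^ m)
    rw [hm] at h1
    have h2 := (h1.unique P Semi.one).1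
    have h3 := pow_two_pow_eq_one m c h2
    intro v hv
    obtain ⟨b, rfl⟩ := mem_VV.1 hv
    have h4 := h b
    rw [h3, one_mul, mul_inv_eq_iff_eq_mul] at h4
    exact h4

theorem Semi.fix_pow [Finite F] [Finite G] (P : IsPar A π) {s : G} {c : F} {σ : F ≃+* F} (h : Semi π s c σ)
    {k : ℕ} (hk : k ≤ orderOf σ) :
    Nat.card (VV π ⊓ centralizer ({s} : Set G) : Subgroup G) ^ k ≤ Nat.card F := by
  refine le_trans (Nat.pow_le_pow_left ?_ k) (card_fixc_pow (σ := σ) hk c)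
  have key : ∀ x : (VV π ⊓ centralizer ({s} : Set G) : Subgroup G), ∃ b : F,
      c * σ b = b ∧ (x : G) = π (up b) := by
    rintro ⟨x, hxV, hxc⟩
    obtain ⟨b, rfl⟩ := mem_VV.1 hxV
    refine ⟨b, ?_, rfl⟩
    have h1 := mem_centralizer_singleton_iff.1 hxc
    have h2 : s * π (up b) * s⁻¹ = π (up b) := by
      rw [mul_inv_eq_iff_eq_mul]
      exact h1.symm
    rw [h] at h2
    exact up_inj (P.inj h2)
  choose b hb hxb using key
  refine Nat.card_le_card_of_injective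
    (fun x => (⟨b x, hb x⟩ : {b : F // c * σ b = b})) ?_
  intro x x' h
  apply Subtype.ext
  rw [hxb x, hxb x']
  have h2 : b x = b x' := congrArg Subtype.val h
  rw [h2]

section group

variable [Finite F] [CharP F 2] [Finite G] (P : IsPar A π) {S : Subgroup G} (hS : IsPGroup 2 S)
  (hs : ∀ s ∈ S, ∃ c σ, Semi π s c σ)
include P hS hs

theorem Semi.fix2 {t : G} (ht : t ∈ S) (htc : t ∉ centralizer (VV π : Set G)) :
    Nat.card (VV π ⊓ centralizer ({t} : Set G) : Subgroup G) ^ 2 ≤ Nat.card F := by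
  obtain ⟨c, σ, h⟩ := hs t ht
  obtain ⟨m, hm⟩ := exists_pow_of_mem hS ht
  apply h.fix_pow P
  obtain ⟨k, hk⟩ := h.order P hm
  rw [hk]
  have h1 : k ≠ 0 := by
    rintro rfl
    rw [pow_zero, orderOf_eq_one_iff] at hk
    exact htc ((h.cent_iff P hm).2 hk)
  calc 2 = 2 ^ 1 := by norm_num
    _ ≤ 2 ^ k := Nat.pow_le_pow_right (by norm_num) (by omega)

theorem Semi.fix4 {t : G} (ht : t ∈ S) (htc : t * t ∉ centralizer (VV π : Set G)) :
    Nat.card (VV π ⊓ centralizer ({t} : Set G) : Subgroup G) ^ 4 ≤ Nat.card F := by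
  obtain ⟨c, σ, h⟩ := hs t ht
  obtain ⟨m, hm⟩ := exists_pow_of_mem hS ht
  obtain ⟨m', hm'⟩ := exists_pow_of_mem hS (mul_mem ht ht)
  apply h.fix_pow P
  obtain ⟨k, hk⟩ := h.order P hm
  have h0 : σ ^ 2 ≠ 1 := by
    intro h1
    apply htc
    rw [(h.mul h).cent_iff P hm', ← pow_two, h1]
  rw [hk]
  have h1 : 2 ≤ k := by
    by_contra hlt
    apply h0
    have h2 : orderOf σ ∣ 2 := by
      rw [hk]
      calc 2 ^ k ∣ 2 ^ 1 := pow_dvd_pow 2 (by omega)
        _ = 2 := by norm_num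
    exact orderOf_dvd_iff_pow_eq_one.1 h2
  calc 4 = 2 ^ 2 := by norm_num
    _ ≤ 2 ^ k := Nat.pow_le_pow_right (by norm_num) h1

theorem Semi.cyc {t t' : G} (ht : t ∈ S) (ht' : t' ∈ S) (h1 : t ∉ centralizer (VV π : Set G))
    (h1' : t' ∉ centralizer (VV π : Set G)) (h2 : t * t ∈ centralizer (VV π : Set G))
    (h2' : t' * t' ∈ centralizer (VV π : Set G)) : t * t' ∈ centralizer (VV π : Set G) := by
  obtain ⟨c, σ, h⟩ := hs t ht
  obtain ⟨m, hm⟩ := exists_pow_of_mem hS ht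
  obtain ⟨n, hn⟩ := exists_pow_of_mem hS (mul_mem ht ht)
  obtain ⟨c', σ', h'⟩ := hs t' ht'
  obtain ⟨m', hm'⟩ := exists_pow_of_mem hS ht'
  obtain ⟨n', hn'⟩ := exists_pow_of_mem hS (mul_mem ht' ht')
  obtain ⟨k, hk⟩ := exists_pow_of_mem hS (mul_mem ht ht')
  have e0 : σ * σ = 1 := ((h.mul h).cent_iff P hn).1 h2
  have e0' : σ' * σ' = 1 := ((h'.mul h').cent_iff P hn').1 h2'
  have e1 : σ = σ' := unique_invol e0 e0' (fun h3 => h1 ((h.cent_iff P hm).2 h3))
    (fun h3 => h1' ((h'.cent_iff P hm').2 h3))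
  rw [(h.mul h').cent_iff P hk, ← e1]
  exact e0

theorem Semi.comm_mem {t t' : G} (ht : t ∈ S) (ht' : t' ∈ S) :
    t * t' * t⁻¹ * t'⁻¹ ∈ centralizer (VV π : Set G) := by
  obtain ⟨c, σ, h⟩ := hs t ht
  obtain ⟨c', σ', h'⟩ := hs t' ht'
  obtain ⟨d, τ, hd⟩ := hs t⁻¹ (inv_mem ht)
  obtain ⟨d', τ', hd'⟩ := hs t'⁻¹ (inv_mem ht')
  obtain ⟨k, hk⟩ := exists_pow_of_mem hS (mul_mem (mul_mem (mul_mem ht ht') (inv_mem ht)) (inv_mem ht'))
  rw [(((h.mul h').mul hd).mul hd').cent_iff P hk]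
  have e1 : σ * τ = 1 := by
    have h1 := h.mul hd
    rw [mul_inv_cancel] at h1
    exact (h1.unique P Semi.one).2
  have e2 : σ' * τ' = 1 := by
    have h1 := h'.mul hd'
    rw [mul_inv_cancel] at h1
    exact (h1.unique P Semi.one).2
  calc σ * σ' * τ * τ' = σ' * (σ * τ) * τ' := by rw [comm σ σ']; group
    _ = 1 := by rw [e1, mul_one, e2]

end group

namespace Af

variable [Finite F] [CharP F 2] [Finite G] {f : G → F} (H : Af A T π f)
include H

/-- **`N(VQ)` acts semilinearly on the root group** -/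
theorem semi {n : G} (hn : n ∈ normalizer (VQ A T π : Set G)) : ∃ c σ, Semi π n c σ := by
  obtain ⟨c, hc⟩ := H.all_gr (H.toPr.cj_mem_LL hn H.toPr.R_mem_LL)
  obtain ⟨x, hx, hxu, hxr⟩ := H.exists_transl c
  -- `x⁻¹ n ∈ N(A)`
  have h1 : cj x (RR A T) = cj n (RR A T) := by
    apply eq_of_le_of_card_ge
    · rintro _ ⟨r, hr, rfl⟩
      rw [hc]
      exact ⟨r, hr, hxr r hr⟩
    · rw [card_cj, card_cj]
  have h2 : x⁻¹ * n ∈ normalizer (A : Set G) := by
    apply H.toPr.mem_M_of_cj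
    rw [cj_mul, ← h1, cj_inv_cj]
  have hxu' : ∀ v ∈ VV π, x * v * x⁻¹ = v := by
    intro v hv
    obtain ⟨b, rfl⟩ := mem_VV.1 hv
    rw [hxu, mul_inv_cancel_right]
  have h3 : ∀ v ∈ VV π, x⁻¹ * n * v * (x⁻¹ * n)⁻¹ = n * v * n⁻¹ := by
    intro v hv
    have h4 : n * v * n⁻¹ ∈ VV π := by
      have : n * v * n⁻¹ ∈ cj n (VV π) := mem_cj_mul hv
      rwa [H.norm_VV hn] at this
    have h5 := hxu' _ h4
    calc x⁻¹ * n * v * (x⁻¹ * n)⁻¹ = x⁻¹ * (n * v * n⁻¹) * x := by group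
      _ = x⁻¹ * (x * (n * v * n⁻¹) * x⁻¹) * x := by rw [h5]
      _ = n * v * n⁻¹ := by group
  obtain ⟨y, -, -, hy⟩ := sem H.P h2 (fun v hv => by
    rw [h3 v hv]
    have : n * v * n⁻¹ ∈ cj n (VV π) := mem_cj_mul hv
    rwa [H.norm_VV hn] at this)
  exact ⟨_, _, fun b => by rw [← h3 _ (up_mem_VV b)]; exact hy b⟩

end Af

end Cfsg.Agent.OddHalf.D4.Rk2
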