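import Cfsg.Agent.OddHalf.D4.Rk2.Mem
import Cfsg.Agent.OddHalf.D4.Rk2.Semi
import Cfsg.Agent.OddHalf.D4.RkEnd.AffSw

/-!
# D4, `K = L₂(q)`: the affine case, the data for `RkEnd.affC`, `RkEnd.affZ`, `RkEnd.affSw`

`FrA`: the frame without the field facts; `Ef.frame`: the frame; `Ef.noSwap`, `Ef.cne`, `Ef.two`.
-/

set_option autoImplicit false
set_option linter.unusedSectionVars false

namespace Cfsg.Agent.OddHalf.D4.Rk2

open Subgroup Cfsg.Agent.StdL2.Frame Cfsg.Agent.StdL2.Field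
open Cfsg.Agent.StdL2.FrameFT (VV mem_VV up_mem_VV VV_le VV_sq card_VV sem ent_ne)
open Cfsg.Agent.Lib.SL2Mat Cfsg.Agent.Lib.AutSL2
open Cfsg.Agent.OddHalf.D4.CommConj (cj mem_cj cj_mul card_cj cj_eq_of_mem_normalizer mem_normalizer_of_cj_eq
  mem_cj_mul Tight)
open Cfsg.Agent.OddHalf.D4.Basic (IsSyl exists_isSyl orderOf_conj)
open Cfsg.Agent.OddHalf.D4.RkEnd.Aff (Frame Frame0 NoSwap)

local notation "SL2" => Matrix.SpecialLinearGroup (Fin 2)

universe u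

variable {F : Type*} [Field F] {G : Type u} [Group G] {A T S : Subgroup G} {π : SL2 F →* G}

namespace Pr

variable [Finite F] [CharP F 2] [Finite G] (H : Pr A T π)
include H

/-- elements of `R ∖ 1` are not in the root group -/
theorem R_inf_VV {r : G} (hr : r ∈ RR A T) (hv : r ∈ VV π) : r = 1 :=
  eq_one_of_cent H.P (VV_le H.P hv) hr.2

/-- **the torus moves each root element into the centre of a 2-group** -/
theorem toZ {S : Subgroup G} (hS : IsPGroup 2 S) (hPS : VV π ≤ S)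
    (hn : ∀ s ∈ S, ∀ p ∈ VV π, s * p * s⁻¹ ∈ VV π) {p : G} (hp : p ∈ VV π) (hp1 : p ≠ 1) :
    ∃ g : G, g * p * g⁻¹ ∈ VV π ∧ ∀ s ∈ S, s * (g * p * g⁻¹) = (g * p * g⁻¹) * s := by
  have hq := H.q8
  have hne : ∃ x ∈ VV π, x ∉ (⊥ : Subgroup G) := ⟨p, hp, fun h => hp1 (mem_bot.1 h)⟩
  obtain ⟨z, hz, hz1, hzS⟩ := RkEnd.Aff.exists_fixed (P := ⊥) hS hPS hn (by
    intro s _ x hx
    rw [mem_bot] at hx ⊢
    rw [hx]; group) hne
  rw [mem_bot] at hz1
  obtain ⟨b, rfl⟩ := mem_VV.1 hp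
  obtain ⟨a, rfl⟩ := mem_VV.1 hz
  have hb : b ≠ 0 := by
    rintro rfl
    exact hp1 H.u0
  have ha : a ≠ 0 := by
    rintro rfl
    exact hz1 H.u0
  obtain ⟨h, -, -, -, hu⟩ := H.exists_tor (a / b) (div_ne_zero ha hb)
  have e : h * π (up b) * h⁻¹ = π (up a) := by
    rw [hu, div_mul_cancel₀ a hb]
  refine ⟨h, ?_, fun s hs => ?_⟩
  · rw [e]; exact up_mem_VV a
  · rw [e]
    have h1 := hzS s hs
    rw [mem_bot, mul_inv_eq_one, mul_inv_eq_iff_eq_mul] at h1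
    exact h1

end Pr

namespace Ef

variable [Finite F] [CharP F 2] [Finite G] {f : G → F} {E : Subgroup G} {s : F}
  {H : Sy A T S π f} (K : Ef H E s)
include K

theorem ES : E ≤ S := K.ET.trans H.T1_S

theorem chi_ne {e : G} (he : e ∈ E) (h : e ∉ VV π) : H.chi e ≠ 0 := fun h0 =>
  h (K.EVQ e he (H.mem_VQ_of_chi (K.ET he) h0))

theorem mem_VV_of_chi {e : G} (he : e ∈ E) (h0 : H.chi e = 0) : e ∈ VV π :=
  K.EVQ e he (H.mem_VQ_of_chi (K.ET he) h0)

theorem chi_VV {v : G} (hv : v ∈ VV π) : H.chi v = 0 := H.chi_VQ (H.VVQ hv)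

/-- the commutator with `r u(b)` -/
theorem br' {r e : G} (hr : r ∈ RR A T) (b : F) (he : e ∈ H.T1) :
    r * π (up b) * e * (r * π (up b))⁻¹ * e⁻¹ = π (up (H.chi e * f r)) := by
  have h1 := H.T1_u he b
  have h2 := K.br hr he
  calc r * π (up b) * e * (r * π (up b))⁻¹ * e⁻¹ = r * (π (up b) * e) * (π (up b))⁻¹ * r⁻¹ * e⁻¹ := by group
    _ = r * e * r⁻¹ * e⁻¹ := by rw [← h1]; group
    _ = _ := h2

theorem f_ne {r : G} (hr : r ∈ RR A T) {b : F} (hv : r * π (up b) ∉ VV π) : f r ≠ 0 := by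
  intro h
  apply hv
  rw [H.gf.f_inj r hr h, one_mul]
  exact up_mem_VV b

theorem brA {x : G} (hx : x ∈ VQ A T π) (hxV : x ∉ VV π) {e : G} (he : e ∈ E) (hc : x * e = e * x) :
    e ∈ VV π := by
  obtain ⟨r, hr, b, rfl⟩ := H.mem_VQ.1 hx
  have h1 := K.br' hr b (K.ET he)
  rw [hc, mul_inv_cancel_right, mul_inv_cancel, ← H.u0] at h1
  have h2 := H.uinj h1
  exact K.mem_VV_of_chi he ((mul_eq_zero.1 h2.symm).resolve_right (K.f_ne hr hxV))

theorem surj {x : G} (hx : x ∈ VQ A T π) (hxV : x ∉ VV π) {p : G} (hp : p ∈ VV π) :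
    ∃ e ∈ E, x * e * x⁻¹ * e⁻¹ = p := by
  obtain ⟨r, hr, b, rfl⟩ := H.mem_VQ.1 hx
  obtain ⟨a, rfl⟩ := mem_VV.1 hp
  obtain ⟨e, he, hc⟩ := K.onto (a / f r)
  refine ⟨e, he, ?_⟩
  rw [K.br' hr b (K.ET he), hc, div_mul_cancel₀ a (K.f_ne hr hxV)]

theorem EnP : ∃ e ∈ E, e ∉ VV π := by
  obtain ⟨e, he, hc⟩ := K.onto 1
  refine ⟨e, he, fun h => ?_⟩
  rw [K.chi_VV h] at hc
  exact one_ne_zero hc.symm

theorem AII {x : G} (hx : x ∈ VQ A T π) (hxV : x ∉ VV π) : II A T x := by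
  refine ⟨fun h => hxV (h ▸ one_mem _), ?_⟩
  obtain ⟨c, Z, hZ, -, hxZ⟩ := H.gf.cover H.toPr hx hxV
  obtain ⟨n, -, hnZ⟩ := H.toPr.exists_norm hZ
  exact ⟨n, by rw [hnZ]; exact hxZ⟩

/-- the frame without the Sylow condition, for a 2-group `S'` acting semilinearly on the root group -/
theorem frame0' {S' : Subgroup G} (hS : IsPGroup 2 S') (hSS : S ≤ S')
    (hn : ∀ s ∈ S', ∀ p ∈ VV π, s * p * s⁻¹ ∈ VV π) (hs : ∀ s ∈ S', ∃ c σ, Semi π s c σ) :
    Frame0 S' (VQ A T π) E (VV π) (Nat.card F) (II A T) where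
  two := hS
  AS := H.VQT.trans (H.TS.trans hSS)
  ES := K.ES.trans hSS
  PA := H.VVQ
  PE := K.VE
  elemA := fun a ha => H.vsq ha
  commE := K.comm
  cardP := card_VV H.P
  q8 := H.q8
  AnP := by
    obtain ⟨r, hr, hr2⟩ := H.exists_r
    refine ⟨r, H.RVQ hr, fun h => ?_⟩
    rw [H.toPr.R_inf_VV hr h, orderOf_one] at hr2
    omega
  EnP := K.EnP
  brP := fun x hx e he => H.comm_VQ hx (K.ET he).2
  brA := fun x hx hxP e he hc => K.brA hx hxP he hc
  surj := fun x hx hxP p hp => K.surj hx hxP hp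
  normP := hn
  fix2 := fun s hs' h => Semi.fix2 H.P hS hs hs' h
  fix4 := fun s hs' h => Semi.fix4 H.P hS hs hs' h
  cyc := fun s h s' h' h1 h2 h3 h4 => Semi.cyc H.P hS hs h h' h1 h2 h3 h4
  comm := fun s h s' h' => Semi.comm_mem H.P hS hs h h'
  toZ := fun p hp hp1 => H.toPr.toZ hS (H.VVQ.trans (H.VQT.trans (H.TS.trans hSS))) hn hp hp1
  IIc := fun g x h => II_conj h
  AII := fun x hx hxP => K.AII hx hxP
  PII := fun x hx => H.not_II hx

/-- the frame, for a Sylow 2-subgroup `S'` acting semilinearly on the root group -/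
theorem frame' {S' : Subgroup G} (hS : IsSyl S' ⊤) (hSS : S ≤ S')
    (hn : ∀ s ∈ S', ∀ p ∈ VV π, s * p * s⁻¹ ∈ VV π) (hs : ∀ s ∈ S', ∃ c σ, Semi π s c σ) :
    Frame S' (VQ A T π) E (VV π) (Nat.card F) (II A T) :=
  { K.frame0' hS.two hSS hn hs with syl := hS }

theorem normVV {x p : G} (hx : x ∈ S) (hp : p ∈ VV π) : x * p * x⁻¹ ∈ VV π := by
  have h1 : x * p * x⁻¹ ∈ cj x (VV π) := mem_cj_mul hp
  rwa [H.toAf.norm_VV (H.S_N hx)] at h1

/-- **the frame** -/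
theorem frame (hS : IsSyl S ⊤) : Frame S (VQ A T π) E (VV π) (Nat.card F) (II A T) :=
  K.frame' hS le_rfl (fun _ hx _ hp => K.normVV hx hp) (fun _ hx => H.toAf.semi (H.S_N hx))

theorem noSwap : NoSwap S (VQ A T π) E (VV π) where
  normA := fun x hx a ha => (mem_normalizer_iff.1 (H.S_N hx) a).1 ha
  normE := K.normS
  cent := by
    intro x hx hc
    have h1 := H.mem_T1_of_cent hx (fun v hv => mem_cent.1 hc v hv)
    obtain ⟨r, hr, e, he, h2, -⟩ := K.T1_eq h1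
    exact ⟨r, H.RVQ hr, e, he, h2⟩

theorem cne (hs : s ≠ 0) : ∀ e ∈ E, e * e = 1 → e ∈ VV π := by
  intro e he h
  rw [K.sq e he, ← H.u0] at h
  exact K.mem_VV_of_chi he ((mul_eq_zero.1 (H.uinj h)).resolve_left hs)

theorem elemE (hs : s = 0) : ∀ e ∈ E, e * e = 1 := by
  intro e he
  rw [K.sq e he, hs, zero_mul, H.u0]

/-- the square of `r u(b) e` -/
theorem sq_rue {r e : G} (hr : r ∈ RR A T) (b : F) (he : e ∈ E) :
    (r * π (up b) * e) * (r * π (up b) * e) = π (up (H.chi e * (f r + s))) := by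
  have h0 : r * π (up b) ∈ VQ A T π := H.mem_VQ.2 ⟨r, hr, b, rfl⟩
  have h1 := K.br' hr b (K.ET he)
  have h2 := H.vsq h0
  have h3 : (r * π (up b))⁻¹ = r * π (up b) := inv_eq_of_mul_eq_one_left h2
  have h4 : (r * π (up b) * e) * (r * π (up b) * e) =
      (r * π (up b) * e * (r * π (up b))⁻¹ * e⁻¹) * (e * e) := by
    calc (r * π (up b) * e) * (r * π (up b) * e) =
          (r * π (up b) * e * (r * π (up b)) * e⁻¹) * (e * e) := by group
      _ = _ := by rw [h3]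
  rw [h4, h1, K.sq e he, H.uadd]
  congr 2; ring

theorem two : ∀ x ∈ VQ A T π, ∀ x' ∈ VQ A T π, ∀ e ∈ E, ∀ e' ∈ E, e ∉ VV π → e' ∉ VV π →
    (x * e) * (x * e) = 1 → (x' * e') * (x' * e') = 1 → x * x' ∈ VV π := by
  intro x hx x' hx' e he e' he' heV heV' h h'
  have key : ∀ x ∈ VQ A T π, ∀ e ∈ E, e ∉ VV π → (x * e) * (x * e) = 1 →
      ∃ r ∈ RR A T, ∃ b : F, x = r * π (up b) ∧ f r = s := by
    intro x hx e he heV h
    obtain ⟨r, hr, b, rfl⟩ := H.mem_VQ.1 hx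
    refine ⟨r, hr, b, rfl, ?_⟩
    rw [K.sq_rue hr b he, ← H.u0] at h
    have h6 := (mul_eq_zero.1 (H.uinj h)).resolve_left (K.chi_ne he heV)
    have e2 : (2 : F) = 0 := CharTwo.two_eq_zero
    linear_combination h6 - s * e2
  obtain ⟨r, hr, b, rfl, hfr⟩ := key x hx e he heV h
  obtain ⟨r', hr', b', rfl, hfr'⟩ := key x' hx' e' he' heV' h'
  have h1 : f (r * r') = 0 := by
    rw [H.gf.f_add r hr r' hr', hfr, hfr', CharTwo.add_self_eq_zero]
  have h2 := H.gf.f_inj _ (mul_mem hr hr') h1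
  have h3 : r * π (up b) * (r' * π (up b')) = (r * r') * (π (up b) * π (up b')) := by
    have := H.ru hr' b
    calc r * π (up b) * (r' * π (up b')) = r * (π (up b) * r') * π (up b') := by group
      _ = r * (r' * π (up b)) * π (up b') := by rw [this]
      _ = _ := by group
  rw [h3, h2, one_mul]
  exact mul_mem (up_mem_VV b) (up_mem_VV b')

end Ef

end Cfsg.Agent.OddHalf.D4.Rk2
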