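import Cfsg.Agent.OddHalf.D4.Rk2.FieldT
import Cfsg.Agent.OddHalf.D4.RkEnd.TwoMem

/-!
# D4, `K = L₂(q)`: two members `{R, R₀}`

The right alternative of the dichotomy is impossible in a simple group (S1169).
-/

set_option autoImplicit false
set_option linter.unusedSectionVars false

namespace Cfsg.Agent.OddHalf.D4.Rk2

open Subgroup Cfsg.Agent.StdL2.Frame Cfsg.Agent.StdL2.Field
open Cfsg.Agent.StdL2.FrameFT (VV mem_VV up_mem_VV VV_le VV_sq card_VV le_VV)
open Cfsg.Agent.Lib.SL2Mat Cfsg.Agent.Lib.AutSL2 Cfsg.Agent.StdRank2.OutField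
open Cfsg.Agent.OddHalf.D4.CommConj (cj mem_cj cj_mul card_cj cj_eq_of_mem_normalizer mem_normalizer_of_cj_eq
  mem_cj_mul Tight)
open Cfsg.Agent.OddHalf.D4.Basic (IsSyl exists_isSyl orderOf_conj)
open Cfsg.Agent.OddHalf.D4.RkEnd

local notation "SL2" => Matrix.SpecialLinearGroup (Fin 2)

universe u

variable {F : Type*} [Field F] {G : Type u} [Group G] {A T : Subgroup G} {π : SL2 F →* G}

namespace Pr

variable [Finite F] [CharP F 2] [Finite G] (H : Pr A T π)
include H

/-- a Sylow 2-subgroup of `N(VQ)` containing `T` meets `N(A)` in `T` -/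
theorem mem_T_of_mem {S : Subgroup G} (hS : IsSyl S (normalizer (VQ A T π : Set G))) (hTS : T ≤ S) {s : G}
    (hs : s ∈ S) (hsM : s ∈ normalizer (A : Set G)) : s ∈ T := by
  have h1 : S ⊓ normalizer (A : Set G) ≤ T :=
    H.syl.max _ (hS.two.to_le inf_le_left) (le_inf hTS H.syl.le) inf_le_right
  exact h1 ⟨hs, hsM⟩

theorem exists_S : ∃ S : Subgroup G, IsSyl S (normalizer (VQ A T π : Set G)) ∧ T ≤ S :=
  exists_isSyl H.T2 (fun _ ht => H.T_norm ht)

/-- the hypotheses of `TwoMem` -/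
theorem pre (h1 : VV π ∈ LL A T π) (h2 : ∀ Z ∈ LL A T π, Z = RR A T ∨ Z = VV π) {S : Subgroup G}
    (hS : IsSyl S (normalizer (VQ A T π : Set G))) (hTS : T ≤ S) :
    TwoMem.Pre S T (RR A T) (VV π) (Nat.card F) := by
  have hne : RR A T ≠ VV π := by
    intro h
    obtain ⟨r, hr, hr2⟩ := H.exists_r
    have h3 : r ∈ A := VV_le H.P (h ▸ hr)
    have := eq_one_of_cent H.P h3 hr.2
    rw [this, orderOf_one] at hr2
    omega
  have hcardV : Nat.card (VV π) = Nat.card F := card_VV H.P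
  have hswR : ∀ s ∈ S, s ∉ T → cj s (RR A T) = VV π := by
    intro s hs hsT
    rcases h2 _ (H.cj_mem_LL (hS.le hs) H.R_mem_LL) with h3 | h3
    · exact absurd (H.mem_T_of_mem hS hTS hs (H.mem_M_of_cj h3)) hsT
    · exact h3
  have hswV : ∀ s ∈ S, s ∉ T → cj s (VV π) = RR A T := by
    intro s hs hsT
    rcases h2 _ (H.cj_mem_LL (hS.le hs) h1) with h3 | h3
    · exact h3
    · exfalso
      exact hne (cj_inj ((hswR s hs hsT).trans h3.symm))
  refine
  { elem := fun a ha => H.vsq ha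
    disj := fun x hx hxV => eq_one_of_cent H.P (VV_le H.P hxV) hx.2
    cardQ := by rw [← H.LL_card h1, hcardV]
    cardP := hcardV
    q8 := H.q8
    leT := H.VQT
    TS := hTS
    normQ := fun t ht x hx =>
      mem_RR.2 ⟨mul_mem (mul_mem ht hx.1) (inv_mem ht), H.tight.norm _ (H.toFr.nT ht) _ hx.2⟩
    normP := fun t ht x hx => H.toFr.Vn ht hx
    swapQ := fun s hs hsT x hx => by rw [← hswR s hs hsT]; exact mem_cj_mul hx
    swapP := fun s hs hsT x hx => by rw [← hswV s hs hsT]; exact mem_cj_mul hx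
    idx := ?_
    swap := ?_
    fixP := ?_
    fix4 := ?_
    cyc := ?_ }
  · intro s hs hsT s' hs' hsT'
    apply H.mem_T_of_mem hS hTS (mul_mem hs hs')
    apply H.mem_M_of_cj
    rw [cj_mul, hswR s' hs' hsT', hswV s hs hsT]
  · -- a 2-element that swaps
    obtain ⟨n, hn, hnR⟩ := H.exists_norm h1
    have hnV : cj n (VV π) = RR A T := by
      rcases h2 _ (H.cj_mem_LL hn h1) with h3 | h3
      · exact h3
      · exact absurd (cj_inj (hnR.trans h3.symm)) hne
    obtain ⟨m, k, hm, hk⟩ := Tools.exists_odd_pow n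
    have hpow : ∀ i : ℕ, cj (n ^ (2 * i + 1)) (RR A T) = VV π := by
      intro i
      induction i with
      | zero => rw [mul_zero, zero_add, pow_one, hnR]
      | succ i ih =>
        have e : n ^ (2 * (i + 1) + 1) = n ^ (2 * i + 1) * n * n := by
          rw [← pow_succ, ← pow_succ]
          congr 1
        rw [e, cj_mul, cj_mul, hnR, hnV, ih]
    have hmR : cj (n ^ m) (RR A T) = VV π := by
      obtain ⟨i, rfl⟩ := hm
      exact hpow i
    obtain ⟨x, hx, hxS⟩ := hS.conj_into (Tools.isPGroup_zpowers hk) (zpowers_le.mpr (pow_mem hn m))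
    refine ⟨_, hxS _ (mem_zpowers _), ?_⟩
    intro hT
    have h3 : cj (x * n ^ m * x⁻¹) (RR A T) = RR A T :=
      H.cj_R_of_mem_M (H.T_norm hT) (H.toFr.nT hT)
    have h4 : cj (x * n ^ m * x⁻¹) (VV π) = VV π :=
      H.cj_VV_of_mem_M (H.T_norm hT) (H.toFr.nT hT)
    have h5 : cj (x * n ^ m * x⁻¹) (cj x (RR A T)) = cj x (VV π) := by
      rw [← cj_mul]
      have e : x * n ^ m * x⁻¹ * x = x * n ^ m := by group
      rw [e, cj_mul, hmR]
    have h6 : cj x (RR A T) = cj x (VV π) := by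
      rcases h2 _ (H.cj_mem_LL hx H.R_mem_LL) with h7 | h7
      · rw [← h5, h7, h3]
      · rw [← h5, h7, h4]
    exact hne (cj_inj h6)
  · intro t ht htV
    apply H.toFr.fix2 ht
    intro h3
    exact htV (H.mem_VQ_of_cent ht (mem_cent.1 h3))
  · intro t ht htV
    apply H.toFr.fix4 ht
    intro h3
    exact htV (H.mem_VQ_of_cent (mul_mem ht ht) (mem_cent.1 h3))
  · intro t ht t' ht' h3 h3' h4 h4'
    apply H.mem_VQ_of_cent (mul_mem ht ht')
    rw [← mem_cent]
    apply H.toFr.cyc ht ht'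
    · exact fun h5 => h3 (H.mem_VQ_of_cent ht (mem_cent.1 h5))
    · exact fun h5 => h3' (H.mem_VQ_of_cent ht' (mem_cent.1 h5))
    · exact mem_cent.2 (H.cent_of_mem_VQ h4)
    · exact mem_cent.2 (H.cent_of_mem_VQ h4')

/-- **two members** -/
theorem false_of_two [IsSimpleGroup G] (gold : Cfsg.Agent.StdSz.EndClosed.Gold.{u})
    (h : VV π ∈ LL A T π ∧ ∀ Z ∈ LL A T π, Z = RR A T ∨ Z = VV π) : False := by
  obtain ⟨S, hS, hTS⟩ := H.exists_S
  exact ((H.pre h.1 h.2 hS hTS).hyp hS).false gold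

end Pr

end Cfsg.Agent.OddHalf.D4.Rk2
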