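import Cfsg.Agent.OddHalf.D4.Rk2.SwapEnd
import Cfsg.Agent.OddHalf.D4.Rk2.Feed
import Cfsg.Agent.OddHalf.D4.Rk2.Wreath

/-!
# D4, `K = L₂(q)`: the structure `Pr` is impossible in a simple group
-/

set_option autoImplicit false
set_option linter.unusedSectionVars false

namespace Cfsg.Agent.OddHalf.D4.Rk2

open Subgroup Cfsg.Agent.StdL2.Frame Cfsg.Agent.StdL2.Field
open Cfsg.Agent.StdL2.FrameFT (VV mem_VV up_mem_VV VV_le VV_sq card_VV sem ent_ne)
open Cfsg.Agent.Lib.SL2Mat Cfsg.Agent.Lib.AutSL2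
open Cfsg.Agent.OddHalf.D4.CommConj (cj mem_cj cj_mul card_cj cj_eq_of_mem_normalizer mem_normalizer_of_cj_eq
  mem_cj_mul Tight)
open Cfsg.Agent.OddHalf.D4.Basic (IsSyl exists_isSyl orderOf_conj)
open Cfsg.Agent.OddHalf.D4.RkEnd

local notation "SL2" => Matrix.SpecialLinearGroup (Fin 2)

universe u

variable {F : Type*} [Field F] {G : Type u} [Group G] {A T S : Subgroup G} {π : SL2 F →* G}
  [Finite F] [CharP F 2] [Finite G]

namespace Swp

variable {f : G → F} {E : Subgroup G} {s : F} {H : Sy A T S π f} {K : Ef H E s} {S2 : Subgroup G} (Z : Swp K S2)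
include Z

theorem swap : Aff.Swap S2 (VQ A T π) E (VV π) (Nat.card F) (II A T) where
  elemE := K.elemE Z.s0
  cardA := by rw [Z.cardVQ, pow_two]
  EII := Z.EII
  perm := by
    intro n hn
    rcases Z.syl.le hn with ⟨h1, h2⟩ | ⟨h1, h2⟩
    · left
      refine ⟨fun a ha => ?_, fun e he => ?_⟩
      · have : n * a * n⁻¹ ∈ cj n (VQ A T π) := mem_cj_mul ha
        rwa [h1] at this
      · have : n * e * n⁻¹ ∈ cj n E := mem_cj_mul he
        rwa [h2] at this
    · right
      refine ⟨fun a ha => ?_, fun e he => ?_⟩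
      · have : n * a * n⁻¹ ∈ cj n (VQ A T π) := mem_cj_mul ha
        rwa [h1] at this
      · have : n * e * n⁻¹ ∈ cj n E := mem_cj_mul he
        rwa [h2] at this
  cent := by
    intro n hn hc hN
    have h1 : n ∈ normalizer (VQ A T π : Set G) := by
      apply mem_normalizer_of_cj_eq
      have h2 : cj n (VQ A T π) ≤ VQ A T π := by
        rintro _ ⟨a, ha, rfl⟩
        exact hN.1 a ha
      exact eq_of_le_of_card_ge h2 (card_cj _ _).ge
    have h2 := H.mem_T1_of_cent (Z.mem_S hn h1) (fun v hv => mem_cent.1 hc v hv)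
    obtain ⟨r, hr, e, he, h3, -⟩ := K.T1_eq h2
    exact ⟨r, H.RVQ hr, e, he, h3⟩

end Swp

theorem Ef.false [IsSimpleGroup G] (gold : Cfsg.Agent.StdSz.EndClosed.Gold.{u}) {f : G → F} {E : Subgroup G} {s : F}
    {H : Sy A T S π f} (K : Ef H E s) : False := by
  by_cases hs : s = 0
  · by_cases hII : ∃ e ∈ E, II A T e
    · obtain ⟨S2, Z⟩ := Swp.exists_swp K hs hII
      exact Aff.affSw (K.frame' Z.sylTop Z.SS (fun s hs p hp => Z.norm_VV hs hp) (fun s hs => Z.semi hs)) Z.swap gold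
    · push Not at hII
      have hm : ∀ g, cj g (RR A T) ≤ S → cj g (RR A T) ∈ LL A T π := fun g hg => K.mem_LL_zero hs hII hg
      exact Aff.affZ gold (K.frame (K.sylTop hm)) K.noSwap (K.elemE hs) hII
  · have hm : ∀ g, cj g (RR A T) ≤ S → cj g (RR A T) ∈ LL A T π := fun g hg => K.mem_LL_ne hs hg
    exact Aff.affC gold (K.frame (K.sylTop hm)) K.noSwap (fun g hg => K.wc hm hg) (K.cne hs) K.two

/-- **`Pr` is impossible in a simple group** -/
theorem Pr.false [IsSimpleGroup G] (gold : Cfsg.Agent.StdSz.EndClosed.Gold.{u}) (H : Pr A T π) : False := by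
  rcases H.dichotomy with ⟨f, hf, hno⟩ | h
  · obtain ⟨S, hS, hTS⟩ := H.exists_S
    have HA : Af A T π f := { H with gf := hf, noII := hno }
    have HS : Sy A T S π f := { HA with sylS := hS, TS := hTS }
    obtain ⟨E, s, K⟩ := HS.exists_Ef
    exact K.false gold
  · exact H.false_of_two gold h

end Cfsg.Agent.OddHalf.D4.Rk2
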