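import Cfsg.Agent.OddHalf.D4.Rk2.Memb

/-!
# D4, `K = L₂(q)`: the elements of `T` as field automorphisms of the root group

`fix2`, `fix4`: the numbers of fixed points; `cyc`, `comm_mem`: `T / C_T(VV)` is cyclic.
-/

set_option autoImplicit false
set_option linter.unusedSectionVars false

namespace Cfsg.Agent.OddHalf.D4.Rk2

open Subgroup Cfsg.Agent.StdL2.Frame Cfsg.Agent.StdL2.Field
open Cfsg.Agent.StdL2.FrameFT (VV mem_VV up_mem_VV VV_le VV_sq card_VV le_VV sem ent_ne cent_VV cent_of_fld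
  exists_fixed ent_of_conj conj_up eq_up dg_conj)
open Cfsg.Agent.Lib.SL2Mat Cfsg.Agent.Lib.AutSL2 Cfsg.Agent.StdRank2.OutField

local notation "SL2" => Matrix.SpecialLinearGroup (Fin 2)

universe u

section field

variable {F : Type*} [Field F] [Finite F]

/-- the fixed field of `σ` -/
theorem exists_fixed_field (σ : F ≃+* F) :
    ∃ K : Subfield F, (∀ a, a ∈ K ↔ σ a = a) ∧ Nat.card F = Nat.card K ^ orderOf σ := by
  classical
  have := finite_aut (F := F)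
  have : Fintype (Subgroup.zpowers σ) := Fintype.ofFinite _
  let K := FixedPoints.subfield (Subgroup.zpowers σ) F
  have hK : ∀ a, a ∈ K ↔ σ a = a := by
    intro a
    constructor
    · intro h
      exact h ⟨σ, Subgroup.mem_zpowers σ⟩
    · rintro h ⟨τ, hτ⟩
      change τ a = a
      obtain ⟨k, rfl⟩ := Subgroup.mem_zpowers_iff.1 hτ
      have h1 : σ ∈ MulAction.stabilizer (F ≃+* F) a := h
      exact (MulAction.stabilizer (F ≃+* F) a).zpow_mem h1 k
  refine ⟨K, hK, ?_⟩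
  have h1 := FixedPoints.finrank_eq_card (Subgroup.zpowers σ) F
  rw [← Nat.card_eq_fintype_card, Nat.card_zpowers] at h1
  rw [← h1]
  exact Module.natCard_eq_pow_finrank

/-- the number of fixed points of a semilinear map -/
theorem card_fixc_pow {σ : F ≃+* F} {k : ℕ} (hk : k ≤ orderOf σ) (c : F) :
    Nat.card {b : F // c * σ b = b} ^ k ≤ Nat.card F := by
  by_cases h : ∃ b0 : F, b0 ≠ 0 ∧ c * σ b0 = b0
  · obtain ⟨b0, hb0, hcb0⟩ := h
    have hc0 : c ≠ 0 := by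
      rintro rfl
      rw [zero_mul] at hcb0
      exact hb0 hcb0.symm
    obtain ⟨K, hK, hcard⟩ := exists_fixed_field σ
    have hσ0 : σ b0 ≠ 0 := fun h => hb0 (by rwa [map_eq_zero] at h)
    have h1 : Nat.card {b : F // c * σ b = b} ≤ Nat.card K := by
      refine Nat.card_le_card_of_injective
        (fun b : {b : F // c * σ b = b} => (⟨b.1 / b0, ?_⟩ : K)) ?_
      · rw [hK, map_div₀, div_eq_div_iff hσ0 hb0]
        apply mul_left_cancel₀ hc0
        linear_combination b0 * b.2 - (b : F) * hcb0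
      · intro a b hab
        have h2 : (a : F) / b0 = (b : F) / b0 := congrArg Subtype.val hab
        exact Subtype.ext ((div_left_inj' hb0).1 h2)
    calc Nat.card {b : F // c * σ b = b} ^ k ≤ Nat.card K ^ k := Nat.pow_le_pow_left h1 k
      _ ≤ Nat.card K ^ orderOf σ := Nat.pow_le_pow_right Nat.card_pos hk
      _ = Nat.card F := hcard.symm
  · push Not at h
    have h1 : Nat.card {b : F // c * σ b = b} ≤ 1 := by
      rw [Finite.card_le_one_iff_subsingleton]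
      refine ⟨fun a b => Subtype.ext ?_⟩
      have ha : (a : F) = 0 := by
        by_contra h2
        exact h a h2 a.2
      have hb : (b : F) = 0 := by
        by_contra h2
        exact h b h2 b.2
      rw [ha, hb]
    calc Nat.card {b : F // c * σ b = b} ^ k ≤ 1 ^ k := Nat.pow_le_pow_left h1 k
      _ = 1 := one_pow k
      _ ≤ Nat.card F := Nat.card_pos

end field

variable {F : Type*} [Field F] {G : Type u} [Group G] {A T : Subgroup G} {π : SL2 F →* G}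

namespace Fr

variable (H : Fr A T π) [Finite F] [CharP F 2] [Finite G]
include H

theorem mem_cent_VV {x : G} (hx : x ∈ T) : x ∈ centralizer (VV π : Set G) ↔ H.fl ⟨x, hx⟩ = 1 := by
  rw [H.fl_eq_one, mem_cent]

theorem fix_pow {t : G} (ht : t ∈ T) {k : ℕ} (hk : k ≤ orderOf (H.fl ⟨t, ht⟩)) :
    Nat.card (VV π ⊓ centralizer ({t} : Set G) : Subgroup G) ^ k ≤ Nat.card F := by
  obtain ⟨y, hy, h0, hact⟩ := sem H.P (H.nT ht) (fun v hv => H.Vn ht hv)
  refine le_trans (Nat.pow_le_pow_left ?_ k) (card_fixc_pow (σ := H.fl ⟨t, ht⟩) hk (ent y 0 0 ^ 2))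
  have key : ∀ x : (VV π ⊓ centralizer ({t} : Set G) : Subgroup G), ∃ b : F,
      ent y 0 0 ^ 2 * H.fl ⟨t, ht⟩ b = b ∧ (x : G) = π (up b) := by
    rintro ⟨x, hxV, hxc⟩
    obtain ⟨b, rfl⟩ := mem_VV.1 hxV
    refine ⟨b, ?_, rfl⟩
    have h1 := mem_centralizer_singleton_iff.1 hxc
    have h2 : t * π (up b) * t⁻¹ = π (up b) := by
      rw [mul_inv_eq_iff_eq_mul]
      exact h1.symm
    rw [hact] at h2
    exact up_inj (H.P.inj h2)
  choose b hb hxb using key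
  refine Nat.card_le_card_of_injective
    (fun x => (⟨b x, hb x⟩ : {b : F // ent y 0 0 ^ 2 * H.fl ⟨t, ht⟩ b = b})) ?_
  intro x x' h
  apply Subtype.ext
  rw [hxb x, hxb x']
  have h2 : b x = b x' := congrArg Subtype.val h
  rw [h2]

theorem order_fl {t : G} (ht : t ∈ T) : ∃ m : ℕ, orderOf (H.fl ⟨t, ht⟩) = 2 ^ m := by
  obtain ⟨m, hm⟩ := exists_pow_of_mem H.T2 ht
  have h1 : H.fl ⟨t, ht⟩ ^ 2 ^ m = 1 := by
    rw [← map_pow]
    have : (⟨t, ht⟩ : T) ^ 2 ^ m = 1 := Subtype.ext hm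
    rw [this, map_one]
  obtain ⟨k, -, hk⟩ := (Nat.dvd_prime_pow Nat.prime_two).mp (orderOf_dvd_of_pow_eq_one h1)
  exact ⟨k, hk⟩

theorem fix2 {t : G} (ht : t ∈ T) (htc : t ∉ centralizer (VV π : Set G)) :
    Nat.card (VV π ⊓ centralizer ({t} : Set G) : Subgroup G) ^ 2 ≤ Nat.card F := by
  apply H.fix_pow ht
  obtain ⟨m, hm⟩ := H.order_fl ht
  rw [hm]
  have h1 : m ≠ 0 := by
    rintro rfl
    rw [pow_zero, orderOf_eq_one_iff] at hm
    exact htc ((H.mem_cent_VV ht).2 hm)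
  calc 2 = 2 ^ 1 := by norm_num
    _ ≤ 2 ^ m := Nat.pow_le_pow_right (by norm_num) (by omega)

theorem fix4 {t : G} (ht : t ∈ T) (htc : t * t ∉ centralizer (VV π : Set G)) :
    Nat.card (VV π ⊓ centralizer ({t} : Set G) : Subgroup G) ^ 4 ≤ Nat.card F := by
  apply H.fix_pow ht
  obtain ⟨m, hm⟩ := H.order_fl ht
  have h0 : (H.fl ⟨t, ht⟩) ^ 2 ≠ 1 := by
    intro h
    apply htc
    rw [H.mem_cent_VV (mul_mem ht ht)]
    have h2 : (⟨t * t, mul_mem ht ht⟩ : T) = ⟨t, ht⟩ * ⟨t, ht⟩ := rfl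
    rw [h2, map_mul, ← pow_two, h]
  rw [hm]
  have h1 : 2 ≤ m := by
    by_contra hlt
    apply h0
    have h2 : orderOf (H.fl ⟨t, ht⟩) ∣ 2 := by
      rw [hm]
      calc 2 ^ m ∣ 2 ^ 1 := pow_dvd_pow 2 (by omega)
        _ = 2 := by norm_num
    exact orderOf_dvd_iff_pow_eq_one.1 h2
  calc 4 = 2 ^ 2 := by norm_num
    _ ≤ 2 ^ m := Nat.pow_le_pow_right (by norm_num) h1

theorem cyc {t t' : G} (ht : t ∈ T) (ht' : t' ∈ T) (h1 : t ∉ centralizer (VV π : Set G))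
    (h1' : t' ∉ centralizer (VV π : Set G)) (h2 : t * t ∈ centralizer (VV π : Set G))
    (h2' : t' * t' ∈ centralizer (VV π : Set G)) : t * t' ∈ centralizer (VV π : Set G) := by
  have e1 : H.fl ⟨t, ht⟩ = H.fl ⟨t', ht'⟩ := by
    apply unique_invol
    · rw [← map_mul]
      exact (H.mem_cent_VV (mul_mem ht ht)).1 h2
    · rw [← map_mul]
      exact (H.mem_cent_VV (mul_mem ht' ht')).1 h2'
    · intro h
      exact h1 ((H.mem_cent_VV ht).2 h)
    · intro h
      exact h1' ((H.mem_cent_VV ht').2 h)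
  rw [H.mem_cent_VV (mul_mem ht ht')]
  have h3 : (⟨t * t', mul_mem ht ht'⟩ : T) = ⟨t, ht⟩ * ⟨t', ht'⟩ := rfl
  rw [h3, map_mul, ← e1, ← map_mul]
  exact (H.mem_cent_VV (mul_mem ht ht)).1 h2

theorem comm_mem {t t' : G} (ht : t ∈ T) (ht' : t' ∈ T) :
    t * t' * t⁻¹ * t'⁻¹ ∈ centralizer (VV π : Set G) := by
  have hm : t * t' * t⁻¹ * t'⁻¹ ∈ T := mul_mem (mul_mem (mul_mem ht ht') (inv_mem ht)) (inv_mem ht')
  rw [H.mem_cent_VV hm]
  have h3 : (⟨t * t' * t⁻¹ * t'⁻¹, hm⟩ : T) = ⟨t, ht⟩ * ⟨t', ht'⟩ * ⟨t, ht⟩⁻¹ * ⟨t', ht'⟩⁻¹ := rfl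
  rw [h3, map_mul, map_mul, map_mul, map_inv, map_inv, comm (H.fl ⟨t, ht⟩) (H.fl ⟨t', ht'⟩)]
  group

end Fr

end Cfsg.Agent.OddHalf.D4.Rk2
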