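import Cfsg.Agent.OddHalf.D4.Rk2.Eone

/-!
# D4, `K = L₂(q)`: the affine case, conjugates of `R` in `S`
-/

set_option autoImplicit false
set_option linter.unusedSectionVars false

namespace Cfsg.Agent.OddHalf.D4.Rk2

open Subgroup Cfsg.Agent.StdL2.Frame Cfsg.Agent.StdL2.Field
open Cfsg.Agent.StdL2.FrameFT (VV mem_VV up_mem_VV VV_le VV_sq card_VV sem ent_ne)
open Cfsg.Agent.StdL2.FieldStart (exists_normalizer_gt card_le_two_mul)
open Cfsg.Agent.Lib.SL2Mat Cfsg.Agent.Lib.AutSL2 Cfsg.Agent.StdRank2.OutField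
open Cfsg.Agent.OddHalf.D4.CommConj (cj mem_cj cj_mul card_cj cj_eq_of_mem_normalizer mem_normalizer_of_cj_eq
  mem_cj_mul Tight)
open Cfsg.Agent.OddHalf.D4.Basic (IsSyl exists_isSyl orderOf_conj)

local notation "SL2" => Matrix.SpecialLinearGroup (Fin 2)

universe u

variable {F : Type*} [Field F] {G : Type u} [Group G] {A T S : Subgroup G} {π : SL2 F →* G}

/-- the nontrivial elements of the conjugates of `R` -/
def II (A T : Subgroup G) (x : G) : Prop := x ≠ 1 ∧ ∃ g, x ∈ cj g (RR A T)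

theorem II_conj {g x : G} (h : II A T x) : II A T (g * x * g⁻¹) := by
  obtain ⟨h1, a, ha⟩ := h
  refine ⟨fun h => h1 ?_, g * a, ?_⟩
  · have e : x = g⁻¹ * (g * x * g⁻¹) * g := by group
    rw [e, h]; group
  · rw [cj_mul]; exact mem_cj_mul ha

theorem II_conj' {g x : G} (h : II A T (g * x * g⁻¹)) : II A T x := by
  have h1 := II_conj (g := g⁻¹) h
  have e : g⁻¹ * (g * x * g⁻¹) * g⁻¹⁻¹ = x := by group
  rwa [e] at h1

/-- `|Aut F| < |F|` -/
theorem card_aut_lt [Finite F] : Nat.card (F ≃+* F) < Nat.card F := by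
  classical
  obtain ⟨g, hg⟩ := IsCyclic.exists_generator (α := Fˣ)
  have hinj : Function.Injective (fun σ : F ≃+* F => (⟨σ g, by
      intro h
      rw [map_eq_zero] at h
      exact g.ne_zero h⟩ : {x : F // x ≠ 0})) := by
    intro σ τ h
    have h1 : σ g = τ g := congrArg Subtype.val h
    ext x
    by_cases hx : x = 0
    · rw [hx, map_zero, map_zero]
    obtain ⟨k, hk⟩ := mem_zpowers_iff.1 (hg (Units.mk0 x hx))
    have h2 : x = (g : F) ^ k := by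
      rw [← Units.val_zpow_eq_zpow_val, hk]; rfl
    rw [h2, map_zpow₀, map_zpow₀, h1]
  have h1 := Nat.card_le_card_of_injective _ hinj
  have h2 := card_ne_add_one (0 : F)
  omega

/-- criterion for a Sylow subgroup of the whole group -/
theorem isSyl_top [Finite G] {S M : Subgroup G} (h : IsSyl S M)
    (hN : ∀ n ∈ normalizer (S : Set G), n ∈ M) : IsSyl S ⊤ := by
  refine ⟨h.two, le_top, ?_⟩
  intro P hP hSP _
  by_contra hn
  have hlt : S < P := lt_of_le_not_ge hSP hn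
  obtain ⟨n, hnP, hnS, hnN⟩ := exists_normalizer_gt hP hlt
  have h1 : S ⊔ zpowers n ≤ P := sup_le hSP (by rw [zpowers_le]; exact hnP)
  have h2 : S ⊔ zpowers n ≤ M := sup_le h.le (by rw [zpowers_le]; exact hN n hnN)
  exact hnS (h.max _ (hP.to_le h1) le_sup_left h2 (mem_sup_right (mem_zpowers n)))

namespace Pr

variable [Finite F] [CharP F 2] [Finite G] (H : Pr A T π)
include H

theorem card_T_lt : Nat.card T < Nat.card (VQ A T π) * Nat.card F := by
  classical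
  have h1 : Nat.card T = Nat.card H.toFr.fl.ker * Nat.card H.toFr.fl.range := by
    rw [← Subgroup.card_mul_index H.toFr.fl.ker, Subgroup.index_ker]
  have h2 : Nat.card H.toFr.fl.ker ≤ Nat.card (VQ A T π) := by
    refine Nat.card_le_card_of_injective (fun x => (⟨((x : T) : G), ?_⟩ : VQ A T π)) ?_
    · exact H.mem_VQ_of_cent x.1.2 ((H.toFr.fl_eq_one _).1 x.2)
    · intro x y h
      have h' : ((x : T) : G) = ((y : T) : G) := congrArg (fun z : VQ A T π => (z : G)) h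
      exact Subtype.ext (Subtype.ext h')
  have := finite_aut (F := F)
  have h3 : Nat.card H.toFr.fl.range ≤ Nat.card (F ≃+* F) := Subgroup.card_le_card_group _
  have h4 := card_aut_lt (F := F)
  have h5 : 0 < Nat.card (VQ A T π) := Nat.card_pos
  calc Nat.card T ≤ Nat.card (VQ A T π) * Nat.card (F ≃+* F) := by
        rw [h1]; exact Nat.mul_le_mul h2 h3
    _ < _ := Nat.mul_lt_mul_of_pos_left h4 h5

/-- 2-elements of `C^g` lie in conjugates of `R` -/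
theorem exists_cj_of_cent {g x : G} (hx : g⁻¹ * x * g ∈ centralizer (A : Set G)) {k : ℕ} (hk : x ^ 2 ^ k = 1) :
    ∃ a, x ∈ cj a (RR A T) := by
  have h1 : (g⁻¹ * x * g) ^ 2 ^ k = 1 := by
    have e : (g⁻¹ * x * g) ^ 2 ^ k = g⁻¹ * x ^ 2 ^ k * g := by
      have := conj_pow (a := g⁻¹) (b := x) (i := 2 ^ k)
      rw [inv_inv] at this
      exact this
    rw [e, hk]; group
  obtain ⟨c, hc, hcR⟩ := H.toFr.sylR.conj_into (isPGroup_zpowers h1) (by rw [zpowers_le]; exact hx)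
  refine ⟨g * c⁻¹, ?_⟩
  rw [mem_cj]
  have := hcR _ (mem_zpowers _)
  have e : (g * c⁻¹)⁻¹ * x * (g * c⁻¹) = c * (g⁻¹ * x * g) * c⁻¹ := by group
  rw [e]; exact this

/-- `V ≤ T` elementary with `V ∩ R = 1`, `|V| = q`: `V ≤ VQ` -/
theorem le_VQ_of_card {X : Subgroup G} (hX : X ≤ T) (hX2 : ∀ x ∈ X, x * x = 1)
    (hXR : ∀ x ∈ X, x ∈ RR A T → x = 1) (hc : Nat.card F ≤ Nat.card X) : X ≤ VQ A T π := by
  by_contra hn
  obtain ⟨x, hxX, hxV⟩ := SetLike.not_le_iff_exists.1 hn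
  have hXc : ∀ y ∈ X, ∀ z ∈ X, y * z = z * y := by
    intro y hy z hz
    have h2 : y⁻¹ = y := inv_eq_of_mul_eq_one_left (hX2 y hy)
    have h3 : z⁻¹ = z := inv_eq_of_mul_eq_one_left (hX2 z hz)
    have h4 : (y * z)⁻¹ = y * z := inv_eq_of_mul_eq_one_left (hX2 _ (mul_mem hy hz))
    rw [mul_inv_rev, h2, h3] at h4
    exact h4.symm
  obtain ⟨σ, c, hσ1, hσ2, hc', hact⟩ := H.invol_act (hX hxX) hxV (by rw [hX2 x hxX]; exact one_mem _)
  have hf := H.card_fixc hσ1 hσ2 hc'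
  set q0 := Nat.card {b : F // c * σ b = b} with hq0
  have h1 := card_le_two_mul X (VQ A T π) (by
    intro y hy z hz hy1 hz1
    exact H.inv_mul_mem_VQ (hX hy) (hX hz) hy1 hz1 (by rw [hX2 y hy]; exact one_mem _)
      (by rw [hX2 z hz]; exact one_mem _))
  have key : ∀ z : (X ⊓ VQ A T π : Subgroup G), ∃ r ∈ RR A T, ∃ b : F, c * σ b = b ∧ (z : G) = r * π (up b) := by
    rintro ⟨z, hzX, hzV⟩
    obtain ⟨r, hr, b, rfl⟩ := H.mem_VQ.1 hzV
    refine ⟨r, hr, b, ?_, rfl⟩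
    have h2 : x * (r * π (up b)) * x⁻¹ = r * π (up b) := by
      rw [hXc _ hxX _ hzX, mul_inv_cancel_right]
    have h3 : x * (r * π (up b)) * x⁻¹ = (x * r * x⁻¹) * π (up (c * σ b)) := by
      rw [← hact]; group
    rw [h3] at h2
    have h4 : x * r * x⁻¹ ∈ RR A T :=
      ⟨T.mul_mem (T.mul_mem (hX hxX) hr.1) (T.inv_mem (hX hxX)), H.tight.norm _ (H.toFr.nT (hX hxX)) _ hr.2⟩
    exact (H.uniq h4 hr h2).2
  choose r hr b hb hz using key
  have h2 : Nat.card (X ⊓ VQ A T π : Subgroup G) ≤ q0 := by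
    refine Nat.card_le_card_of_injective (fun z => (⟨b z, hb z⟩ : {b : F // c * σ b = b})) ?_
    intro z z' h
    have h6 : b z = b z' := congrArg Subtype.val h
    have h7 : (z : G) * (z' : G)⁻¹ = r z * (r z')⁻¹ := by
      rw [hz z, hz z', h6]; group
    have h8 := hXR _ (mul_mem z.2.1 (inv_mem z'.2.1)) (by rw [h7]; exact mul_mem (hr z) (inv_mem (hr z')))
    exact Subtype.ext (mul_inv_eq_one.1 h8)
  have h8 := H.q8
  have h3 : q0 * q0 ≤ 2 * q0 := by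
    rw [hf]
    calc Nat.card F ≤ Nat.card X := hc
      _ ≤ 2 * Nat.card (X ⊓ VQ A T π : Subgroup G) := h1
      _ ≤ 2 * q0 := Nat.mul_le_mul_left 2 h2
  rw [← hf] at h8
  have h4 : 3 ≤ q0 := by
    by_contra h
    have : q0 ≤ 2 := by omega
    have := Nat.mul_le_mul this this
    omega
  nlinarith

end Pr

namespace Sy

variable [Finite F] [CharP F 2] [Finite G] {f : G → F} (H : Sy A T S π f)
include H

/-- elements of `S` centralizing the root group -/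
theorem mem_T1_of_cent {x : G} (hx : x ∈ S) (hc : ∀ v ∈ VV π, x * v = v * x) : x ∈ H.T1 := by
  obtain ⟨t, ht, m, hm, rfl⟩ := H.S_eq hx
  have h1 : ∀ v ∈ VV π, m * v = v * m := by
    intro v hv
    have h2 := hc v hv
    have h3 := H.T1_v ht hv
    have h4 : t * (m * v) = t * (v * m) := by
      calc t * (m * v) = t * m * v := by group
        _ = (v * t) * m := by rw [h2]; group
        _ = _ := by rw [← h3]; group
    exact mul_left_cancel h4
  exact mul_mem ht (H.VQ_T1 (H.mem_VQ_of_cent hm h1))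

theorem card_T1 : Nat.card (VQ A T π) * Nat.card F ≤ Nat.card H.T1 := by
  have key := fun c : F => H.exists_T1 c
  choose t ht htc using key
  rw [← Nat.card_prod]
  refine Nat.card_le_card_of_injective (fun p : VQ A T π × F =>
    (⟨t p.2 * p.1, mul_mem (ht p.2) (H.VQ_T1 p.1.2)⟩ : H.T1)) ?_
  rintro ⟨v, c⟩ ⟨v', c'⟩ h
  have h1 : t c * (v : G) = t c' * (v' : G) := congrArg Subtype.val h
  have h2 : c = c' := by
    have h3 := congrArg H.chi h1
    rw [H.chi_T1_mul (ht c) (H.VQ_T1 v.2), H.chi_T1_mul (ht c') (H.VQ_T1 v'.2), H.chi_VQ v.2, H.chi_VQ v'.2,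
      htc, htc, add_zero, add_zero] at h3
    exact h3
  subst h2
  have h3 := mul_left_cancel h1
  rw [Subtype.ext h3]

/-- the root group contains no conjugates of elements of `R` -/
theorem not_II {v : G} (hv : v ∈ VV π) : ¬ II A T v := by
  rintro ⟨hv1, g, hg⟩
  have h1 : cj g⁻¹ H.T1 ≤ normalizer (A : Set G) := by
    rintro _ ⟨t, ht, rfl⟩
    show g⁻¹ * t * g⁻¹⁻¹ ∈ normalizer (A : Set G)
    rw [inv_inv]
    exact H.toFr.mem_of_comm (mem_cj.1 hg).2 (H.orderOf_mem_VQ (H.VVQ hv) hv1) (H.T1_v ht hv)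
  obtain ⟨m, hm, hmT⟩ := H.syl.conj_into (isPGroup_cj H.T1_2 g⁻¹) h1
  have h2 : cj m (cj g⁻¹ H.T1) ≤ T := by
    rintro _ ⟨t, ht, rfl⟩
    exact hmT t ht
  have h3 := Subgroup.card_le_of_le h2
  rw [card_cj, card_cj] at h3
  have h4 := H.card_T1
  have h5 := H.toPr.card_T_lt
  omega

/-- a conjugate of `R` in `S` meeting `VQ` is a member -/
theorem mem_LL_of_meet {g v : G} (hg : cj g (RR A T) ≤ S) (hv : v ∈ cj g (RR A T)) (hv1 : v ≠ 1)
    (hvV : v ∈ VQ A T π) : cj g (RR A T) ∈ LL A T π := by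
  have h1 : v ∉ VV π := fun h => H.not_II h ⟨hv1, g, hv⟩
  obtain ⟨c, Z, hZ, hgr, hvZ⟩ := H.gf.cover H.toPr hvV h1
  obtain ⟨t, ht, htc⟩ := H.exists_T1 c
  have hZt : cj t (RR A T) = Z := by
    ext x
    rw [hgr]
    constructor
    · rintro ⟨r, hr, rfl⟩
      refine ⟨r, hr, ?_⟩
      show t * r * t⁻¹ = _
      rw [H.toAf.chi_spec ht.2 r hr, htc]
    · rintro ⟨r, hr, rfl⟩
      rw [← htc, ← H.toAf.chi_spec ht.2 r hr]
      exact mem_cj_mul hr
  have h2 : t⁻¹ * v * t ∈ RR A T := by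
    rw [← hZt, mem_cj] at hvZ
    exact hvZ
  have h3 : t⁻¹ * g ∈ normalizer (A : Set G) := by
    apply H.tight.tight _ (g⁻¹ * v * g) (mem_cj.1 hv).2
    · have := orderOf_conj g⁻¹ v
      rw [inv_inv] at this
      rw [this, H.orderOf_mem_VQ hvV hv1]
    · have e : t⁻¹ * g * (g⁻¹ * v * g) * (t⁻¹ * g)⁻¹ = t⁻¹ * v * t := by group
      rw [e]; exact h2.2
  have h4 : cj (t⁻¹ * g) (RR A T) ≤ RR A T := by
    rintro _ ⟨r, hr, rfl⟩
    have h5 : (t⁻¹ * g) * r * (t⁻¹ * g)⁻¹ ∈ centralizer (A : Set G) := H.tight.norm _ h3 _ hr.2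
    have h6 : g * r * g⁻¹ ∈ S := hg (mem_cj_mul hr)
    have h7 : t⁻¹ * g * r * (t⁻¹ * g)⁻¹ ∈ S := by
      have e : t⁻¹ * g * r * (t⁻¹ * g)⁻¹ = t⁻¹ * (g * r * g⁻¹) * t := by group
      rw [e]
      exact mul_mem (mul_mem (inv_mem ht.1) h6) ht.1
    exact ⟨H.mem_T h7 (H.tight.le h5), h5⟩
  have h5 : cj (t⁻¹ * g) (RR A T) = RR A T := eq_of_le_of_card_ge h4 (card_cj _ _).ge
  have h6 : cj g (RR A T) = Z := by
    rw [cj_mul] at h5
    rw [← hZt, ← cj_cj_inv t (cj g (RR A T)), h5]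
  rw [h6]; exact hZ

/-- `S / T₁` has one involution -/
theorem inv_mul_mem_T1 {x y : G} (hx : x ∈ S) (hy : y ∈ S) (hx1 : x ∉ H.T1) (hy1 : y ∉ H.T1)
    (hx2 : x * x ∈ H.T1) (hy2 : y * y ∈ H.T1) : x⁻¹ * y ∈ H.T1 := by
  obtain ⟨t, ht, m, hm, rfl⟩ := H.S_eq hx
  obtain ⟨t', ht', m', hm', rfl⟩ := H.S_eq hy
  have key : ∀ t ∈ H.T1, ∀ m ∈ T, (t * m) * (t * m) ∈ H.T1 → m * m ∈ VQ A T π := by
    intro t ht m hm h
    have h1 : m * t * m⁻¹ ∈ H.T1 := H.S_T1 (H.TS hm) ht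
    have h2 : m * m ∈ H.T1 := by
      have e : m * m = (t * (m * t * m⁻¹))⁻¹ * ((t * m) * (t * m)) := by group
      rw [e]
      exact mul_mem (inv_mem (mul_mem ht h1)) h
    exact H.mem_VQ_of_cent (mul_mem hm hm) (fun v hv => H.T1_v h2 hv)
  have hm1 : m ∉ VQ A T π := fun h => hx1 (mul_mem ht (H.VQ_T1 h))
  have hm1' : m' ∉ VQ A T π := fun h => hy1 (mul_mem ht' (H.VQ_T1 h))
  have h1 := H.toPr.inv_mul_mem_VQ hm hm' hm1 hm1' (key t ht m hm hx2) (key t' ht' m' hm' hy2)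
  have h2 : m⁻¹ * (t⁻¹ * t') * m ∈ H.T1 := by
    have := H.S_T1 (inv_mem (H.TS hm)) (mul_mem (inv_mem ht) ht')
    rwa [inv_inv] at this
  have e : (t * m)⁻¹ * (t' * m') = (m⁻¹ * (t⁻¹ * t') * m) * (m⁻¹ * m') := by group
  rw [e]
  exact mul_mem h2 (H.VQ_T1 h1)

theorem card_inf_T1 {X : Subgroup G} (hX : X ≤ S) (hX2 : ∀ x ∈ X, x * x = 1) :
    Nat.card X ≤ 2 * Nat.card (X ⊓ H.T1 : Subgroup G) := by
  apply card_le_two_mul
  intro x hx y hy hx1 hy1
  exact H.inv_mul_mem_T1 (hX hx) (hX hy) hx1 hy1 (by rw [hX2 x hx]; exact one_mem _)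
    (by rw [hX2 y hy]; exact one_mem _)

end Sy

namespace Ef

variable [Finite F] [CharP F 2] [Finite G] {f : G → F} {E : Subgroup G} {s : F}
  {H : Sy A T S π f} (K : Ef H E s)
include K

/-- `T₁ = R E` -/
theorem T1_eq {t : G} (ht : t ∈ H.T1) : ∃ r ∈ RR A T, ∃ e ∈ E, t = r * e ∧ H.chi e = H.chi t := by
  obtain ⟨e, he, hc⟩ := K.onto (H.chi t)
  have h1 : t * e⁻¹ ∈ VQ A T π := by
    apply H.mem_VQ_of_chi (mul_mem ht (inv_mem (K.ET he)))
    rw [H.chi_T1_mul ht (inv_mem (K.ET he)), H.chi_T1_inv (K.ET he), hc, CharTwo.add_self_eq_zero]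
  obtain ⟨r, hr, b, hb⟩ := H.mem_VQ.1 h1
  refine ⟨r, hr, π (up b) * e, mul_mem (K.VE (up_mem_VV b)) he, ?_, ?_⟩
  · rw [← mul_assoc, ← hb, inv_mul_cancel_right]
  · rw [H.chi_T1_mul (H.VV_T1 (up_mem_VV b)) (K.ET he), H.chi_VQ (H.uVQ b), zero_add, hc]

/-- `[r, e] = u(χ(e) f(r))` -/
theorem br {r e : G} (hr : r ∈ RR A T) (he : e ∈ H.T1) : r * e * r⁻¹ * e⁻¹ = π (up (H.chi e * f r)) := by
  have h1 := H.toAf.chi_spec he.2 r hr
  have h2 := H.rsq hr
  have h3 : r⁻¹ = r := inv_eq_of_mul_eq_one_left h2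
  calc r * e * r⁻¹ * e⁻¹ = r * (e * r * e⁻¹) := by rw [h3]; group
    _ = (r * r) * π (up (H.chi e * f r)) := by rw [h1]; group
    _ = _ := by rw [h2, one_mul]

/-- the square of `r e` -/
theorem sq_re {r e : G} (hr : r ∈ RR A T) (he : e ∈ E) :
    (r * e) * (r * e) = π (up (H.chi e * (f r + s))) := by
  have h1 := K.br hr (K.ET he)
  have h2 := H.rsq hr
  have h3 : r⁻¹ = r := inv_eq_of_mul_eq_one_left h2
  have h4 : (r * e) * (r * e) = (r * e * r⁻¹ * e⁻¹) * (e * e) := by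
    calc (r * e) * (r * e) = (r * e * r * e⁻¹) * (e * e) := by group
      _ = _ := by rw [h3]
  rw [h4, h1, K.sq e he, H.uadd]
  congr 2; ring

/-- involutions of `T₁` -/
theorem invol {t : G} (ht : t ∈ H.T1) (h2 : t * t = 1) (hv : t ∉ VQ A T π) :
    ∃ r ∈ RR A T, ∃ e ∈ E, t = r * e ∧ f r = s ∧ H.chi e ≠ 0 := by
  obtain ⟨r, hr, e, he, rfl, hc⟩ := K.T1_eq ht
  have h3 := K.sq_re hr he
  rw [h2, ← H.u0] at h3
  have h4 := H.uinj h3
  have h5 : H.chi e ≠ 0 := by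
    intro h
    apply hv
    exact H.mem_VQ_of_chi ht (by rw [← hc]; exact h)
  refine ⟨r, hr, e, he, rfl, ?_, h5⟩
  have h6 := (mul_eq_zero.1 h4.symm).resolve_left h5
  have e2 : (2 : F) = 0 := CharTwo.two_eq_zero
  linear_combination h6 - s * e2

end Ef

end Cfsg.Agent.OddHalf.D4.Rk2
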