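import Cfsg.Agent.OddHalf.D4.Rk2.Mem

/-!
# D4, `K = L₂(q)`: the affine case, `VQ` is weakly closed in `S` when `s ≠ 0` or `E` contains no conjugates
of elements of `R`
-/

set_option autoImplicit false
set_option linter.unusedSectionVars false

namespace Cfsg.Agent.OddHalf.D4.Rk2

open Subgroup Cfsg.Agent.StdL2.Frame Cfsg.Agent.StdL2.Field
open Cfsg.Agent.StdL2.FrameFT (VV mem_VV up_mem_VV VV_le VV_sq card_VV sem ent_ne)
open Cfsg.Agent.StdL2.FieldStart (exists_normalizer_gt card_le_two_mul)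
open Cfsg.Agent.Lib.SL2Mat Cfsg.Agent.Lib.AutSL2 Cfsg.Agent.StdRank2.OutField
open Cfsg.Agent.OddHalf.D4.CommConj (cj mem_cj cj_mul card_cj cj_eq_of_mem_normalizer mem_normalizer_of_cj_eq
  mem_cj_mul Tight)
open Cfsg.Agent.OddHalf.D4.Basic (IsSyl exists_isSyl orderOf_conj)

local notation "SL2" => Matrix.SpecialLinearGroup (Fin 2)

universe u

variable {F : Type*} [Field F] {G : Type u} [Group G] {A T S : Subgroup G} {π : SL2 F →* G}

namespace Pr

variable [Finite F] [CharP F 2] [Finite G] (H : Pr A T π)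
include H

theorem cj_sq {g x : G} (hx : x ∈ cj g (RR A T)) : x * x = 1 := by
  rw [mem_cj] at hx
  have h1 := H.rsq hx
  have e : x * x = g * (g⁻¹ * x * g * (g⁻¹ * x * g)) * g⁻¹ := by group
  rw [e, h1]; group

theorem II_sq {x : G} (hx : II A T x) : x * x = 1 := by
  obtain ⟨-, g, hg⟩ := hx
  exact H.cj_sq hg

theorem card_cj_R (g : G) : 4 ≤ Nat.card (cj g (RR A T)) := by
  rw [card_cj]; exact H.card_R

end Pr

namespace Sy

variable [Finite F] [CharP F 2] [Finite G] {f : G → F} (H : Sy A T S π f)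
include H

/-- a conjugate of `R` in `S` has a nontrivial element in `T₁` -/
theorem exists_in_T1 {g : G} (hg : cj g (RR A T) ≤ S) : ∃ v ∈ cj g (RR A T), v ≠ 1 ∧ v ∈ H.T1 := by
  have h1 := H.card_inf_T1 hg (fun x hx => H.toPr.cj_sq hx)
  have h2 := H.toPr.card_cj_R g
  have h3 : 1 < Nat.card (cj g (RR A T) ⊓ H.T1 : Subgroup G) := by omega
  obtain ⟨⟨x, hx⟩, ⟨y, hy⟩, hne⟩ := (Finite.one_lt_card_iff_nontrivial.1 h3).exists_pair_ne
  by_cases h : x = 1
  · refine ⟨y, hy.1, ?_, hy.2⟩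
    rintro rfl
    exact hne (Subtype.ext h)
  · exact ⟨x, hx.1, h, hx.2⟩

/-- elements centralized by an element of `II`: the root group is inner -/
theorem VV_inner {g v : G} (hv : v ∈ cj g (RR A T)) (hv1 : v ≠ 1) (hc : ∀ p ∈ VV π, p * v = v * p) {p : G}
    (hp : p ∈ VV π) : ∃ c ∈ centralizer (A : Set G), ∃ k ∈ A, g⁻¹ * p * g = c * k := by
  have hv2 : orderOf v = 2 := orderOf_eq_two (H.toPr.cj_sq hv) hv1
  have h1 : cj g⁻¹ (VV π) ≤ normalizer (A : Set G) := by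
    rintro _ ⟨t, ht, rfl⟩
    show g⁻¹ * t * g⁻¹⁻¹ ∈ normalizer (A : Set G)
    rw [inv_inv]
    exact H.toFr.mem_of_comm (mem_cj.1 hv).2 hv2 (hc t ht)
  obtain ⟨m, hm, hmT⟩ := H.syl.conj_into (isPGroup_cj (H.T2.to_le H.VT) g⁻¹) h1
  have h2 : cj (m * g⁻¹) (VV π) ≤ T := by
    rw [cj_mul]
    rintro _ ⟨t, ht, rfl⟩
    exact hmT t ht
  have h3 : cj (m * g⁻¹) (VV π) ≤ VQ A T π := by
    apply H.toPr.le_VQ_of_card h2
    · rintro _ ⟨t, ht, rfl⟩
      show (m * g⁻¹) * t * (m * g⁻¹)⁻¹ * ((m * g⁻¹) * t * (m * g⁻¹)⁻¹) = 1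
      have e : (m * g⁻¹) * t * (m * g⁻¹)⁻¹ * ((m * g⁻¹) * t * (m * g⁻¹)⁻¹) =
          (m * g⁻¹) * (t * t) * (m * g⁻¹)⁻¹ := by group
      rw [e, H.vsq (H.VVQ ht)]; group
    · rintro _ ⟨t, ht, rfl⟩ hR
      by_contra hne
      have h4 : II A T ((m * g⁻¹) * t * (m * g⁻¹)⁻¹) := ⟨hne, 1, by rw [cj_one]; exact hR⟩
      exact H.not_II ht (II_conj' h4)
    · rw [card_cj, card_VV H.P]
  have h4 : (m * g⁻¹) * p * (m * g⁻¹)⁻¹ ∈ VQ A T π := h3 (mem_cj_mul hp)
  obtain ⟨r, hr, b, hb⟩ := H.mem_VQ.1 h4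
  refine ⟨m⁻¹ * r * m, ?_, m⁻¹ * π (up b) * m, ?_, ?_⟩
  · have := H.tight.norm _ (inv_mem hm) _ hr.2
    rwa [inv_inv] at this
  · have := (mem_normalizer_iff.1 (inv_mem hm) (π (up b))).1 (VV_le H.P (up_mem_VV b))
    rwa [inv_inv] at this
  · have e : g⁻¹ * p * g = m⁻¹ * ((m * g⁻¹) * p * (m * g⁻¹)⁻¹) * m := by group
    rw [e, hb]; group

end Sy

namespace Ef

variable [Finite F] [CharP F 2] [Finite G] {f : G → F} {E : Subgroup G} {s : F}
  {H : Sy A T S π f} (K : Ef H E s)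
include K

/-- `s = 0`, `E` without elements of `II`: the conjugates of `R` in `S` are the members -/
theorem mem_LL_zero (hs : s = 0) (hE : ∀ e ∈ E, ¬ II A T e) {g : G} (hg : cj g (RR A T) ≤ S) :
    cj g (RR A T) ∈ LL A T π := by
  obtain ⟨v, hv, hv1, hvT⟩ := H.exists_in_T1 hg
  by_cases hvV : v ∈ VQ A T π
  · exact H.mem_LL_of_meet hg hv hv1 hvV
  exfalso
  obtain ⟨r, hr, e, he, rfl, hfr, -⟩ := K.invol hvT (H.toPr.cj_sq hv) hvV
  rw [hs] at hfr
  have h1 := H.gf.f_inj r hr hfr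
  rw [h1, one_mul] at hv hv1
  exact hE e he ⟨hv1, g, hv⟩

/-- `s ≠ 0`: the conjugates of `R` in `S` are the members -/
theorem mem_LL_ne (hs : s ≠ 0) {g : G} (hg : cj g (RR A T) ≤ S) : cj g (RR A T) ∈ LL A T π := by
  by_contra hn
  have hVQ : ∀ v ∈ cj g (RR A T), v ≠ 1 → v ∉ VQ A T π := fun v hv hv1 hvV =>
    hn (H.mem_LL_of_meet hg hv hv1 hvV)
  obtain ⟨v, hv, hv1, hvT⟩ := H.exists_in_T1 hg
  -- `V ∩ T₁ = {1, v}`
  have huniq : ∀ w ∈ cj g (RR A T), w ≠ 1 → w ∈ H.T1 → w = v := by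
    intro w hw hw1 hwT
    obtain ⟨r, hr, e, he, rfl, hfr, -⟩ := K.invol hvT (H.toPr.cj_sq hv) (hVQ v hv hv1)
    obtain ⟨r', hr', e', he', rfl, hfr', -⟩ := K.invol hwT (H.toPr.cj_sq hw) (hVQ _ hw hw1)
    have h1 : r * r' = 1 := by
      apply H.gf.f_inj _ (mul_mem hr hr')
      rw [H.gf.f_add r hr r' hr', hfr, hfr', CharTwo.add_self_eq_zero]
    have h2 : r' = r := by
      rw [eq_inv_of_mul_eq_one_right h1]
      exact inv_eq_of_mul_eq_one_left (H.rsq hr)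
    subst h2
    by_contra hne
    have h3 : (r' * e') * (r' * e) ∈ E := by
      have h4 := K.br hr' (K.ET he')
      have h5 : (r' * e') * (r' * e) = (r' * e' * r'⁻¹ * e'⁻¹) * (e' * e) := by
        have h6 : r'⁻¹ = r' := inv_eq_of_mul_eq_one_left (H.rsq hr')
        calc (r' * e') * (r' * e) = (r' * e' * r' * e'⁻¹) * (e' * e) := by group
          _ = _ := by rw [h6]
      rw [h5, h4]
      exact mul_mem (K.VE (up_mem_VV _)) (mul_mem he' he)
    have h6 := mul_mem hw hv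
    have h7 := K.sq _ h3
    rw [H.toPr.cj_sq h6, ← H.u0] at h7
    have h8 := (mul_eq_zero.1 (H.uinj h7).symm).resolve_left hs
    have h9 := H.mem_VQ_of_chi (K.ET h3) h8
    refine hVQ _ h6 ?_ h9
    intro h
    apply hne
    rw [eq_inv_of_mul_eq_one_left h]
    exact inv_eq_of_mul_eq_one_left (H.toPr.cj_sq hv)
  -- there is `w ∈ V` outside `T₁`
  obtain ⟨w, hw, hwT⟩ : ∃ w ∈ cj g (RR A T), w ∉ H.T1 := by
    by_contra hcon
    push Not at hcon
    have h1 := H.toPr.card_cj_R g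
    have h2 : Nat.card (cj g (RR A T)) ≤ 2 := by
      classical
      have : Function.Injective (fun x : cj g (RR A T) => decide ((x : G) = 1)) := by
        intro x y hxy
        have hxy' : ((x : G) = 1) ↔ ((y : G) = 1) := by
          simpa using hxy
        apply Subtype.ext
        by_cases hx : (x : G) = 1
        · rw [hx, hxy'.1 hx]
        · rw [huniq x x.2 hx (hcon x x.2), huniq y y.2 (fun h => hx (hxy'.2 h)) (hcon y y.2)]
      have h3 := Nat.card_le_card_of_injective _ this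
      simpa using h3
    omega
  -- `w` centralizes the root group
  apply hwT
  apply H.mem_T1_of_cent (hg hw)
  intro p hp
  obtain ⟨c, hc, k, hk, hck⟩ := H.VV_inner hv hv1 (fun p hp => (H.T1_v hvT hp).symm) hp
  have hwR := mem_cj.1 hw
  have h1 : g⁻¹ * (w * p * w⁻¹ * p⁻¹) * g ∈ centralizer (A : Set G) := by
    set r := g⁻¹ * w * g with hr
    have e1 : g⁻¹ * (w * p * w⁻¹ * p⁻¹) * g = r * (g⁻¹ * p * g) * r⁻¹ * (g⁻¹ * p * g)⁻¹ := by
      rw [hr]; group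
    have e2 : r * k = k * r := mem_cent.1 hwR.2 k hk
    rw [e1, hck]
    have e3 : r * (c * k) * r⁻¹ * (c * k)⁻¹ = r * c * r⁻¹ * c⁻¹ := by
      calc r * (c * k) * r⁻¹ * (c * k)⁻¹ = r * c * (k * r⁻¹ * k⁻¹) * c⁻¹ := by group
        _ = r * c * (r⁻¹ * (r * k) * r⁻¹ * k⁻¹) * c⁻¹ := by group
        _ = _ := by rw [e2]; group
    rw [e3]
    exact mul_mem (mul_mem (mul_mem hwR.2 hc) (inv_mem hwR.2)) (inv_mem hc)
  have h2 : w * p * w⁻¹ * p⁻¹ ∈ VV π := by
    have h3 := H.toAf.norm_VV (H.S_N (hg hw))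
    have h4 : w * p * w⁻¹ ∈ VV π := by
      rw [← h3]; exact mem_cj_mul hp
    exact mul_mem h4 (inv_mem hp)
  by_contra hne
  obtain ⟨a, ha⟩ := H.toPr.exists_cj_of_cent h1 (k := 1) (by
    rw [pow_one, pow_two]; exact H.vsq (H.VVQ h2))
  apply H.not_II h2
  refine ⟨fun h => hne ?_, a, ha⟩
  have := mul_inv_eq_one.1 h
  exact mul_inv_eq_iff_eq_mul.1 this

/-- **weak closure** -/
theorem wc (hm : ∀ g, cj g (RR A T) ≤ S → cj g (RR A T) ∈ LL A T π) {g : G} (hg : cj g (VQ A T π) ≤ S) :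
    cj g (VQ A T π) = VQ A T π := by
  have h1 : ∀ v ∈ VQ A T π, v ∉ VV π → g * v * g⁻¹ ∈ VQ A T π := by
    intro v hv hvV
    obtain ⟨c, Z, hZ, -, hvZ⟩ := H.gf.cover H.toPr hv hvV
    obtain ⟨hZV, a, rfl⟩ := hZ
    have h2 : cj (g * a) (RR A T) ∈ LL A T π := by
      apply hm
      rw [cj_mul]
      exact (cj_mono g hZV).trans hg
    apply h2.1
    rw [cj_mul]
    exact mem_cj_mul hvZ
  have h2 : cj g (VQ A T π) ≤ VQ A T π := by
    rintro _ ⟨v, hv, rfl⟩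
    show g * v * g⁻¹ ∈ VQ A T π
    by_cases hvV : v ∈ VV π
    · obtain ⟨r, hr, hr2⟩ := H.exists_r
      have hrV : r ∉ VV π := by
        intro h
        have := H.toPr.VV_inf_R h hr
        rw [this, orderOf_one] at hr2
        omega
      have h3 := h1 (r * v) (mul_mem (H.RVQ hr) hv) (fun h => hrV (by
        have := mul_mem h (inv_mem hvV)
        rwa [mul_inv_cancel_right] at this))
      have h4 := h1 r (H.RVQ hr) hrV
      have e : g * v * g⁻¹ = (g * r * g⁻¹)⁻¹ * (g * (r * v) * g⁻¹) := by group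
      rw [e]
      exact mul_mem (inv_mem h4) h3
    · exact h1 v hv hvV
  exact eq_of_le_of_card_ge h2 (card_cj _ _).ge

theorem sylTop (hm : ∀ g, cj g (RR A T) ≤ S → cj g (RR A T) ∈ LL A T π) : IsSyl S ⊤ := by
  apply isSyl_top H.sylS
  intro n hn
  apply mem_normalizer_of_cj_eq
  apply K.wc hm
  have h1 : cj n (VQ A T π) ≤ cj n S := cj_mono n (fun x hx => H.T1_S (H.VQ_T1 hx))
  rwa [cj_eq_of_mem_normalizer hn] at h1

end Ef

end Cfsg.Agent.OddHalf.D4.Rk2
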