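import Cfsg.Agent.OddHalf.D4.Rk2.Full

/-!
# D4, `K = L₂(q)`: the members

`VQ = R × R₀` (`R = RR A T`, `R₀ = VV π`), `LL` = the conjugates of `R` contained in `VQ`.
-/

set_option autoImplicit false
set_option linter.unusedSectionVars false

namespace Cfsg.Agent.OddHalf.D4.Rk2

open Subgroup Cfsg.Agent.StdL2.Frame Cfsg.Agent.StdL2.Field
open Cfsg.Agent.StdL2.FrameFT (VV mem_VV up_mem_VV VV_le VV_sq card_VV le_VV sem ent_ne cent_VV cent_of_fld
  exists_fixed ent_of_conj conj_up eq_up dg_conj)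
open Cfsg.Agent.Lib.SL2Mat Cfsg.Agent.Lib.AutSL2 Cfsg.Agent.StdRank2.OutField
open Cfsg.Agent.StdL2.FieldStart (exists_normalizer_gt card_le_two_mul)
open Cfsg.Agent.OddHalf.D4.CommConj (cj mem_cj cj_mul card_cj cj_eq_of_mem_normalizer mem_normalizer_of_cj_eq
  mem_cj_mul Tight)
open Cfsg.Agent.OddHalf.D4.Basic (IsSyl exists_isSyl orderOf_conj)

local notation "SL2" => Matrix.SpecialLinearGroup (Fin 2)

universe u

variable {F : Type*} [Field F] {G : Type u} [Group G] {A T : Subgroup G} {π : SL2 F →* G}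

/-- the setup with a full pair -/
structure Pr (A T : Subgroup G) (π : SL2 F →* G) : Prop extends Fr A T π where
  full : ∃ a, a ∉ normalizer (A : Set G) ∧ cj a (RR A T) ≤ T

/-- `R × R₀` -/
def VQ (A T : Subgroup G) (π : SL2 F →* G) : Subgroup G := RR A T ⊔ VV π

/-- the conjugates of `R` in `VQ` -/
def LL (A T : Subgroup G) (π : SL2 F →* G) : Set (Subgroup G) :=
  {Y | Y ≤ VQ A T π ∧ ∃ g, Y = cj g (RR A T)}

theorem cj_mono {X Y : Subgroup G} (g : G) (h : X ≤ Y) : cj g X ≤ cj g Y := map_mono h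

theorem cj_one (X : Subgroup G) : cj 1 X = X := by
  ext x; rw [mem_cj]; simp

theorem cj_inv_cj (g : G) (X : Subgroup G) : cj g⁻¹ (cj g X) = X := by
  rw [← cj_mul, inv_mul_cancel, cj_one]

theorem cj_cj_inv (g : G) (X : Subgroup G) : cj g (cj g⁻¹ X) = X := by
  rw [← cj_mul, mul_inv_cancel, cj_one]

theorem cj_le_iff {X Y : Subgroup G} {g : G} : cj g X ≤ Y ↔ X ≤ cj g⁻¹ Y := by
  constructor
  · intro h
    have := cj_mono g⁻¹ h
    rwa [cj_inv_cj] at this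
  · intro h
    have := cj_mono g h
    rwa [cj_cj_inv] at this

theorem cj_inj {X Y : Subgroup G} {g : G} (h : cj g X = cj g Y) : X = Y := by
  rw [← cj_inv_cj g X, h, cj_inv_cj]

namespace Pr

variable [Finite F] [CharP F 2] [Finite G] (H : Pr A T π)
include H

theorem rsq {x : G} (hx : x ∈ RR A T) : x * x = 1 := by
  obtain ⟨a, ha, hU⟩ := H.full
  exact H.toFr.R_sq ha hU x hx

theorem rcomm {x y : G} (hx : x ∈ RR A T) (hy : y ∈ RR A T) : x * y = y * x := by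
  have h1 := H.rsq (mul_mem hx hy)
  have h2 : x⁻¹ = x := inv_eq_of_mul_eq_one_left (H.rsq hx)
  have h3 : y⁻¹ = y := inv_eq_of_mul_eq_one_left (H.rsq hy)
  have h4 : (x * y)⁻¹ = x * y := inv_eq_of_mul_eq_one_left h1
  rw [mul_inv_rev, h2, h3] at h4
  exact h4.symm

theorem ru {r : G} (hr : r ∈ RR A T) (b : F) : r * π (up b) = π (up b) * r :=
  mem_cent.1 hr.2 _ (H.P.mem _)

theorem uu (b c : F) : π (up b) * π (up c) = π (up c) * π (up b) := by
  rw [← map_mul, ← map_mul, up_mul, up_mul, add_comm]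

theorem uadd (b c : F) : π (up b) * π (up c) = π (up (b + c)) := by
  rw [← map_mul, up_mul]

theorem uinj {b c : F} (h : π (up b) = π (up c)) : b = c := up_inj (H.P.inj h)

theorem u0 : π (up (0 : F)) = 1 := by rw [up_zero, map_one]

theorem mem_VQ {x : G} : x ∈ VQ A T π ↔ ∃ r ∈ RR A T, ∃ b : F, x = r * π (up b) := by
  have hN : RR A T ≤ normalizer ((VV π : Subgroup G) : Set G) := by
    intro r hr
    apply mem_normalizer_of_cj_eq
    have h1 : cj r (VV π) ≤ VV π := by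
      rintro _ ⟨v, hv, rfl⟩
      obtain ⟨b, rfl⟩ := mem_VV.1 hv
      show r * π (up b) * r⁻¹ ∈ VV π
      rw [H.ru hr, mul_inv_cancel_right]
      exact up_mem_VV b
    exact eq_of_le_of_card_ge h1 (card_cj _ _).ge
  constructor
  · intro hx
    have h1 : x ∈ ((RR A T ⊔ VV π : Subgroup G) : Set G) := hx
    rw [coe_mul_of_left_le_normalizer_right _ _ hN] at h1
    obtain ⟨r, hr, v, hv, rfl⟩ := h1
    obtain ⟨b, rfl⟩ := mem_VV.1 hv
    exact ⟨r, hr, b, rfl⟩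
  · rintro ⟨r, hr, b, rfl⟩
    exact mul_mem (mem_sup_left hr) (mem_sup_right (up_mem_VV b))

theorem RVQ : RR A T ≤ VQ A T π := le_sup_left

theorem VVQ : VV π ≤ VQ A T π := le_sup_right

theorem uVQ (b : F) : π (up b) ∈ VQ A T π := H.VVQ (up_mem_VV b)

theorem VQT : VQ A T π ≤ T := sup_le H.toFr.RRT H.VT

theorem ru_mem {r : G} (hr : r ∈ RR A T) (b : F) : r * π (up b) ∈ VQ A T π := H.mem_VQ.2 ⟨r, hr, b, rfl⟩

theorem uniq {r r' : G} (hr : r ∈ RR A T) (hr' : r' ∈ RR A T) {b b' : F}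
    (h : r * π (up b) = r' * π (up b')) : r = r' ∧ b = b' := by
  have h1 : r'⁻¹ * r = π (up (b' + -b)) := by
    rw [← up_mul, map_mul, ← up_inv, map_inv, eq_mul_inv_iff_mul_eq, mul_assoc, h, inv_mul_cancel_left]
  have h2 : r'⁻¹ * r = 1 := by
    apply eq_one_of_cent H.P
    · rw [h1]; exact H.P.mem _
    · exact mul_mem (inv_mem hr'.2) hr.2
  have h3 : r = r' := (inv_mul_eq_one.1 h2).symm
  refine ⟨h3, ?_⟩
  rw [h3] at h
  exact H.uinj (mul_left_cancel h)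

theorem mem_R_of_cent {x : G} (hx : x ∈ VQ A T π) (hxC : x ∈ centralizer (A : Set G)) : x ∈ RR A T :=
  ⟨H.VQT hx, hxC⟩

theorem mem_VV_of_A {x : G} (hx : x ∈ VQ A T π) (hxA : x ∈ A) : x ∈ VV π :=
  H.toFr.mem_VV_of_mem_T (H.VQT hx) hxA

theorem vsq {x : G} (hx : x ∈ VQ A T π) : x * x = 1 := by
  obtain ⟨r, hr, b, rfl⟩ := H.mem_VQ.1 hx
  calc r * π (up b) * (r * π (up b)) = r * (π (up b) * r) * π (up b) := by group
    _ = r * r * (π (up b) * π (up b)) := by rw [← H.ru hr]; group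
    _ = 1 := by rw [H.rsq hr, VV_sq _ (up_mem_VV b), one_mul]

theorem vcomm {x y : G} (hx : x ∈ VQ A T π) (hy : y ∈ VQ A T π) : x * y = y * x := by
  have h2 : x⁻¹ = x := inv_eq_of_mul_eq_one_left (H.vsq hx)
  have h3 : y⁻¹ = y := inv_eq_of_mul_eq_one_left (H.vsq hy)
  have h4 : (x * y)⁻¹ = x * y := inv_eq_of_mul_eq_one_left (H.vsq (mul_mem hx hy))
  rw [mul_inv_rev, h2, h3] at h4
  exact h4.symm

theorem V2 : IsPGroup 2 (VQ A T π) := H.T2.to_le H.VQT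

theorem card_VQ : Nat.card (VQ A T π) = Nat.card (RR A T) * Nat.card F := by
  rw [← Nat.card_prod]
  refine (Nat.card_congr (Equiv.ofBijective
    (fun x : RR A T × F => (⟨x.1 * π (up x.2), H.ru_mem x.1.2 _⟩ : VQ A T π)) ⟨?_, ?_⟩)).symm
  · rintro ⟨r, b⟩ ⟨r', b'⟩ h
    have h1 := H.uniq r.2 r'.2 (congrArg Subtype.val h)
    exact Prod.ext (Subtype.ext h1.1) h1.2
  · rintro ⟨x, hx⟩
    obtain ⟨r, hr, b, rfl⟩ := H.mem_VQ.1 hx
    exact ⟨⟨⟨r, hr⟩, b⟩, rfl⟩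

theorem card_R : 4 ≤ Nat.card (RR A T) := by
  classical
  obtain ⟨r, hr, s, hs, hr2, hs2, hrs, hne⟩ := H.two
  have hr1 : r ≠ 1 := by
    rintro rfl; rw [orderOf_one] at hr2; omega
  have hs1 : s ≠ 1 := by
    rintro rfl; rw [orderOf_one] at hs2; omega
  have : Fact (Nat.Prime 2) := ⟨Nat.prime_two⟩
  obtain ⟨n, hn⟩ := IsPGroup.iff_card.1 H.toFr.R2
  have := Fintype.ofFinite (RR A T)
  have h3 : ({1, ⟨r, hr⟩, ⟨s, hs⟩} : Finset (RR A T)).card = 3 := by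
    rw [Finset.card_eq_three]
    refine ⟨1, ⟨r, hr⟩, ⟨s, hs⟩, ?_, ?_, ?_, rfl⟩
    · intro h; exact hr1 (congrArg Subtype.val h).symm
    · intro h; exact hs1 (congrArg Subtype.val h).symm
    · intro h; exact hne (congrArg Subtype.val h)
  have h4 := Finset.card_le_univ ({1, ⟨r, hr⟩, ⟨s, hs⟩} : Finset (RR A T))
  rw [h3, ← Nat.card_eq_fintype_card, hn] at h4
  rw [hn]
  have h5 : 2 ≤ n := by
    by_contra h
    have h6 : n ≤ 1 := by omega
    have := Nat.pow_le_pow_right (n := 2) (by norm_num) h6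
    omega
  exact le_trans (by norm_num) (Nat.pow_le_pow_right (n := 2) (by norm_num) h5)

theorem exists_r : ∃ r ∈ RR A T, orderOf r = 2 := by
  obtain ⟨r, hr, s, hs, hr2, -⟩ := H.two
  exact ⟨r, hr, hr2⟩

/-- the number of fixed points of a semilinear involution -/
theorem card_fixc {σ : F ≃+* F} (hσ1 : σ ≠ 1) (hσ2 : σ * σ = 1) {c : F} (hc : c * σ c = 1) :
    Nat.card {b : F // c * σ b = b} * Nat.card {b : F // c * σ b = b} = Nat.card F := by
  obtain ⟨k, hk0, hk⟩ := exists_fixed hσ1 hσ2 hc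
  have hc0 : c ≠ 0 := by
    rintro rfl
    rw [zero_mul] at hc
    exact zero_ne_one hc
  have h1 : Nat.card {b : F // c * σ b = b} = Nat.card {b : F // σ b = b} := by
    refine (Nat.card_congr (Equiv.ofBijective (fun b : {b : F // σ b = b} =>
      (⟨k * b, by rw [map_mul, b.2, ← mul_assoc, hk]⟩ : {b : F // c * σ b = b})) ⟨?_, ?_⟩)).symm
    · intro a b h
      exact Subtype.ext (mul_left_cancel₀ hk0 (congrArg Subtype.val h))
    · rintro ⟨b, hb⟩
      have h4 : σ (k⁻¹ * b) = k⁻¹ * b := by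
        rw [map_mul, map_inv₀]
        have h5 : σ k ≠ 0 := fun h => hk0 (by rwa [map_eq_zero] at h)
        field_simp
        apply mul_left_cancel₀ hc0
        linear_combination k * hb - b * hk
      refine ⟨⟨k⁻¹ * b, h4⟩, Subtype.ext ?_⟩
      show k * (k⁻¹ * b) = b
      rw [mul_inv_cancel_left₀ hk0]
  rw [h1]
  exact card_fix hσ2 hσ1

/-- elements of `T` centralizing the root group -/
theorem mem_VQ_of_cent {x : G} (hx : x ∈ T) (hc : ∀ v ∈ VV π, x * v = v * x) : x ∈ VQ A T π := by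
  obtain ⟨r, hr, w, hw, h⟩ := H.toFr.cent hx hc
  obtain ⟨b, rfl⟩ := mem_VV.1 hw
  exact H.mem_VQ.2 ⟨r, hr, b, h⟩

theorem cent_of_mem_VQ {x : G} (hx : x ∈ VQ A T π) : ∀ v ∈ VV π, x * v = v * x :=
  fun _ hv => H.vcomm hx (H.VVQ hv)

/-- `x, y ∈ T` of field type with squares in `VQ`: `x⁻¹ y ∈ VQ` -/
theorem inv_mul_mem_VQ {x y : G} (hx : x ∈ T) (hy : y ∈ T) (hx1 : x ∉ VQ A T π) (hy1 : y ∉ VQ A T π)
    (hx2 : x * x ∈ VQ A T π) (hy2 : y * y ∈ VQ A T π) : x⁻¹ * y ∈ VQ A T π := by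
  have e1 : H.toFr.fl ⟨x, hx⟩ = H.toFr.fl ⟨y, hy⟩ := by
    apply unique_invol
    · rw [← map_mul]
      exact (H.toFr.fl_eq_one _).2 (H.cent_of_mem_VQ hx2)
    · rw [← map_mul]
      exact (H.toFr.fl_eq_one _).2 (H.cent_of_mem_VQ hy2)
    · intro h
      exact hx1 (H.mem_VQ_of_cent hx ((H.toFr.fl_eq_one _).1 h))
    · intro h
      exact hy1 (H.mem_VQ_of_cent hy ((H.toFr.fl_eq_one _).1 h))
  have e2 : H.toFr.fl (⟨x, hx⟩⁻¹ * ⟨y, hy⟩) = 1 := by
    rw [map_mul, map_inv, e1, inv_mul_cancel]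
  exact H.mem_VQ_of_cent (T.mul_mem (T.inv_mem hx) hy) ((H.toFr.fl_eq_one _).1 e2)

/-- the semilinear action of an involution of `T` outside `VQ` -/
theorem invol_act {x : G} (hx : x ∈ T) (hx1 : x ∉ VQ A T π) (hx2 : x * x ∈ VQ A T π) :
    ∃ (σ : F ≃+* F) (c : F), σ ≠ 1 ∧ σ * σ = 1 ∧ c * σ c = 1 ∧
      ∀ b, x * π (up b) * x⁻¹ = π (up (c * σ b)) := by
  have h1 : ∃ w ∈ VV π, x * w ≠ w * x := by
    by_contra h
    push Not at h
    exact hx1 (H.mem_VQ_of_cent hx h)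
  obtain ⟨σ, y, hσ1, hσ2, -, -, hact⟩ := H.toFr.coords hx h1 (H.cent_of_mem_VQ hx2)
  refine ⟨σ, _, hσ1, hσ2, ?_, hact⟩
  have h2 : x * (x * π (up 1) * x⁻¹) * x⁻¹ = π (up 1) := by
    have h3 : x * (x * π (up 1) * x⁻¹) * x⁻¹ = (x * x) * π (up 1) * (x * x)⁻¹ := by group
    rw [h3, H.cent_of_mem_VQ hx2 _ (up_mem_VV 1), mul_inv_cancel_right]
  rw [hact, hact, map_one, mul_one] at h2
  exact H.uinj h2

/-- an elementary abelian subgroup of `T` not in `VQ` is small -/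
theorem elem_card {X : Subgroup G} (hX : X ≤ T) (hX2 : ∀ x ∈ X, x * x = 1) (hn : ¬ X ≤ VQ A T π) :
    ∃ f : ℕ, f * f = Nat.card F ∧ Nat.card X ≤ 2 * (Nat.card (RR A T) * f) := by
  obtain ⟨x, hxX, hxV⟩ := SetLike.not_le_iff_exists.1 hn
  have hXc : ∀ y ∈ X, ∀ z ∈ X, y * z = z * y := by
    intro y hy z hz
    have h2 : y⁻¹ = y := inv_eq_of_mul_eq_one_left (hX2 y hy)
    have h3 : z⁻¹ = z := inv_eq_of_mul_eq_one_left (hX2 z hz)
    have h4 : (y * z)⁻¹ = y * z := inv_eq_of_mul_eq_one_left (hX2 _ (mul_mem hy hz))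
    rw [mul_inv_rev, h2, h3] at h4
    exact h4.symm
  obtain ⟨σ, c, hσ1, hσ2, hc, hact⟩ := H.invol_act (hX hxX) hxV (by rw [hX2 x hxX]; exact one_mem _)
  refine ⟨Nat.card {b : F // c * σ b = b}, H.card_fixc hσ1 hσ2 hc, ?_⟩
  have h1 := card_le_two_mul X (VQ A T π) (by
    intro y hy z hz hy1 hz1
    exact H.inv_mul_mem_VQ (hX hy) (hX hz) hy1 hz1 (by rw [hX2 y hy]; exact one_mem _)
      (by rw [hX2 z hz]; exact one_mem _))
  refine h1.trans (Nat.mul_le_mul_left 2 ?_)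
  rw [← Nat.card_prod]
  have key : ∀ z : (X ⊓ VQ A T π : Subgroup G), ∃ r ∈ RR A T, ∃ b : F, c * σ b = b ∧ (z : G) = r * π (up b) := by
    rintro ⟨z, hzX, hzV⟩
    obtain ⟨r, hr, b, rfl⟩ := H.mem_VQ.1 hzV
    refine ⟨r, hr, b, ?_, rfl⟩
    have h2 : x * (r * π (up b)) * x⁻¹ = r * π (up b) := by
      rw [hXc _ hxX _ hzX, mul_inv_cancel_right]
    have h3 : x * (r * π (up b)) * x⁻¹ = (x * r * x⁻¹) * π (up (c * σ b)) := by
      rw [← hact]; group
    rw [h3] at h2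
    have h4 : x * r * x⁻¹ ∈ RR A T :=
      ⟨T.mul_mem (T.mul_mem (hX hxX) hr.1) (T.inv_mem (hX hxX)), H.tight.norm _ (H.toFr.nT (hX hxX)) _ hr.2⟩
    exact (H.uniq h4 hr h2).2
  choose r hr b hb hz using key
  refine Nat.card_le_card_of_injective
    (fun z => ((⟨r z, hr z⟩, ⟨b z, hb z⟩) : RR A T × {b : F // c * σ b = b})) ?_
  intro z z' h
  apply Subtype.ext
  rw [hz z, hz z']
  have h5 : r z = r z' := congrArg (fun w => (w.1 : G)) h
  have h6 : b z = b z' := congrArg (fun w => (w.2 : F)) h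
  rw [h5, h6]

/-- `VQ` is the only elementary abelian subgroup of its order in `T` -/
theorem eq_VQ {X : Subgroup G} (hX : X ≤ T) (hX2 : ∀ x ∈ X, x * x = 1)
    (hc : Nat.card (VQ A T π) ≤ Nat.card X) : X = VQ A T π := by
  by_cases hn : X ≤ VQ A T π
  · exact eq_of_le_of_card_ge hn hc
  exfalso
  obtain ⟨f, hf, hle⟩ := H.elem_card hX hX2 hn
  rw [H.card_VQ, ← hf] at hc
  have h4 := H.card_R
  have h8 := H.q8
  rw [← hf] at h8
  have h1 : Nat.card (RR A T) * (f * f) ≤ Nat.card (RR A T) * (2 * f) := by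
    calc Nat.card (RR A T) * (f * f) ≤ Nat.card X := hc
      _ ≤ 2 * (Nat.card (RR A T) * f) := hle
      _ = Nat.card (RR A T) * (2 * f) := by ring
  have h2 : f * f ≤ 2 * f := Nat.le_of_mul_le_mul_left h1 (by omega)
  have h3 : 3 ≤ f := by
    by_contra h
    have : f ≤ 2 := by omega
    have := Nat.mul_le_mul this this
    omega
  nlinarith

/-! ### the members -/

theorem R_mem_LL : RR A T ∈ LL A T π := ⟨H.RVQ, 1, (cj_one _).symm⟩

theorem LL_card {Y : Subgroup G} (hY : Y ∈ LL A T π) : Nat.card Y = Nat.card (RR A T) := by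
  obtain ⟨-, g, rfl⟩ := hY
  exact card_cj g _

theorem orderOf_mem_VQ {x : G} (hx : x ∈ VQ A T π) (hx1 : x ≠ 1) : orderOf x = 2 :=
  orderOf_eq_two (H.vsq hx) hx1

/-- a 2-subgroup of `C^g` containing `R^g` equals `R^g` -/
theorem le_of_sup {g : G} {W : Subgroup G} (hW : W ≤ VQ A T π) (hWC : W ≤ cj g (centralizer (A : Set G)))
    (hg : cj g (RR A T) ≤ VQ A T π) : W ≤ cj g (RR A T) := by
  have h1 := isSyl_cj H.toFr.sylR g
  have h2 : VQ A T π ⊓ cj g (centralizer (A : Set G)) ≤ cj g (RR A T) :=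
    h1.max _ (H.V2.to_le inf_le_left) (le_inf hg h1.le) inf_le_right
  exact (le_inf hW hWC).trans h2

/-- two members with a common involution coincide -/
theorem LL_eq {Y Z : Subgroup G} (hY : Y ∈ LL A T π) (hZ : Z ∈ LL A T π) {y : G} (hyY : y ∈ Y) (hyZ : y ∈ Z)
    (hy1 : y ≠ 1) : Y = Z := by
  obtain ⟨hYV, g, rfl⟩ := hY
  obtain ⟨hZV, h, rfl⟩ := hZ
  have hy2 := H.orderOf_mem_VQ (hYV hyY) hy1
  have h1 : h⁻¹ * g ∈ normalizer (A : Set G) := by
    apply H.tight.tight _ (g⁻¹ * y * g) (mem_cj.1 hyY).2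
    · have := orderOf_conj g⁻¹ y
      rw [inv_inv] at this
      rw [this, hy2]
    · have e : h⁻¹ * g * (g⁻¹ * y * g) * (h⁻¹ * g)⁻¹ = h⁻¹ * y * h := by group
      rw [e]; exact (mem_cj.1 hyZ).2
  have h2 : cj g (RR A T) ≤ cj h (RR A T) := by
    apply H.le_of_sup hYV _ hZV
    intro x hx
    rw [mem_cj] at hx ⊢
    have h3 := H.tight.norm _ h1 _ hx.2
    have e : h⁻¹ * g * (g⁻¹ * x * g) * (h⁻¹ * g)⁻¹ = h⁻¹ * x * h := by group
    rwa [e] at h3
  exact eq_of_le_of_card_ge h2 (by rw [card_cj, card_cj])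

theorem mem_M_of_cj {n : G} (h : cj n (RR A T) = RR A T) : n ∈ normalizer (A : Set G) := by
  obtain ⟨r, hr, hr2⟩ := H.exists_r
  apply H.tight.tight n r hr.2 hr2
  have h1 : n * r * n⁻¹ ∈ cj n (RR A T) := mem_cj_mul hr
  rw [h] at h1
  exact h1.2

theorem cj_R_of_mem_M {n : G} (hn : n ∈ normalizer (VQ A T π : Set G)) (hM : n ∈ normalizer (A : Set G)) :
    cj n (RR A T) = RR A T := by
  have h1 : cj n (RR A T) ≤ RR A T := by
    rintro _ ⟨r, hr, rfl⟩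
    apply H.mem_R_of_cent
    · exact (mem_normalizer_iff.1 hn r).1 (H.RVQ hr)
    · exact H.tight.norm _ hM _ hr.2
  exact eq_of_le_of_card_ge h1 (by rw [card_cj])

theorem cj_VV_of_mem_M {n : G} (hn : n ∈ normalizer (VQ A T π : Set G)) (hM : n ∈ normalizer (A : Set G)) :
    cj n (VV π) = VV π := by
  have h1 : cj n (VV π) ≤ VV π := by
    rintro _ ⟨r, hr, rfl⟩
    apply H.mem_VV_of_A
    · exact (mem_normalizer_iff.1 hn r).1 (H.VVQ hr)
    · exact (mem_normalizer_iff.1 hM r).1 (VV_le H.P hr)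
  exact eq_of_le_of_card_ge h1 (by rw [card_cj])

/-- `T ≤ N(VQ)` -/
theorem T_norm {t : G} (ht : t ∈ T) : t ∈ normalizer (VQ A T π : Set G) := by
  apply mem_normalizer_of_cj_eq
  have h1 : cj t (VQ A T π) ≤ VQ A T π := by
    rintro _ ⟨x, hx, rfl⟩
    obtain ⟨r, hr, b, rfl⟩ := H.mem_VQ.1 hx
    show t * (r * π (up b)) * t⁻¹ ∈ VQ A T π
    have e : t * (r * π (up b)) * t⁻¹ = (t * r * t⁻¹) * (t * π (up b) * t⁻¹) := by group
    rw [e]
    refine mul_mem (H.RVQ ⟨T.mul_mem (T.mul_mem ht hr.1) (T.inv_mem ht), H.tight.norm _ (H.toFr.nT ht) _ hr.2⟩)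
      (H.VVQ (H.toFr.Vn ht (up_mem_VV b)))
  exact eq_of_le_of_card_ge h1 (card_cj _ _).ge

/-- the torus -/
theorem exists_tor (c : F) (hc : c ≠ 0) : ∃ h ∈ A, h ∈ normalizer (VQ A T π : Set G) ∧
    (∀ r ∈ RR A T, h * r = r * h) ∧ ∀ b, h * π (up b) * h⁻¹ = π (up (c * b)) := by
  obtain ⟨h, hA, hh⟩ := exists_torus H.P (Units.mk0 c hc)
  have hr : ∀ r ∈ RR A T, h * r = r * h := fun r hr => (mem_cent.1 hr.2 h hA).symm
  refine ⟨h, hA, ?_, hr, hh⟩
  apply mem_normalizer_of_cj_eq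
  have h1 : cj h (VQ A T π) ≤ VQ A T π := by
    rintro _ ⟨x, hx, rfl⟩
    obtain ⟨r, hr', b, rfl⟩ := H.mem_VQ.1 hx
    show h * (r * π (up b)) * h⁻¹ ∈ VQ A T π
    have e : h * (r * π (up b)) * h⁻¹ = (h * r * h⁻¹) * (h * π (up b) * h⁻¹) := by group
    rw [e, hr r hr', mul_inv_cancel_right, hh]
    exact H.ru_mem hr' _
  exact eq_of_le_of_card_ge h1 (card_cj _ _).ge

theorem cj_mem_LL {n : G} (hn : n ∈ normalizer (VQ A T π : Set G)) {Y : Subgroup G} (hY : Y ∈ LL A T π) :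
    cj n Y ∈ LL A T π := by
  obtain ⟨hYV, g, rfl⟩ := hY
  refine ⟨?_, n * g, (cj_mul n g _).symm⟩
  have := cj_mono n hYV
  rwa [cj_eq_of_mem_normalizer hn] at this

/-- **transitivity** of `N(VQ)` on the members -/
theorem exists_norm {Y : Subgroup G} (hY : Y ∈ LL A T π) :
    ∃ n ∈ normalizer (VQ A T π : Set G), cj n (RR A T) = Y := by
  obtain ⟨hYV, g, hg⟩ := id hY
  obtain ⟨r, hr, hr2⟩ := H.exists_r
  have hr1 : r ≠ 1 := by
    rintro rfl; rw [orderOf_one] at hr2; omega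
  -- `V ≤ M^g`
  have h1 : cj g⁻¹ (VQ A T π) ≤ normalizer (A : Set G) := by
    rintro _ ⟨x, hx, rfl⟩
    show g⁻¹ * x * g⁻¹⁻¹ ∈ normalizer (A : Set G)
    rw [inv_inv]
    have hy : g * r * g⁻¹ ∈ VQ A T π := by
      apply hYV; rw [hg]; exact mem_cj_mul hr
    apply H.toFr.mem_of_comm (x := g * r * g⁻¹)
    · have e : g⁻¹ * (g * r * g⁻¹) * g = r := by group
      rw [e]; exact hr.2
    · rw [orderOf_conj, hr2]
    · exact H.vcomm hx hy
  obtain ⟨m, hm, hmT⟩ := H.syl.conj_into (isPGroup_cj H.V2 g⁻¹) h1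
  have h2 : cj (m * g⁻¹) (VQ A T π) = VQ A T π := by
    apply H.eq_VQ
    · rw [cj_mul]
      rintro _ ⟨x, hx, rfl⟩
      exact hmT x hx
    · rintro _ ⟨x, hx, rfl⟩
      show (m * g⁻¹) * x * (m * g⁻¹)⁻¹ * ((m * g⁻¹) * x * (m * g⁻¹)⁻¹) = 1
      have e : (m * g⁻¹) * x * (m * g⁻¹)⁻¹ * ((m * g⁻¹) * x * (m * g⁻¹)⁻¹) =
          (m * g⁻¹) * (x * x) * (m * g⁻¹)⁻¹ := by group
      rw [e, H.vsq hx]; group
    · rw [card_cj]
  have hn := mem_normalizer_of_cj_eq h2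
  refine ⟨(m * g⁻¹)⁻¹, inv_mem hn, ?_⟩
  have hW := H.cj_mem_LL (inv_mem hn) H.R_mem_LL
  have h3 : (m * g⁻¹)⁻¹ * r * (m * g⁻¹) ∈ cj (m * g⁻¹)⁻¹ (RR A T) := by
    have := mem_cj_mul (g := (m * g⁻¹)⁻¹) hr
    rwa [inv_inv] at this
  -- both are Sylow subgroups of `C^g`
  have h4 : cj (m * g⁻¹)⁻¹ (RR A T) ≤ cj g (RR A T) := by
    apply H.le_of_sup hW.1 _ (hg ▸ hYV)
    intro x hx
    rw [mem_cj] at hx ⊢
    have h5 := H.tight.norm _ (inv_mem hm) _ hx.2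
    have e : m⁻¹ * ((m * g⁻¹)⁻¹⁻¹ * x * (m * g⁻¹)⁻¹) * m⁻¹⁻¹ = g⁻¹ * x * g := by group
    rwa [e] at h5
  rw [hg]
  exact eq_of_le_of_card_ge h4 (by rw [card_cj, card_cj])

/-- members meeting the root group nontrivially are contained in it -/
theorem le_VV_of_meet {Y : Subgroup G} (hY : Y ∈ LL A T π) {b0 : F} (hb0 : b0 ≠ 0) (hY0 : π (up b0) ∈ Y) :
    Y ≤ VV π := by
  intro y hy
  obtain ⟨r, hr, b, rfl⟩ := H.mem_VQ.1 (hY.1 hy)
  by_cases hr1 : r = 1
  · rw [hr1, one_mul]; exact up_mem_VV b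
  exfalso
  have hYR : ∀ x ∈ Y, x ∈ RR A T → x = 1 := by
    intro x hx hxR
    by_contra hx1
    have h1 := H.LL_eq hY H.R_mem_LL hx hxR hx1
    rw [h1] at hY0
    apply hb0
    apply H.uinj
    rw [H.u0]
    exact eq_one_of_cent H.P (H.P.mem _) hY0.2
  have hbY : π (up b) ∉ Y := by
    intro h
    apply hr1
    apply hYR r _ hr
    have e : r = r * π (up b) * (π (up b))⁻¹ := by group
    rw [e]
    exact mul_mem hy (inv_mem h)
  have hb : b ≠ 0 := by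
    rintro rfl
    exact hbY (by rw [H.u0]; exact one_mem _)
  have hbb : b + b0 ≠ 0 := by
    intro h
    apply hbY
    have : b = b0 := by
      have e2 : (2 : F) = 0 := CharTwo.two_eq_zero
      linear_combination h - b0 * e2
    rw [this]; exact hY0
  set c := (b + b0) / b with hc
  have hc0 : c ≠ 0 := div_ne_zero hbb hb
  have hcb : c * b = b + b0 := div_mul_cancel₀ _ hb
  obtain ⟨h, hA, hN, hhr, hhu⟩ := H.exists_tor c hc0
  have h1 : h * (r * π (up b)) * h⁻¹ = r * π (up b) * π (up b0) := by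
    have e : h * (r * π (up b)) * h⁻¹ = (h * r * h⁻¹) * (h * π (up b) * h⁻¹) := by group
    rw [e, hhr r hr, mul_inv_cancel_right, hhu, hcb, mul_assoc, H.uadd]
  have h2 : cj h Y = Y := by
    apply H.LL_eq (H.cj_mem_LL hN hY) hY (y := h * (r * π (up b)) * h⁻¹) (mem_cj_mul hy)
    · rw [h1]; exact mul_mem hy hY0
    · intro h3
      have h4 : r * π (up b) = 1 := by
        have : h * (r * π (up b)) * h⁻¹ = h * 1 * h⁻¹ := by rw [h3]; group
        exact mul_left_cancel (mul_right_cancel this)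
      apply hr1
      exact (H.uniq hr (one_mem _) (b' := 0) (by rw [h4, H.u0, one_mul])).1
  -- the additive group of `Y` is invariant under `c + 1`
  let S : Set F := {x | π (up x) ∈ Y}
  have hS : ∀ x ∈ S, (c + 1) * x ∈ S := by
    intro x hx
    show π (up ((c + 1) * x)) ∈ Y
    have e : (c + 1) * x = c * x + x := by ring
    rw [e, ← H.uadd]
    refine mul_mem ?_ hx
    rw [← hhu]
    have : h * π (up x) * h⁻¹ ∈ cj h Y := mem_cj_mul hx
    rwa [h2] at this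
  have hc1 : c + 1 ≠ 0 := by
    intro h3
    apply hb0
    have e2 : (2 : F) = 0 := CharTwo.two_eq_zero
    linear_combination b * h3 - hcb - b * e2
  have hinj : Function.Injective (fun x : S => (⟨(c + 1) * x, hS x x.2⟩ : S)) := by
    intro x y h
    exact Subtype.ext (mul_left_cancel₀ hc1 (congrArg Subtype.val h))
  obtain ⟨⟨x, hx⟩, hxb⟩ := (Finite.injective_iff_surjective.1 hinj) ⟨b0, hY0⟩
  have hxb' : (c + 1) * x = (c + 1) * b := by
    have e2 : (2 : F) = 0 := CharTwo.two_eq_zero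
    have h5 : (c + 1) * x = b0 := congrArg Subtype.val hxb
    rw [h5]
    linear_combination -hcb - b * e2
  have := mul_left_cancel₀ hc1 hxb'
  rw [this] at hx
  exact hbY hx

end Pr

end Cfsg.Agent.OddHalf.D4.Rk2
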