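import Cfsg.Agent.OddHalf.D4.Rk2.Row
import Cfsg.Agent.S1169
import Cfsg.Agent.S1173

/-!
# D4, the row `K = L₂(2^a)`, `a ≥ 3`, `m_2(C(K)) ≥ 2`, unconditional
-/

set_option autoImplicit false

namespace Cfsg.Agent.OddHalf.D4.Rk2

universe u

theorem gold : Cfsg.Agent.StdSz.EndClosed.Gold.{u} := fun S A hA hAc hs => Cfsg.Agent.S1169.result S A hA hAc hs

theorem p1173 : Start.P1173.{u} := fun _ _ _ hO S T hT => Cfsg.Agent.S1173.result hO S T hT

/-- **the row `L₂(2^a)`, `a ≥ 3`** -/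
theorem l2e : Cut.Row1.{u} (fun K _ => Cut.L2e K) := row p1173 gold

end Cfsg.Agent.OddHalf.D4.Rk2
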