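import Cfsg.Agent.StdL2.FrameMain
import Cfsg.Agent.OddHalf.D4.EvenPair
import Cfsg.Agent.OddHalf.D4.Basic

/-!
# D4, `K = L₂(q)`, `q = 2ⁿ ≥ 8`: the setup

`A = π(SL₂(F))` is tightly centralized: `C = C(A)`, `M = N(A)`; `T` is a Sylow 2-subgroup of `M` containing the
root group `VV π`, `RR A T = T ∩ C`.
-/

set_option autoImplicit false
set_option linter.unusedSectionVars false

namespace Cfsg.Agent.OddHalf.D4.Rk2

open Subgroup Cfsg.Agent.StdL2.Frame Cfsg.Agent.StdL2.Field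
open Cfsg.Agent.StdL2.FrameFT (VV mem_VV up_mem_VV VV_le VV_sq card_VV le_VV sem ent_ne cent_VV cent_of_fld
  exists_fixed ent_of_conj conj_up eq_up dg_conj)
open Cfsg.Agent.Lib.SL2Mat Cfsg.Agent.Lib.AutSL2 Cfsg.Agent.StdRank2.OutField
open Cfsg.Agent.OddHalf.D4.CommConj (cj mem_cj cj_mul card_cj cj_eq_of_mem_normalizer mem_normalizer_of_cj_eq
  mem_cj_mul Tight)
open Cfsg.Agent.OddHalf.D4.Basic (IsSyl exists_isSyl orderOf_conj)

local notation "SL2" => Matrix.SpecialLinearGroup (Fin 2)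

universe u

variable {F : Type*} [Field F] {G : Type u} [Group G] {A T : Subgroup G} {π : SL2 F →* G}

/-- the Sylow 2-subgroup of `C(A)` -/
def RR (A T : Subgroup G) : Subgroup G := T ⊓ centralizer (A : Set G)

theorem mem_RR {x : G} : x ∈ RR A T ↔ x ∈ T ∧ x ∈ centralizer (A : Set G) := Iff.rfl

/-- **The setup.** -/
structure Fr (A T : Subgroup G) (π : SL2 F →* G) : Prop where
  P : IsPar A π
  q8 : 8 ≤ Nat.card F
  simple : IsSimpleGroup ↥A
  tight : Tight (centralizer (A : Set G)) (normalizer (A : Set G))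
  nc : ∀ g : G, ∃ a ∈ A, ∃ b ∈ A, a * (g * b * g⁻¹) ≠ g * b * g⁻¹ * a
  syl : IsSyl T (normalizer (A : Set G))
  VT : VV π ≤ T
  two : ∃ r ∈ RR A T, ∃ s ∈ RR A T, orderOf r = 2 ∧ orderOf s = 2 ∧ r * s = s * r ∧ r ≠ s

/-! ### general lemmas -/

theorem mul_self_of_orderOf {x : G} (h : orderOf x = 2) : x * x = 1 := by
  rw [← pow_two, ← h, pow_orderOf_eq_one]

theorem orderOf_eq_two {x : G} (h : x * x = 1) (h1 : x ≠ 1) : orderOf x = 2 :=
  orderOf_eq_prime (by rw [pow_two, h]) h1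

theorem mem_cent {X : Subgroup G} {g : G} : g ∈ centralizer (X : Set G) ↔ ∀ x ∈ X, g * x = x * g := by
  rw [mem_centralizer_iff]
  exact ⟨fun h x hx => (h x hx).symm, fun h x hx => (h x hx).symm⟩

/-- a nontrivial 2-element has a power which is an involution -/
theorem exists_pow_invol [Finite G] {x : G} (h1 : x ≠ 1) {m : ℕ} (hm : x ^ 2 ^ m = 1) :
    ∃ k : ℕ, orderOf (x ^ k) = 2 := by
  classical
  have h2 := Nat.find_spec (p := fun i => x ^ 2 ^ i = 1) ⟨m, hm⟩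
  set i := Nat.find (p := fun i => x ^ 2 ^ i = 1) ⟨m, hm⟩ with hi
  have hi0 : i ≠ 0 := by
    intro h0
    rw [h0] at h2
    exact h1 (by simpa using h2)
  obtain ⟨j, hj⟩ := Nat.exists_eq_succ_of_ne_zero hi0
  refine ⟨2 ^ j, orderOf_eq_two ?_ ?_⟩
  · rw [← pow_two, ← pow_mul, ← pow_succ]
    rw [hj] at h2
    exact h2
  · intro h3
    have := Nat.find_min (p := fun i => x ^ 2 ^ i = 1) ⟨m, hm⟩ (m := j) (by omega)
    exact this h3

theorem exists_pow_of_mem {X : Subgroup G} (hX : IsPGroup 2 X) {x : G} (hx : x ∈ X) :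
    ∃ m : ℕ, x ^ 2 ^ m = 1 := by
  obtain ⟨m, hm⟩ := hX ⟨x, hx⟩
  exact ⟨m, congrArg Subtype.val hm⟩

theorem isPGroup_cj {X : Subgroup G} (hX : IsPGroup 2 X) (g : G) : IsPGroup 2 (cj g X) := hX.map _

/-- Sylow subgroups of conjugates -/
theorem isSyl_cj {X M : Subgroup G} (h : IsSyl X M) (g : G) : IsSyl (cj g X) (cj g M) := by
  refine ⟨isPGroup_cj h.two g, map_mono h.le, ?_⟩
  intro Q hQ hle hQM
  have h1 : cj g⁻¹ Q ≤ X := by
    apply h.max _ (isPGroup_cj hQ _)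
    · intro x hx
      rw [mem_cj]
      apply hle
      rw [mem_cj]
      simpa [mul_assoc] using hx
    · intro x hx
      rw [mem_cj] at hx
      have := hQM hx
      rw [mem_cj] at this
      simpa [mul_assoc] using this
  intro x hx
  rw [mem_cj]
  apply h1
  rw [mem_cj]
  simpa [mul_assoc] using hx

/-! ### elements of `A` -/

/-- `A ∩ C(A) = 1` -/
theorem eq_one_of_cent [CharP F 2] (P : IsPar A π) {x : G} (hx : x ∈ A) (hxc : x ∈ centralizer (A : Set G)) :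
    x = 1 := by
  obtain ⟨y, rfl⟩ := P.exists_eq hx
  have h1 : y = 1 := by
    apply eq_one_of_commute
    · apply P.inj
      rw [map_mul, map_mul]
      exact (mem_centralizer_iff.1 hxc _ (P.mem _)).symm
    · apply P.inj
      rw [map_mul, map_mul]
      exact (mem_centralizer_iff.1 hxc _ (P.mem _)).symm
  rw [h1, map_one]

/-- the torus elements -/
theorem exists_torus [Finite F] [CharP F 2] (P : IsPar A π) (c : Fˣ) :
    ∃ h ∈ A, ∀ b, h * π (up b) * h⁻¹ = π (up (c * b)) := by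
  obtain ⟨s, hs⟩ := exists_sqrt (c : F)
  have hs0 : s ≠ 0 := by
    rintro rfl
    rw [mul_zero] at hs
    exact c.ne_zero hs.symm
  refine ⟨π (dg s hs0), P.mem _, fun b => ?_⟩
  rw [dg_conj, pow_two, hs]

/-- a subgroup containing the root group and an element which is not upper triangular is everything -/
theorem eq_top_of_up [Finite F] [CharP F 2] {X : Subgroup (SL2 F)} (h1 : ∀ b, up b ∈ X) {x : SL2 F} (hx : x ∈ X)
    (hx0 : ent x 1 0 ≠ 0) : X = ⊤ := by
  have hlo : lo (ent x 1 0) ∈ X := by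
    have h2 := eq_up_lo_up x hx0
    have h3 : lo (ent x 1 0) = (up ((ent x 0 0 - 1) / ent x 1 0))⁻¹ * x * (up ((ent x 1 1 - 1) / ent x 1 0))⁻¹ := by
      generalize up ((ent x 0 0 - 1) / ent x 1 0) = a at h2 ⊢
      generalize up ((ent x 1 1 - 1) / ent x 1 0) = b at h2 ⊢
      generalize lo (ent x 1 0) = c at h2 ⊢
      rw [h2]
      group
    rw [h3]
    exact X.mul_mem (X.mul_mem (X.inv_mem (h1 _)) hx) (X.inv_mem (h1 _))
  set c := ent x 1 0 with hc
  have hb : (-c⁻¹ : F) ≠ 0 := neg_ne_zero.2 (inv_ne_zero hx0)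
  have hw : wm (-c⁻¹) hb ∈ X := by
    rw [wm_eq]
    have e : -(-c⁻¹ : F)⁻¹ = c := by field_simp
    rw [e]
    exact X.mul_mem (X.mul_mem hlo (h1 _)) hlo
  have hlo' : ∀ b, lo b ∈ X := by
    intro b
    have h2 := wm_up (-c⁻¹) (-(b * (-c⁻¹) ^ 2)) hb
    have e : -(-(b * (-c⁻¹ : F) ^ 2) / (-c⁻¹) ^ 2) = b := by
      field_simp
    rw [e] at h2
    have h3 : lo b = wm (-c⁻¹) hb * up (-(b * (-c⁻¹) ^ 2)) * (wm (-c⁻¹) hb)⁻¹ := by
      rw [h2]; group
    rw [h3]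
    exact X.mul_mem (X.mul_mem hw (h1 _)) (X.inv_mem hw)
  rw [eq_top_iff]
  intro y _
  by_cases hy : ent y 1 0 = 0
  · have h2 : ent (lo 1 * y) 1 0 ≠ 0 := by
      rw [ent_mul, lo_10, lo_11, hy, mul_zero, add_zero, one_mul]
      exact ent_ne y hy
    have h3 := eq_up_lo_up _ h2
    have h4 : lo 1 * y ∈ X := by
      rw [h3]
      exact X.mul_mem (X.mul_mem (h1 _) (hlo' _)) (h1 _)
    have h5 : y = (lo 1)⁻¹ * (lo 1 * y) := by group
    rw [h5]
    exact X.mul_mem (X.inv_mem (hlo' _)) h4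
  · rw [eq_up_lo_up y hy]
    exact X.mul_mem (X.mul_mem (h1 _) (hlo' _)) (h1 _)

/-- a subgroup of `A` containing the root group and an element that is not triangular is everything -/
theorem le_of_up [Finite F] [CharP F 2] (P : IsPar A π) {X : Subgroup G} (h1 : VV π ≤ X) {x : SL2 F}
    (hx : π x ∈ X) (hx0 : ent x 1 0 ≠ 0) : A ≤ X := by
  have h2 : X.comap π = ⊤ := eq_top_of_up (fun b => h1 (up_mem_VV b)) hx hx0
  intro a ha
  obtain ⟨y, rfl⟩ := P.exists_eq ha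
  have : y ∈ X.comap π := by rw [h2]; trivial
  exact this

namespace Fr

variable (H : Fr A T π)
include H

theorem nT {x : G} (hx : x ∈ T) : x ∈ normalizer (A : Set G) := H.syl.le hx

theorem RRT : RR A T ≤ T := inf_le_left

theorem RRC : RR A T ≤ centralizer (A : Set G) := inf_le_right

theorem T2 : IsPGroup 2 T := H.syl.two

theorem R2 : IsPGroup 2 (RR A T) := H.T2.to_le H.RRT

variable [Finite F] [CharP F 2] [Finite G]

theorem Vn {x : G} (hx : x ∈ T) {v : G} (hv : v ∈ VV π) : x * v * x⁻¹ ∈ VV π := by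
  apply le_VV H.P (Q := T ⊓ A) (H.T2.to_le inf_le_left) inf_le_right
    (le_inf H.VT (VV_le H.P))
  exact ⟨T.mul_mem (T.mul_mem hx (H.VT hv)) (T.inv_mem hx),
    (mem_normalizer_iff.1 (H.nT hx) v).1 (VV_le H.P hv)⟩

theorem mem_VV_of_mem_T {x : G} (hx : x ∈ T) (hxA : x ∈ A) : x ∈ VV π :=
  le_VV H.P (Q := T ⊓ A) (H.T2.to_le inf_le_left) inf_le_right (le_inf H.VT (VV_le H.P)) ⟨hx, hxA⟩

/-- the field part of an element of `T` -/
noncomputable def fl : T →* (F ≃+* F) :=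
  (fld H.P).comp (Subgroup.inclusion (fun _ hx => H.nT hx))

theorem fl_apply (x : T) : H.fl x = fld H.P ⟨x, H.nT x.2⟩ := rfl

theorem fl_eq_one (x : T) : H.fl x = 1 ↔ ∀ v ∈ VV π, (x : G) * v = v * x := by
  rw [fl_apply]
  constructor
  · intro h
    obtain ⟨m, hm⟩ := exists_pow_of_mem H.T2 x.2
    exact cent_of_fld H.P (H.nT x.2) (fun v hv => H.Vn x.2 hv) h hm
  · intro h
    exact (cent_VV H.P (H.nT x.2) h).1

/-- elements of `T` centralizing the root group -/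
theorem cent {x : G} (hx : x ∈ T) (hc : ∀ v ∈ VV π, x * v = v * x) :
    ∃ r ∈ RR A T, ∃ v ∈ VV π, x = r * v := by
  obtain ⟨-, v, hv, h1⟩ := cent_VV H.P (H.nT hx) hc
  refine ⟨v⁻¹ * x, ⟨T.mul_mem (T.inv_mem (H.VT hv)) hx, h1⟩, v, hv, ?_⟩
  rw [mul_assoc, hc v hv, inv_mul_cancel_left]

theorem RV_comm {r v : G} (hr : r ∈ centralizer (A : Set G)) (hv : v ∈ A) : r * v = v * r :=
  mem_cent.1 hr v hv

/-- the Sylow 2-subgroup of the centralizer -/
theorem sylR : IsSyl (RR A T) (centralizer (A : Set G)) := by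
  apply H.syl.inf H.tight.le
  intro t ht
  apply mem_normalizer_of_cj_eq
  have h1 : cj t (centralizer (A : Set G)) ≤ centralizer (A : Set G) := by
    rintro _ ⟨c, hc, rfl⟩
    exact H.tight.norm t (H.nT ht) c hc
  exact eq_of_le_of_card_ge h1 (card_cj _ _).ge

theorem two' {a : G} : ∃ r ∈ cj a (RR A T), ∃ s ∈ cj a (RR A T), orderOf r = 2 ∧ orderOf s = 2 ∧
    r * s = s * r ∧ r ≠ s := by
  obtain ⟨r, hr, s, hs, hr2, hs2, hrs, hne⟩ := H.two
  refine ⟨a * r * a⁻¹, mem_cj_mul hr, a * s * a⁻¹, mem_cj_mul hs, ?_, ?_, ?_, ?_⟩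
  · rw [orderOf_conj, hr2]
  · rw [orderOf_conj, hs2]
  · calc a * r * a⁻¹ * (a * s * a⁻¹) = a * (r * s) * a⁻¹ := by group
      _ = a * s * a⁻¹ * (a * r * a⁻¹) := by rw [hrs]; group
  · intro h
    exact hne (mul_left_cancel (mul_right_cancel h))

/-- the centralizer of an involution of `C^a` normalizes `C^a` -/
theorem mem_of_comm {a x g : G} (hx : a⁻¹ * x * a ∈ centralizer (A : Set G)) (hx2 : orderOf x = 2)
    (hg : g * x = x * g) : a⁻¹ * g * a ∈ normalizer (A : Set G) := by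
  apply H.tight.tight (a⁻¹ * g * a) (a⁻¹ * x * a) hx
  · have := orderOf_conj a⁻¹ x
    rw [inv_inv] at this
    rw [this, hx2]
  · have h1 : a⁻¹ * g * a * (a⁻¹ * x * a) * (a⁻¹ * g * a)⁻¹ = a⁻¹ * (g * x) * g⁻¹ * a := by group
    rw [h1, hg]
    have h2 : a⁻¹ * (x * g) * g⁻¹ * a = a⁻¹ * x * a := by group
    rw [h2]; exact hx

end Fr

end Cfsg.Agent.OddHalf.D4.Rk2
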