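import Cfsg.Agent.OddHalf.D4.Rk2.MemA
import Cfsg.Agent.OddHalf.D4.Rk2.Semi
import Cfsg.Agent.OddHalf.D4.RkEnd.AffSw

/-!
# D4, `K = L₂(q)`: the affine case, `s = 0` and `E` contains conjugates of elements of `R` (swap)
-/

set_option autoImplicit false
set_option linter.unusedSectionVars false

namespace Cfsg.Agent.OddHalf.D4.Rk2

open Subgroup Cfsg.Agent.StdL2.Frame Cfsg.Agent.StdL2.Field
open Cfsg.Agent.StdL2.FrameFT (VV mem_VV up_mem_VV VV_le VV_sq card_VV sem ent_ne)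
open Cfsg.Agent.StdL2.FieldStart (exists_normalizer_gt card_le_two_mul)
open Cfsg.Agent.Lib.SL2Mat Cfsg.Agent.Lib.AutSL2 Cfsg.Agent.StdRank2.OutField
open Cfsg.Agent.OddHalf.D4.CommConj (cj mem_cj cj_mul card_cj cj_eq_of_mem_normalizer mem_normalizer_of_cj_eq
  mem_cj_mul Tight)
open Cfsg.Agent.OddHalf.D4.Basic (IsSyl exists_isSyl orderOf_conj)
open Cfsg.Agent.OddHalf.D4.RkEnd

local notation "SL2" => Matrix.SpecialLinearGroup (Fin 2)

universe u

variable {F : Type*} [Field F] {G : Type u} [Group G] {A T S : Subgroup G} {π : SL2 F →* G}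

namespace Ef

variable [Finite F] [CharP F 2] [Finite G] {f : G → F} {E : Subgroup G} {s : F}
  {H : Sy A T S π f} (K : Ef H E s)
include K

theorem card_E : Nat.card F * Nat.card F ≤ Nat.card E := by
  choose e he hc using K.onto
  rw [← Nat.card_prod]
  refine Nat.card_le_card_of_injective (fun p : F × F =>
    (⟨e p.1 * π (up p.2), mul_mem (he p.1) (K.VE (up_mem_VV p.2))⟩ : E)) ?_
  rintro ⟨v, c⟩ ⟨v', c'⟩ h
  have h1 : e v * π (up c) = e v' * π (up c') := congrArg Subtype.val h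
  have h2 : v = v' := by
    have h3 := congrArg H.chi h1
    rw [H.chi_T1_mul (K.ET (he v)) (H.VV_T1 (up_mem_VV c)), H.chi_T1_mul (K.ET (he v')) (H.VV_T1 (up_mem_VV c')),
      H.chi_VQ (H.uVQ c), H.chi_VQ (H.uVQ c'), hc, hc, add_zero, add_zero] at h3
    exact h3
  subst h2
  rw [H.uinj (mul_left_cancel h1)]

theorem card_R_le : Nat.card (RR A T) ≤ Nat.card F := by
  refine Nat.card_le_card_of_injective (fun r : RR A T => f r) ?_
  intro r r' h
  have h0 : f r = f r' := h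
  have h1 : (r : G) * r' = 1 := by
    apply H.gf.f_inj _ (mul_mem r.2 r'.2)
    rw [H.gf.f_add r r.2 r' r'.2, h0, CharTwo.add_self_eq_zero]
  have h2 : (r : G) = r' := by
    rw [eq_inv_of_mul_eq_one_left h1]
    exact inv_eq_of_mul_eq_one_left (H.rsq r'.2)
  exact Subtype.ext h2

theorem E_sq (hs : s = 0) {e : G} (he : e ∈ E) : e * e = 1 := by
  rw [K.sq e he, hs, zero_mul, H.u0]

/-- `E` is a conjugate of `VQ` -/
theorem exists_cj (hs : s = 0) (hII : ∃ e ∈ E, II A T e) :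
    ∃ x, cj x (VQ A T π) = E ∧ Nat.card (RR A T) = Nat.card F := by
  obtain ⟨e0, he0, h1, g, hg⟩ := hII
  have h2 : cj g⁻¹ E ≤ normalizer (A : Set G) := by
    rintro _ ⟨t, ht, rfl⟩
    show g⁻¹ * t * g⁻¹⁻¹ ∈ normalizer (A : Set G)
    rw [inv_inv]
    exact H.toFr.mem_of_comm (mem_cj.1 hg).2 (orderOf_eq_two (K.E_sq hs he0) h1) (K.comm t ht e0 he0)
  obtain ⟨m, hm, hmT⟩ := H.syl.conj_into (isPGroup_cj (H.T1_2.to_le K.ET) g⁻¹) h2
  have h3 : cj (m * g⁻¹) E = VQ A T π := by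
    apply H.toPr.eq_VQ
    · rw [cj_mul]
      rintro _ ⟨t, ht, rfl⟩
      exact hmT t ht
    · rintro _ ⟨t, ht, rfl⟩
      show (m * g⁻¹) * t * (m * g⁻¹)⁻¹ * ((m * g⁻¹) * t * (m * g⁻¹)⁻¹) = 1
      have e : (m * g⁻¹) * t * (m * g⁻¹)⁻¹ * ((m * g⁻¹) * t * (m * g⁻¹)⁻¹) =
          (m * g⁻¹) * (t * t) * (m * g⁻¹)⁻¹ := by group
      rw [e, K.E_sq hs ht]; group
    · rw [card_cj, H.toPr.card_VQ]
      exact (Nat.mul_le_mul_right _ K.card_R_le).trans K.card_E
  refine ⟨(m * g⁻¹)⁻¹, by rw [← h3, cj_inv_cj], ?_⟩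
  have h4 : Nat.card E = Nat.card (RR A T) * Nat.card F := by
    rw [← H.toPr.card_VQ, ← h3, card_cj]
  have h5 := K.card_E
  rw [h4] at h5
  exact le_antisymm K.card_R_le (Nat.le_of_mul_le_mul_right h5 Nat.card_pos)

/-- elements of `VQ ∖ VV` are in `II` -/
theorem VQ_II {v : G} (hv : v ∈ VQ A T π) (hvV : v ∉ VV π) : II A T v := by
  obtain ⟨c, Z, ⟨-, a, rfl⟩, -, hvZ⟩ := H.gf.cover H.toPr hv hvV
  refine ⟨?_, a, hvZ⟩
  rintro rfl
  exact hvV (one_mem _)

/-- `x` normalizes the root group -/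
theorem cj_VV {x : G} (hx : cj x (VQ A T π) = E) : cj x (VV π) = VV π := by
  have h1 : VV π ≤ cj x (VV π) := by
    intro v hv
    rw [mem_cj]
    have h2 := K.VE hv
    rw [← hx, mem_cj] at h2
    by_contra h3
    have h4 := K.VQ_II h2 h3
    have h5 := II_conj (g := x) h4
    have e : x * (x⁻¹ * v * x) * x⁻¹ = v := by group
    rw [e] at h5
    exact H.not_II hv h5
  exact (eq_of_le_of_card_ge h1 (card_cj _ _).le).symm

/-- elements of `E ∖ VV` are in `II` -/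
theorem E_II {x : G} (hx : cj x (VQ A T π) = E) {e : G} (he : e ∈ E) (heV : e ∉ VV π) : II A T e := by
  have h1 := he
  rw [← hx, mem_cj] at h1
  have h2 : x⁻¹ * e * x ∉ VV π := by
    intro h
    apply heV
    rw [← K.cj_VV hx, mem_cj]
    exact h
  have h5 := II_conj (g := x) (K.VQ_II h1 h2)
  have e1 : x * (x⁻¹ * e * x) * x⁻¹ = e := by group
  rwa [e1] at h5

/-- `VQ ∩ E = VV` -/
theorem inf_eq {v : G} : v ∈ VV π ↔ v ∈ VQ A T π ∧ v ∈ E :=
  ⟨fun h => ⟨H.VVQ h, K.VE h⟩, fun h => K.EVQ v h.2 h.1⟩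

end Ef

/-- the stabilizer of the pair -/
def N1 (X Y : Subgroup G) : Subgroup G where
  carrier := {n | (cj n X = X ∧ cj n Y = Y) ∨ (cj n X = Y ∧ cj n Y = X)}
  one_mem' := Or.inl ⟨cj_one _, cj_one _⟩
  mul_mem' := by
    rintro a b (⟨h1, h2⟩ | ⟨h1, h2⟩) (⟨h3, h4⟩ | ⟨h3, h4⟩)
    · left; rw [cj_mul, cj_mul, h3, h4]; exact ⟨h1, h2⟩
    · right; rw [cj_mul, cj_mul, h3, h4]; exact ⟨h2, h1⟩
    · right; rw [cj_mul, cj_mul, h3, h4]; exact ⟨h1, h2⟩
    · left; rw [cj_mul, cj_mul, h3, h4]; exact ⟨h2, h1⟩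
  inv_mem' := by
    rintro a (⟨h1, h2⟩ | ⟨h1, h2⟩)
    · left
      constructor
      · conv_lhs => rw [← h1]
        exact cj_inv_cj a X
      · conv_lhs => rw [← h2]
        exact cj_inv_cj a Y
    · right
      constructor
      · conv_lhs => rw [← h2]
        exact cj_inv_cj a Y
      · conv_lhs => rw [← h1]
        exact cj_inv_cj a X

theorem mem_N1 {X Y : Subgroup G} {n : G} :
    n ∈ N1 X Y ↔ (cj n X = X ∧ cj n Y = Y) ∨ (cj n X = Y ∧ cj n Y = X) := Iff.rfl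

theorem VV_norm_of_N1 [Finite F] [CharP F 2] [Finite G] {f : G → F} {E : Subgroup G} {s : F}
    {H : Sy A T S π f} (K : Ef H E s) {n v : G} (hn : n ∈ N1 (VQ A T π) E) (hv : v ∈ VV π) :
    n * v * n⁻¹ ∈ VV π := by
  have h1 : n * v * n⁻¹ ∈ cj n (VQ A T π) := mem_cj_mul (H.VVQ hv)
  have h2 : n * v * n⁻¹ ∈ cj n E := mem_cj_mul (K.VE hv)
  rcases hn with ⟨h3, h4⟩ | ⟨h3, h4⟩
  · rw [h3] at h1; rw [h4] at h2
    exact K.EVQ _ h2 h1
  · rw [h3] at h1; rw [h4] at h2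
    exact K.EVQ _ h1 h2

/-- **a swap acts semilinearly on the root group** -/
theorem semi_swap [Finite F] [CharP F 2] [Finite G] {f : G → F} {E : Subgroup G} {s : F}
    {H : Sy A T S π f} (K : Ef H E s) (hR : Nat.card (RR A T) = Nat.card F) {n : G}
    (hn1 : cj n (VQ A T π) = E) (hn2 : cj n E = VQ A T π) : ∃ c σ, Semi π n c σ := by
  classical
  -- `f : R → F` is onto
  have honto : ∀ x : F, ∃ r ∈ RR A T, f r = x := by
    have hinj : Function.Injective (fun r : RR A T => f r) := by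
      intro r r' h
      have h0 : f r = f r' := h
      have h1 : (r : G) * r' = 1 := by
        apply H.gf.f_inj _ (mul_mem r.2 r'.2)
        rw [H.gf.f_add r r.2 r' r'.2, h0, CharTwo.add_self_eq_zero]
      have h2 : (r : G) = r' := by
        rw [eq_inv_of_mul_eq_one_left h1]
        exact inv_eq_of_mul_eq_one_left (H.rsq r'.2)
      exact Subtype.ext h2
    have hb := (Nat.bijective_iff_injective_and_card _).2 ⟨hinj, hR⟩
    intro x
    obtain ⟨r, hr⟩ := hb.2 x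
    exact ⟨r, r.2, hr⟩
  have hN : n ∈ N1 (VQ A T π) E := Or.inr ⟨hn1, hn2⟩
  have key : ∀ b : F, ∃ b', n * π (up b) * n⁻¹ = π (up b') := by
    intro b
    obtain ⟨b', h⟩ := mem_VV.1 (VV_norm_of_N1 K hN (up_mem_VV b))
    exact ⟨b', h.symm⟩
  choose γ hγ using key
  have hadd : ∀ a b, γ (a + b) = γ a + γ b := by
    intro a b
    apply H.uinj
    rw [← hγ, ← H.uadd, ← H.uadd, ← hγ, ← hγ]
    group
  have hinj : ∀ a, γ a = 0 → a = 0 := by
    intro a ha
    have h1 := hγ a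
    rw [ha, H.u0] at h1
    apply H.uinj
    rw [H.u0]
    have e : π (up a) = n⁻¹ * (n * π (up a) * n⁻¹) * n := by group
    rw [e, h1]; group
  choose r hr hfr using honto
  choose e he hce using K.onto
  have hα : ∀ x : F, n * r x * n⁻¹ ∈ E := by
    intro x
    rw [← hn1]; exact mem_cj_mul (H.RVQ (hr x))
  have hβ : ∀ y : F, ∃ r' ∈ RR A T, ∃ b : F, n * e y * n⁻¹ = r' * π (up b) := by
    intro y
    apply H.mem_VQ.1
    rw [← hn2]; exact mem_cj_mul (he y)
  choose r' hr' b' hb' using hβ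
  have hmul : ∀ x y, γ (y * x) = H.chi (n * r x * n⁻¹) * f (r' y) := by
    intro x y
    have h1 := K.br (hr x) (K.ET (he y))
    rw [hce, hfr] at h1
    have h2 := hγ (y * x)
    rw [← h1] at h2
    have h3 := H.toAf.EE_conj_ru (K.ET (hα x)).2 (hr' y) (b' y)
    rw [← hb'] at h3
    have h4 : n * (r x * e y * (r x)⁻¹ * (e y)⁻¹) * n⁻¹ =
        (n * r x * n⁻¹ * (n * e y * n⁻¹) * (n * r x * n⁻¹)⁻¹) * (n * e y * n⁻¹)⁻¹ := by group
    rw [h4, h3, hb'] at h2
    have h5 : r' y * π (up (H.chi (n * r x * n⁻¹) * f (r' y) + b' y)) * (r' y * π (up (b' y)))⁻¹ =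
        π (up (H.chi (n * r x * n⁻¹) * f (r' y))) := by
      rw [← H.uadd]
      calc r' y * (π (up (H.chi (n * r x * n⁻¹) * f (r' y))) * π (up (b' y))) * (r' y * π (up (b' y)))⁻¹
          = (r' y * π (up (H.chi (n * r x * n⁻¹) * f (r' y)))) * (r' y)⁻¹ := by group
        _ = _ := by rw [H.ru (hr' y), mul_inv_cancel_right]
    rw [h5] at h2
    exact (H.uinj h2).symm
  have h1 : γ 1 ≠ 0 := fun h => one_ne_zero (hinj 1 h)
  have h0 : γ 0 = 0 := by
    have := hadd 0 0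
    rw [add_zero] at this
    exact add_eq_left.mp this.symm
  have hmm : ∀ x y, γ (x * y) * γ 1 = γ x * γ y := by
    intro x y
    have e1 := hmul 1 1
    have e2 := hmul 1 x
    have e3 := hmul y 1
    have e4 := hmul y x
    rw [mul_one] at e1 e2
    rw [one_mul] at e3
    rw [e1, e2, e3, e4]; ring
  let σ0 : F →+* F :=
    { toFun := fun b => γ b / γ 1
      map_one' := div_self h1
      map_mul' := by
        intro x y
        have h2 := hmm x y
        show γ (x * y) / γ 1 = γ x / γ 1 * (γ y / γ 1)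
        rw [div_mul_div_comm, ← h2, mul_div_mul_right _ _ h1]
      map_zero' := by show γ 0 / γ 1 = 0; rw [h0, zero_div]
      map_add' := by
        intro x y
        show γ (x + y) / γ 1 = γ x / γ 1 + γ y / γ 1
        rw [hadd, add_div] }
  have hb : Function.Bijective σ0 := Finite.injective_iff_bijective.1 σ0.injective
  refine ⟨γ 1, RingEquiv.ofBijective σ0 hb, ?_⟩
  intro b
  rw [hγ]
  congr 2
  show γ b = γ 1 * (γ b / γ 1)
  rw [mul_div_cancel₀ _ h1]

end Cfsg.Agent.OddHalf.D4.Rk2
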