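import Cfsg.Agent.OddHalf.D4.Rk2.Swap

/-!
# D4, `K = L₂(q)`: the swap case, the Sylow 2-subgroup of `G`
-/

set_option autoImplicit false
set_option linter.unusedSectionVars false

namespace Cfsg.Agent.OddHalf.D4.Rk2

open Subgroup Cfsg.Agent.StdL2.Frame Cfsg.Agent.StdL2.Field
open Cfsg.Agent.StdL2.FrameFT (VV mem_VV up_mem_VV VV_le VV_sq card_VV sem ent_ne)
open Cfsg.Agent.StdL2.FieldStart (exists_normalizer_gt card_le_two_mul)
open Cfsg.Agent.Lib.SL2Mat Cfsg.Agent.Lib.AutSL2 Cfsg.Agent.StdRank2.OutField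
open Cfsg.Agent.OddHalf.D4.CommConj (cj mem_cj cj_mul card_cj cj_eq_of_mem_normalizer mem_normalizer_of_cj_eq
  mem_cj_mul Tight)
open Cfsg.Agent.OddHalf.D4.Basic (IsSyl exists_isSyl orderOf_conj)
open Cfsg.Agent.OddHalf.D4.RkEnd

local notation "SL2" => Matrix.SpecialLinearGroup (Fin 2)

universe u

variable {F : Type*} [Field F] {G : Type u} [Group G] {A T S : Subgroup G} {π : SL2 F →* G}

theorem comm_of_sq {X : Subgroup G} (hX2 : ∀ x ∈ X, x * x = 1) {x y : G} (hx : x ∈ X) (hy : y ∈ X) :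
    x * y = y * x := by
  have h2 : x⁻¹ = x := inv_eq_of_mul_eq_one_left (hX2 x hx)
  have h3 : y⁻¹ = y := inv_eq_of_mul_eq_one_left (hX2 y hy)
  have h4 : (x * y)⁻¹ = x * y := inv_eq_of_mul_eq_one_left (hX2 _ (mul_mem hx hy))
  rw [mul_inv_rev, h2, h3] at h4
  exact h4.symm

/-- the data of the swap case -/
structure Swp {f : G → F} [Finite F] [CharP F 2] [Finite G] {E : Subgroup G} {s : F} {H : Sy A T S π f}
    (K : Ef H E s) (S2 : Subgroup G) : Prop where
  s0 : s = 0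
  card : Nat.card (RR A T) = Nat.card F
  EII : ∀ e ∈ E, e ∉ VV π → II A T e
  cardE : Nat.card E = Nat.card (VQ A T π)
  syl : IsSyl S2 (N1 (VQ A T π) E)
  SS : S ≤ S2

namespace Swp

variable [Finite F] [CharP F 2] [Finite G] {f : G → F} {E : Subgroup G} {s : F}
  {H : Sy A T S π f} {K : Ef H E s} {S2 : Subgroup G}

theorem exists_swp (K : Ef H E s) (hs : s = 0) (hII : ∃ e ∈ E, II A T e) : ∃ S2, Swp K S2 := by
  obtain ⟨x, hx, hc⟩ := K.exists_cj hs hII
  have hSN : S ≤ N1 (VQ A T π) E := by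
    intro n hn
    left
    refine ⟨cj_eq_of_mem_normalizer (H.S_N hn), ?_⟩
    have h1 : cj n E ≤ E := by
      rintro _ ⟨e, he, rfl⟩
      exact K.normS n hn e he
    exact eq_of_le_of_card_ge h1 (card_cj _ _).ge
  obtain ⟨S2, h2, h3⟩ := exists_isSyl H.sylS.two hSN
  exact ⟨S2, hs, hc, fun e he h => K.E_II hx he h, by rw [← hx, card_cj], h2, h3⟩

variable (Z : Swp K S2)
include Z

theorem mem_S {n : G} (hn : n ∈ S2) (hN : n ∈ normalizer (VQ A T π : Set G)) : n ∈ S := by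
  have h1 : S2 ⊓ normalizer (VQ A T π : Set G) ≤ S :=
    H.sylS.max _ (Z.syl.two.to_le inf_le_left) (le_inf Z.SS H.sylS.le) inf_le_right
  exact h1 ⟨hn, hN⟩

theorem swap_of_not {n : G} (hn : n ∈ S2) (hS : n ∉ S) : cj n (VQ A T π) = E ∧ cj n E = VQ A T π := by
  rcases Z.syl.le hn with h | h
  · exact absurd (Z.mem_S hn (mem_normalizer_of_cj_eq h.1)) hS
  · exact h

theorem semi {n : G} (hn : n ∈ S2) : ∃ c σ, Semi π n c σ := by
  by_cases hS : n ∈ S
  · exact H.toAf.semi (H.S_N hS)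
  · obtain ⟨h1, h2⟩ := Z.swap_of_not hn hS
    exact semi_swap K Z.card h1 h2

theorem norm_VV {n v : G} (hn : n ∈ S2) (hv : v ∈ VV π) : n * v * n⁻¹ ∈ VV π :=
  VV_norm_of_N1 K (Z.syl.le hn) hv

/-- involutions of `T₁` -/
theorem invol {t : G} (ht : t ∈ H.T1) (h2 : t * t = 1) : t ∈ VQ A T π ∨ t ∈ E := by
  by_cases hv : t ∈ VQ A T π
  · exact Or.inl hv
  obtain ⟨r, hr, e, he, rfl, hfr, -⟩ := K.invol ht h2 hv
  rw [Z.s0] at hfr
  rw [H.gf.f_inj r hr hfr, one_mul]
  exact Or.inr he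

/-- an elementary abelian subgroup of order `q²` meeting `T₁` in `W`, `W ≤ Y`, `x` outside `Y` commuting with `W` -/
theorem card_lt {Y W : Subgroup G} {x : G} (hY : Y = VQ A T π ∨ Y = E) (hW : W ≤ Y) (hx : x ∈ S) (hxY : x ∉ Y)
    (hx2 : x * x = 1) (hxW : ∀ w ∈ W, x * w = w * x) : 2 * Nat.card W < Nat.card F * Nat.card F := by
  have h8 := H.q8
  -- the map `W → F` with kernel `W ∩ VV`
  obtain ⟨g, hg⟩ : ∃ g : G → F, ∀ w ∈ Y, ∀ w' ∈ Y, g w = g w' → w * w'⁻¹ ∈ VV π := by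
    rcases hY with rfl | rfl
    · classical
      have key : ∀ w : G, ∃ c : F, w ∈ VQ A T π → ∃ r ∈ RR A T, ∃ b : F, w = r * π (up b) ∧ f r = c := by
        intro w
        by_cases hw : w ∈ VQ A T π
        · obtain ⟨r, hr, b, h⟩ := H.mem_VQ.1 hw
          exact ⟨f r, fun _ => ⟨r, hr, b, h, rfl⟩⟩
        · exact ⟨0, fun h => absurd h hw⟩
      choose g hg using key
      refine ⟨g, fun w hw w' hw' h => ?_⟩
      obtain ⟨r, hr, b, hb, hfr⟩ := hg w hw
      obtain ⟨r', hr', b', hb', hfr'⟩ := hg w' hw'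
      have h1 : r * r' = 1 := by
        apply H.gf.f_inj _ (mul_mem hr hr')
        rw [H.gf.f_add r hr r' hr', hfr, hfr', h, CharTwo.add_self_eq_zero]
      have h2 : r = r' := by
        rw [eq_inv_of_mul_eq_one_left h1]
        exact inv_eq_of_mul_eq_one_left (H.rsq hr')
      rw [hb, hb', ← h2]
      have h3 : r * π (up b) * (r * π (up b'))⁻¹ = r * (π (up b) * π (up (-b'))) * r⁻¹ := by
        have h4 : (π (up b') : G)⁻¹ = π (up (-b')) := by rw [← map_inv, up_inv]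
        rw [← h4]; group
      rw [h3, H.uadd, H.ru hr, mul_inv_cancel_right]
      exact up_mem_VV _
    · refine ⟨fun w => H.chi w, fun w hw w' hw' h => ?_⟩
      have h0 : H.chi w = H.chi w' := h
      have h1 : w * w'⁻¹ ∈ Y := mul_mem hw (inv_mem hw')
      apply K.EVQ _ h1
      apply H.mem_VQ_of_chi (K.ET h1)
      rw [H.chi_T1_mul (K.ET hw) (inv_mem (K.ET hw')), H.chi_T1_inv (K.ET hw'), h0,
        CharTwo.add_self_eq_zero]
  have hle : Nat.card W ≤ Nat.card F * Nat.card (W ⊓ VV π : Subgroup G) := by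
    classical
    -- choose representatives
    have key : ∀ c : F, ∃ w0 : G, (∃ w ∈ W, g w = c) → w0 ∈ W ∧ g w0 = c := by
      intro c
      by_cases h : ∃ w ∈ W, g w = c
      · obtain ⟨w, hw, hc⟩ := h
        exact ⟨w, fun _ => ⟨hw, hc⟩⟩
      · exact ⟨1, fun h' => absurd h' h⟩
    choose w0 hw0 using key
    rw [← Nat.card_prod]
    refine Nat.card_le_card_of_injective (fun w : W => ((g w, ⟨(w : G) * (w0 (g w))⁻¹, ?_⟩) :
      F × (W ⊓ VV π : Subgroup G))) ?_
    · obtain ⟨h1, h2⟩ := hw0 (g w) ⟨w, w.2, rfl⟩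
      exact mem_inf.2 ⟨mul_mem w.2 (inv_mem h1), hg _ (hW w.2) _ (hW h1) h2.symm⟩
    · intro w w' h
      have h1 : g w = g w' := congrArg Prod.fst h
      have h2 : (w : G) * (w0 (g w))⁻¹ = (w' : G) * (w0 (g w'))⁻¹ :=
        congrArg (fun z : F × (W ⊓ VV π : Subgroup G) => (z.2 : G)) h
      rw [h1] at h2
      exact Subtype.ext (mul_right_cancel h2)
  by_cases hxT : x ∈ H.T1
  · -- `W ≤ VV`
    have hWV : W ≤ VV π := by
      intro w hw
      have hwc := hxW w hw
      rcases hY with rfl | rfl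
      · have hxE := (Z.invol hxT hx2).resolve_left hxY
        obtain ⟨r, hr, b, rfl⟩ := H.mem_VQ.1 (hW hw)
        have h1 := H.toAf.EE_conj_ru hxT.2 hr b
        rw [hwc, mul_inv_cancel_right] at h1
        have h2 := (H.uniq hr hr h1).2
        have h3 : H.chi x * f r = 0 := by linear_combination -h2
        rcases mul_eq_zero.1 h3 with h4 | h4
        · exact absurd (H.mem_VQ_of_chi hxT h4) hxY
        · rw [H.gf.f_inj r hr h4, one_mul]; exact up_mem_VV b
      · have hxV := (Z.invol hxT hx2).resolve_right hxY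
        obtain ⟨r, hr, b, rfl⟩ := H.mem_VQ.1 hxV
        have hwE := hW hw
        have h1 := H.toAf.EE_conj_ru (K.ET hwE).2 hr b
        rw [← hwc, mul_inv_cancel_right] at h1
        have h2 := (H.uniq hr hr h1).2
        have h3 : H.chi w * f r = 0 := by linear_combination -h2
        rcases mul_eq_zero.1 h3 with h4 | h4
        · exact K.EVQ _ hwE (H.mem_VQ_of_chi (K.ET hwE) h4)
        · exfalso
          apply hxY
          rw [H.gf.f_inj r hr h4, one_mul]
          exact K.VE (up_mem_VV b)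
    have h1 := Subgroup.card_le_of_le hWV
    rw [card_VV H.P] at h1
    nlinarith
  · -- `x` of field type
    have hxc : x ∉ centralizer (VV π : Set G) := by
      intro h
      exact hxT (H.mem_T1_of_cent hx (mem_cent.1 h))
    have h1 := Semi.fix2 H.P H.sylS.two (fun s hs => H.toAf.semi (H.S_N hs)) hx hxc
    have h2 : Nat.card (W ⊓ VV π : Subgroup G) ≤ Nat.card (VV π ⊓ centralizer ({x} : Set G) : Subgroup G) := by
      apply Subgroup.card_le_of_le
      intro w hw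
      refine ⟨hw.2, mem_centralizer_singleton_iff.2 ?_⟩
      exact (hxW w hw.1).symm
    set c := Nat.card (VV π ⊓ centralizer ({x} : Set G) : Subgroup G) with hc
    set d := Nat.card (W ⊓ VV π : Subgroup G) with hd
    set q := Nat.card F with hq
    -- `c² ≤ q`, `d ≤ c`, `|W| ≤ q d`
    have h3 : 2 * d < q := by
      by_contra hcon
      push Not at hcon
      nlinarith
    calc 2 * Nat.card W ≤ 2 * (q * d) := Nat.mul_le_mul_left 2 hle
      _ = q * (2 * d) := by ring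
      _ < q * q := Nat.mul_lt_mul_of_pos_left h3 (by omega)

theorem cardVQ : Nat.card (VQ A T π) = Nat.card F * Nat.card F := by
  rw [H.toPr.card_VQ, Z.card]

/-- **`VQ` and `E` are the only elementary abelian subgroups of order `q²` of `S₂`** -/
theorem eq_or {X : Subgroup G} (hX : X ≤ S2) (hX2 : ∀ x ∈ X, x * x = 1)
    (hc : Nat.card (VQ A T π) ≤ Nat.card X) : X = VQ A T π ∨ X = E := by
  have hcomm := fun {x y : G} (hx : x ∈ X) (hy : y ∈ X) => comm_of_sq hX2 hx hy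
  have h8 := H.q8
  rw [Z.cardVQ] at hc
  by_cases hXS : X ≤ S
  · have h1 := H.card_inf_T1 hXS hX2
    have h2 : X ⊓ H.T1 ≤ VQ A T π ∨ X ⊓ H.T1 ≤ E :=
      Aff.le_or_le (fun x hx => Z.invol hx.2 (hX2 x hx.1))
    rcases h2 with h2 | h2
    · left
      by_contra hne
      obtain ⟨x, hxX, hxV⟩ : ∃ x ∈ X, x ∉ VQ A T π := by
        by_contra hcon
        push Not at hcon
        exact hne (eq_of_le_of_card_ge hcon (by rw [Z.cardVQ]; exact hc))
      have h3 := Z.card_lt (Or.inl rfl) h2 (hXS hxX) hxV (hX2 x hxX) (fun w hw => hcomm hxX hw.1)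
      omega
    · right
      by_contra hne
      obtain ⟨x, hxX, hxV⟩ : ∃ x ∈ X, x ∉ E := by
        by_contra hcon
        push Not at hcon
        exact hne (eq_of_le_of_card_ge hcon (by rw [Z.cardE, Z.cardVQ]; exact hc))
      have h3 := Z.card_lt (Or.inr rfl) h2 (hXS hxX) hxV (hX2 x hxX) (fun w hw => hcomm hxX hw.1)
      omega
  · exfalso
    obtain ⟨x, hxX, hxS⟩ := SetLike.not_le_iff_exists.1 hXS
    obtain ⟨e1, e2⟩ := Z.swap_of_not (hX hxX) hxS
    have h1 : Nat.card X ≤ 2 * Nat.card (X ⊓ S : Subgroup G) := by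
      apply card_le_two_mul
      intro y hy z hz hy1 hz1
      obtain ⟨a1, a2⟩ := Z.swap_of_not (hX hy) hy1
      obtain ⟨b1, b2⟩ := Z.swap_of_not (hX hz) hz1
      apply Z.mem_S (mul_mem (inv_mem (hX hy)) (hX hz))
      apply mem_normalizer_of_cj_eq
      rw [cj_mul, b1, ← a1, cj_inv_cj]
    have h2 : Nat.card (X ⊓ S : Subgroup G) ≤ 2 * Nat.card ((X ⊓ S) ⊓ H.T1 : Subgroup G) :=
      H.card_inf_T1 inf_le_right (fun x hx => hX2 x hx.1)
    have h3 : (X ⊓ S) ⊓ H.T1 ≤ VV π := by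
      rintro w ⟨⟨hwX, hwS⟩, hwT⟩
      have hwc : x * w * x⁻¹ = w := by rw [hcomm hxX hwX, mul_inv_cancel_right]
      rcases Z.invol hwT (hX2 w hwX) with h | h
      · refine K.EVQ _ ?_ h
        rw [← e1, ← hwc]; exact mem_cj_mul h
      · refine K.EVQ _ h ?_
        rw [← e2, ← hwc]; exact mem_cj_mul h
    have h4 := Subgroup.card_le_of_le h3
    rw [card_VV H.P] at h4
    nlinarith

/-- `S₂` is a Sylow 2-subgroup of `G` -/
theorem sylTop : IsSyl S2 ⊤ := by
  apply isSyl_top Z.syl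
  intro n hn
  have h0 : cj n S2 = S2 := cj_eq_of_mem_normalizer hn
  have hVS : VQ A T π ≤ S2 := fun x hx => Z.SS (H.T1_S (H.VQ_T1 hx))
  have hES : E ≤ S2 := fun x hx => Z.SS (H.T1_S (K.ET hx))
  have hsq : ∀ Y : Subgroup G, (∀ y ∈ Y, y * y = 1) → ∀ y ∈ cj n Y, y * y = 1 := by
    rintro Y hY _ ⟨y, hy, rfl⟩
    show n * y * n⁻¹ * (n * y * n⁻¹) = 1
    have e : n * y * n⁻¹ * (n * y * n⁻¹) = n * (y * y) * n⁻¹ := by group
    rw [e, hY y hy]; group
  have h1 := Z.eq_or (X := cj n (VQ A T π)) (by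
    have := cj_mono n hVS
    rwa [h0] at this) (hsq _ fun y hy => H.vsq hy) (by rw [card_cj])
  have h2 := Z.eq_or (X := cj n E) (by
    have := cj_mono n hES
    rwa [h0] at this) (hsq _ fun y hy => K.E_sq Z.s0 hy) (by rw [card_cj, Z.cardE])
  have hne : VQ A T π ≠ E := by
    intro h
    obtain ⟨r, hr, hr2⟩ := H.exists_r
    have h3 : r ∈ VV π := K.EVQ r (by rw [← h]; exact H.RVQ hr) (H.RVQ hr)
    have := H.toPr.VV_inf_R h3 hr
    rw [this, orderOf_one] at hr2
    omega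
  rcases h1 with h1 | h1
  · rcases h2 with h2 | h2
    · exact absurd (cj_inj (h1.trans h2.symm)) hne
    · exact Or.inl ⟨h1, h2⟩
  · rcases h2 with h2 | h2
    · exact Or.inr ⟨h1, h2⟩
    · exact absurd (cj_inj (h1.trans h2.symm)) hne

end Swp

end Cfsg.Agent.OddHalf.D4.Rk2
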