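import Cfsg.Agent.OddHalf.D4.Rk2.Affine

/-!
# D4, `K = L₂(q)`: the affine case, the group `T₁`

`EE` = the elements of `N(VQ)` centralizing the root group and `VQ / VV`; `chi : EE → F`; `T1 = S ∩ EE`,
`S` a Sylow 2-subgroup of `N(VQ)` containing `T`. `T1 / VV` is elementary abelian.
-/

set_option autoImplicit false
set_option linter.unusedSectionVars false

namespace Cfsg.Agent.OddHalf.D4.Rk2

open Subgroup Cfsg.Agent.StdL2.Frame Cfsg.Agent.StdL2.Field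
open Cfsg.Agent.StdL2.FrameFT (VV mem_VV up_mem_VV VV_le VV_sq card_VV)
open Cfsg.Agent.Lib.SL2Mat Cfsg.Agent.Lib.AutSL2
open Cfsg.Agent.OddHalf.D4.CommConj (cj mem_cj cj_mul card_cj cj_eq_of_mem_normalizer mem_normalizer_of_cj_eq
  mem_cj_mul Tight)
open Cfsg.Agent.OddHalf.D4.Basic (IsSyl exists_isSyl orderOf_conj)

local notation "SL2" => Matrix.SpecialLinearGroup (Fin 2)

universe u

variable {F : Type*} [Field F] {G : Type u} [Group G] {A T S : Subgroup G} {π : SL2 F →* G}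

/-- the odd part and the 2-part of the order -/
theorem exists_odd_pow [Finite G] (x : G) : ∃ m k : ℕ, Odd m ∧ (x ^ m) ^ 2 ^ k = 1 := by
  obtain ⟨k, m, hm, hkm⟩ := Nat.exists_eq_two_pow_mul_odd (n := orderOf x) (orderOf_pos x).ne'
  refine ⟨m, k, hm, ?_⟩
  rw [← pow_mul, mul_comm, ← hkm, pow_orderOf_eq_one]

theorem isPGroup_zpowers {x : G} {k : ℕ} (h : x ^ 2 ^ k = 1) : IsPGroup 2 (zpowers x) := by
  rintro ⟨y, hy⟩
  obtain ⟨z, rfl⟩ := mem_zpowers_iff.1 hy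
  refine ⟨k, Subtype.ext ?_⟩
  show (x ^ z) ^ 2 ^ k = 1
  rw [← zpow_natCast, ← zpow_mul, mul_comm, zpow_mul, zpow_natCast, h, one_zpow]

namespace Pr

variable [Finite F] [CharP F 2] [Finite G] (H : Pr A T π)
include H

/-- 2-elements centralizing `VQ` are in `VQ` -/
theorem mem_VQ_of_two {x : G} (hx : ∀ v ∈ VQ A T π, x * v = v * x) {k : ℕ} (hk : x ^ 2 ^ k = 1) :
    x ∈ VQ A T π := by
  obtain ⟨r, hr, hr2⟩ := H.exists_r
  have hxM : x ∈ normalizer (A : Set G) := by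
    have h1 := H.toFr.mem_of_comm (a := 1) (x := r) (g := x) (by simpa using hr.2) hr2 (hx r (H.RVQ hr))
    simpa using h1
  have hVn : zpowers x ≤ normalizer (VQ A T π : Set G) := by
    rw [zpowers_le]
    apply mem_normalizer_of_cj_eq
    have h1 : cj x (VQ A T π) ≤ VQ A T π := by
      rintro _ ⟨v, hv, rfl⟩
      show x * v * x⁻¹ ∈ VQ A T π
      rw [hx v hv, mul_inv_cancel_right]; exact hv
    exact eq_of_le_of_card_ge h1 (card_cj _ _).ge
  have h2 : IsPGroup 2 (VQ A T π ⊔ zpowers x : Subgroup G) :=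
    Cfsg.Agent.StdL2.FieldStart.isPGroup_sup H.V2 (isPGroup_zpowers hk) hVn
  obtain ⟨m, hm, hmT⟩ := H.syl.conj_into h2 (sup_le (H.VQT.trans H.syl.le) (by rw [zpowers_le]; exact hxM))
  have h3 : cj m (VQ A T π) = VQ A T π := by
    apply H.eq_VQ
    · rintro _ ⟨v, hv, rfl⟩
      exact hmT v (mem_sup_left hv)
    · rintro _ ⟨v, hv, rfl⟩
      show m * v * m⁻¹ * (m * v * m⁻¹) = 1
      have e : m * v * m⁻¹ * (m * v * m⁻¹) = m * (v * v) * m⁻¹ := by group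
      rw [e, H.vsq hv]; group
    · rw [card_cj]
  have h4 : m * x * m⁻¹ ∈ VQ A T π := by
    apply H.mem_VQ_of_cent (hmT x (mem_sup_right (mem_zpowers x)))
    intro v hv
    have h5 : v ∈ cj m (VQ A T π) := by rw [h3]; exact H.VVQ hv
    rw [mem_cj] at h5
    have h6 := hx _ h5
    calc m * x * m⁻¹ * v = m * (x * (m⁻¹ * v * m)) * m⁻¹ := by group
      _ = v * (m * x * m⁻¹) := by rw [h6]; group
  rw [← h3, mem_cj] at h4
  have e : m⁻¹ * (m * x * m⁻¹) * m = x := by group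
  rwa [e] at h4

end Pr

namespace Af

variable [Finite F] [CharP F 2] [Finite G] {f : G → F}

/-- the elements centralizing the root group and `VQ / VV` -/
def EE (H : Af A T π f) : Subgroup G := H.N0 ⊓ centralizer (VV π : Set G)

/-- the translation part -/
noncomputable def chi (_H : Af A T π f) (x : G) : F :=
  letI := Classical.propDecidable
  if h : ∃ c : F, ∀ r ∈ RR A T, x * r * x⁻¹ = r * π (up (c * f r)) then h.choose else 0

variable (H : Af A T π f)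
include H

theorem mem_EE {x : G} : x ∈ H.EE ↔ x ∈ H.N0 ∧ ∀ a, x * π (up a) = π (up a) * x := by
  constructor
  · rintro ⟨h1, h2⟩
    exact ⟨h1, fun a => mem_cent.1 h2 _ (up_mem_VV a)⟩
  · rintro ⟨h1, h2⟩
    refine ⟨h1, mem_cent.2 fun v hv => ?_⟩
    obtain ⟨b, rfl⟩ := mem_VV.1 hv
    exact h2 b

theorem EE_N {x : G} (hx : x ∈ H.EE) : x ∈ normalizer (VQ A T π : Set G) := hx.1.1

theorem EE_u {x : G} (hx : x ∈ H.EE) (a : F) : x * π (up a) = π (up a) * x := (H.mem_EE.1 hx).2 a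

theorem EE_conj {n x : G} (hn : n ∈ normalizer (VQ A T π : Set G)) (hx : x ∈ H.EE) : n * x * n⁻¹ ∈ H.EE := by
  rw [mem_EE]
  refine ⟨H.N0_conj hn hx.1, fun a => ?_⟩
  obtain ⟨b, hb⟩ := H.norm_u (inv_mem hn) a
  rw [inv_inv] at hb
  have h1 := H.EE_u hx b
  rw [← hb] at h1
  calc n * x * n⁻¹ * π (up a) = n * (x * (n⁻¹ * π (up a) * n)) * n⁻¹ := by group
    _ = π (up a) * (n * x * n⁻¹) := by rw [h1]; group

theorem chi_spec {x : G} (hx : x ∈ H.EE) : ∀ r ∈ RR A T, x * r * x⁻¹ = r * π (up (H.chi x * f r)) := by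
  have h := H.N0_R hx.1
  have e : H.chi x = h.choose := dif_pos h
  rw [e]; exact h.choose_spec

theorem chi_eq {x : G} (hx : x ∈ H.EE) {c : F} (h : ∀ r ∈ RR A T, x * r * x⁻¹ = r * π (up (c * f r))) :
    H.chi x = c := by
  obtain ⟨r, hr, -, -, hfr, -⟩ := H.exists_two
  have h1 := h r hr
  rw [H.chi_spec hx r hr] at h1
  exact mul_right_cancel₀ hfr (H.uniq hr hr h1).2

theorem chi_mul {x y : G} (hx : x ∈ H.EE) (hy : y ∈ H.EE) : H.chi (x * y) = H.chi x + H.chi y := by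
  apply H.chi_eq (mul_mem hx hy)
  intro r hr
  calc x * y * r * (x * y)⁻¹ = x * (y * r * y⁻¹) * x⁻¹ := by group
    _ = x * (r * π (up (H.chi y * f r))) * x⁻¹ := by rw [H.chi_spec hy r hr]
    _ = (x * r * x⁻¹) * (x * π (up (H.chi y * f r)) * x⁻¹) := by group
    _ = r * π (up (H.chi x * f r)) * π (up (H.chi y * f r)) := by
      rw [H.chi_spec hx r hr, H.EE_u hx, mul_inv_cancel_right]
    _ = _ := by rw [mul_assoc, H.uadd, add_mul]

theorem chi_one : H.chi 1 = 0 := by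
  have := H.chi_mul (one_mem _) (one_mem _)
  rw [one_mul] at this
  linear_combination -this

theorem chi_inv {x : G} (hx : x ∈ H.EE) : H.chi x⁻¹ = H.chi x := by
  have h1 := H.chi_mul hx (inv_mem hx)
  rw [mul_inv_cancel, H.chi_one] at h1
  have e2 : (2 : F) = 0 := CharTwo.two_eq_zero
  linear_combination -h1 - H.chi x * e2

theorem chi_pow {x : G} (hx : x ∈ H.EE) (m : ℕ) : H.chi (x ^ m) = m * H.chi x := by
  induction m with
  | zero => rw [pow_zero, H.chi_one]; simp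
  | succ m ih => rw [pow_succ, H.chi_mul (pow_mem hx m) hx, ih]; push_cast; ring

/-- `chi x = 0`: `x` centralizes `VQ` -/
theorem cent_of_chi {x : G} (hx : x ∈ H.EE) (h : H.chi x = 0) : ∀ v ∈ VQ A T π, x * v = v * x := by
  intro v hv
  obtain ⟨r, hr, b, rfl⟩ := H.mem_VQ.1 hv
  have h1 := H.chi_spec hx r hr
  rw [h, zero_mul, H.u0, mul_one] at h1
  have h2 : x * r = r * x := mul_inv_eq_iff_eq_mul.1 h1
  calc x * (r * π (up b)) = (x * r) * π (up b) := by group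
    _ = r * (x * π (up b)) := by rw [h2]; group
    _ = r * π (up b) * x := by rw [H.EE_u hx]; group

theorem EE_of_cent {x : G} (hx : ∀ v ∈ VQ A T π, x * v = v * x) : x ∈ H.EE ∧ H.chi x = 0 := by
  have h0 : x ∈ H.EE := by
    rw [mem_EE]
    refine ⟨⟨?_, fun r hr => ⟨0, ?_⟩⟩, fun a => hx _ (H.uVQ a)⟩
    · apply mem_normalizer_of_cj_eq
      have h1 : cj x (VQ A T π) ≤ VQ A T π := by
        rintro _ ⟨v, hv, rfl⟩
        show x * v * x⁻¹ ∈ VQ A T π
        rw [hx v hv, mul_inv_cancel_right]; exact hv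
      exact eq_of_le_of_card_ge h1 (card_cj _ _).ge
    · rw [H.u0, hx r (H.RVQ hr), mul_inv_cancel_right, mul_one]
  refine ⟨h0, H.chi_eq h0 fun r hr => ?_⟩
  rw [zero_mul, H.u0, hx r (H.RVQ hr), mul_inv_cancel_right, mul_one]

theorem VQ_EE {v : G} (hv : v ∈ VQ A T π) : v ∈ H.EE ∧ H.chi v = 0 :=
  H.EE_of_cent fun _ hw => H.vcomm hv hw

/-- conjugation of `r u(b)` by an element of `EE` -/
theorem EE_conj_ru {x r : G} (hx : x ∈ H.EE) (hr : r ∈ RR A T) (b : F) :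
    x * (r * π (up b)) * x⁻¹ = r * π (up (H.chi x * f r + b)) := by
  calc x * (r * π (up b)) * x⁻¹ = (x * r * x⁻¹) * (x * π (up b) * x⁻¹) := by group
    _ = _ := by rw [H.chi_spec hx r hr, H.EE_u hx, mul_inv_cancel_right, mul_assoc, H.uadd]

end Af

/-- the affine case with a Sylow 2-subgroup `S` of `N(VQ)` -/
structure Sy (A T S : Subgroup G) (π : SL2 F →* G) (f : G → F) : Prop extends Af A T π f where
  sylS : IsSyl S (normalizer (VQ A T π : Set G))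
  TS : T ≤ S

namespace Sy

variable [Finite F] [CharP F 2] [Finite G] {f : G → F}

/-- the group `T₁` -/
def T1 (H : Sy A T S π f) : Subgroup G := S ⊓ H.toAf.EE

variable (H : Sy A T S π f)
include H

theorem T1_S : H.T1 ≤ S := inf_le_left

theorem T1_EE : H.T1 ≤ H.EE := inf_le_right

theorem S_N {x : G} (hx : x ∈ S) : x ∈ normalizer (VQ A T π : Set G) := H.sylS.le hx

theorem T1_2 : IsPGroup 2 H.T1 := H.sylS.two.to_le H.T1_S

theorem VQ_T1 : VQ A T π ≤ H.T1 := fun _ hv => ⟨H.TS (H.VQT hv), (H.toAf.VQ_EE hv).1⟩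

/-- `S ∩ M = T` -/
theorem mem_T {x : G} (hx : x ∈ S) (hM : x ∈ normalizer (A : Set G)) : x ∈ T := by
  have h1 : S ⊓ normalizer (A : Set G) ≤ T :=
    H.syl.max _ (H.sylS.two.to_le inf_le_left) (le_inf H.TS H.syl.le) inf_le_right
  exact h1 ⟨hx, hM⟩

theorem mem_VQ_of_chi {x : G} (hx : x ∈ H.T1) (h : H.chi x = 0) : x ∈ VQ A T π := by
  obtain ⟨k, hk⟩ := exists_pow_of_mem H.T1_2 hx
  exact H.toPr.mem_VQ_of_two (H.toAf.cent_of_chi hx.2 h) hk

theorem sylT1 : IsSyl H.T1 H.EE := by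
  apply H.sylS.inf (fun x hx => H.toAf.EE_N hx)
  intro s hs
  apply mem_normalizer_of_cj_eq
  have h1 : cj s H.EE ≤ H.EE := by
    rintro _ ⟨x, hx, rfl⟩
    exact H.toAf.EE_conj (H.S_N hs) hx
  exact eq_of_le_of_card_ge h1 (card_cj _ _).ge

/-- `chi` is onto on `T₁` -/
theorem exists_T1 (c : F) : ∃ t ∈ H.T1, H.chi t = c := by
  obtain ⟨x, hx, hxu, hxr⟩ := H.toAf.exists_transl c
  have hxE : x ∈ H.EE := H.toAf.mem_EE.2 ⟨hx, hxu⟩
  have hc : H.chi x = c := H.toAf.chi_eq hxE hxr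
  obtain ⟨m, k, hm, hmk⟩ := exists_odd_pow x
  have h1 : H.chi (x ^ m) = c := by
    rw [H.toAf.chi_pow hxE, hc]
    obtain ⟨j, rfl⟩ := hm
    have e2 : (2 : F) = 0 := CharTwo.two_eq_zero
    push_cast
    linear_combination (j * c) * e2
  obtain ⟨e, he, het⟩ := H.sylT1.conj_into (isPGroup_zpowers hmk) (by
    rw [zpowers_le]; exact pow_mem hxE m)
  refine ⟨e * x ^ m * e⁻¹, het _ (mem_zpowers _), ?_⟩
  rw [H.toAf.chi_mul (mul_mem he (pow_mem hxE m)) (inv_mem he), H.toAf.chi_mul he (pow_mem hxE m),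
    H.toAf.chi_inv he, h1]
  have e2 : (2 : F) = 0 := CharTwo.two_eq_zero
  linear_combination H.chi e * e2

/-- **Frattini** -/
theorem frattini {n : G} (hn : n ∈ normalizer (VQ A T π : Set G)) :
    ∃ d, (∀ v ∈ VQ A T π, d * v = v * d) ∧ d * n ∈ normalizer (H.T1 : Set G) ∧
      d * n ∈ normalizer (VQ A T π : Set G) := by
  have h1 : IsPGroup 2 (cj n H.T1) := isPGroup_cj H.T1_2 n
  have h2 : cj n H.T1 ≤ H.EE := by
    rintro _ ⟨x, hx, rfl⟩
    exact H.toAf.EE_conj hn hx.2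
  obtain ⟨e, he, het⟩ := H.sylT1.conj_into h1 h2
  obtain ⟨t, ht, hte⟩ := H.exists_T1 (H.chi e)
  have hd0 : H.chi (t⁻¹ * e) = 0 := by
    rw [H.toAf.chi_mul (inv_mem ht.2) he, H.toAf.chi_inv ht.2, hte, CharTwo.add_self_eq_zero]
  have hdE : t⁻¹ * e ∈ H.EE := mul_mem (inv_mem ht.2) he
  refine ⟨t⁻¹ * e, H.toAf.cent_of_chi hdE hd0, ?_, mul_mem (H.toAf.EE_N hdE) hn⟩
  apply mem_normalizer_of_cj_eq
  have h3 : cj (t⁻¹ * e * n) H.T1 ≤ H.T1 := by
    rintro _ ⟨x, hx, rfl⟩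
    show t⁻¹ * e * n * x * (t⁻¹ * e * n)⁻¹ ∈ H.T1
    have e1 : t⁻¹ * e * n * x * (t⁻¹ * e * n)⁻¹ = t⁻¹ * (e * (n * x * n⁻¹) * e⁻¹) * t := by group
    rw [e1]
    exact mul_mem (mul_mem (inv_mem ht) (het _ (mem_cj_mul hx))) ht
  exact eq_of_le_of_card_ge h3 (card_cj _ _).ge

/-- the torus in `N(T₁)` -/
theorem exists_tor' {c : F} (hc : c ≠ 0) : ∃ h, h ∈ normalizer (H.T1 : Set G) ∧
    h ∈ normalizer (VQ A T π : Set G) ∧ (∀ r ∈ RR A T, h * r = r * h) ∧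
    ∀ b, h * π (up b) * h⁻¹ = π (up (c * b)) := by
  obtain ⟨h, hA, hN, hhr, hhu⟩ := H.toPr.exists_tor c hc
  obtain ⟨d, hd, hdT, hdN⟩ := H.frattini hN
  refine ⟨d * h, hdT, hdN, fun r hr => ?_, fun b => ?_⟩
  · calc d * h * r = d * r * h := by rw [mul_assoc, hhr r hr]; group
      _ = r * (d * h) := by rw [hd r (H.RVQ hr)]; group
  · calc d * h * π (up b) * (d * h)⁻¹ = d * (h * π (up b) * h⁻¹) * d⁻¹ := by group
      _ = _ := by rw [hhu, hd _ (H.uVQ _), mul_inv_cancel_right]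

theorem norm_T1 {n t : G} (hn : n ∈ normalizer (H.T1 : Set G)) (ht : t ∈ H.T1) : n * t * n⁻¹ ∈ H.T1 :=
  (mem_normalizer_iff.1 hn t).1 ht

/-- action of a torus element on `chi` -/
theorem chi_tor {h t : G} (hN : h ∈ normalizer (VQ A T π : Set G)) {c : F}
    (hhr : ∀ r ∈ RR A T, h * r = r * h) (hhu : ∀ b, h * π (up b) * h⁻¹ = π (up (c * b))) (ht : t ∈ H.EE) :
    H.chi (h * t * h⁻¹) = c * H.chi t := by
  apply H.toAf.chi_eq (H.toAf.EE_conj hN ht)
  intro r hr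
  have h1 : h⁻¹ * r * h = r := by rw [mul_assoc, ← hhr r hr, inv_mul_cancel_left]
  calc h * t * h⁻¹ * r * (h * t * h⁻¹)⁻¹ = h * (t * (h⁻¹ * r * h) * t⁻¹) * h⁻¹ := by group
    _ = h * (r * π (up (H.chi t * f r))) * h⁻¹ := by rw [h1, H.toAf.chi_spec ht r hr]
    _ = (h * r * h⁻¹) * (h * π (up (H.chi t * f r)) * h⁻¹) := by group
    _ = _ := by rw [hhr r hr, mul_inv_cancel_right, hhu, mul_assoc]

/-- `[v, t] ∈ VV` for `v ∈ VQ`, `t ∈ EE` -/
theorem comm_VQ {v t : G} (hv : v ∈ VQ A T π) (ht : t ∈ H.EE) : v * t * v⁻¹ * t⁻¹ ∈ VV π := by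
  obtain ⟨r, hr, b, rfl⟩ := H.mem_VQ.1 hv
  have h1 := H.toAf.EE_conj_ru ht hr b
  have h2 : r * π (up b) * t * (r * π (up b))⁻¹ * t⁻¹ =
      r * π (up b) * (t * (r * π (up b)) * t⁻¹)⁻¹ := by group
  rw [h2, h1]
  have h3 : r * π (up b) * (r * π (up (H.chi t * f r + b)))⁻¹ = π (up (b + -(H.chi t * f r + b))) := by
    have h5 : π (up b) * (π (up (H.chi t * f r + b)))⁻¹ = π (up (b + -(H.chi t * f r + b))) := by
      rw [← map_inv, up_inv, H.uadd]
    calc r * π (up b) * (r * π (up (H.chi t * f r + b)))⁻¹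
        = r * (π (up b) * (π (up (H.chi t * f r + b)))⁻¹) * r⁻¹ := by group
      _ = π (up b) * (π (up (H.chi t * f r + b)))⁻¹ := by rw [h5, H.ru hr, mul_inv_cancel_right]
      _ = _ := h5
  rw [h3]
  exact up_mem_VV _

/-- `(e)`: elements of `N(T₁)` centralizing `VQ` centralize `T₁ / VV` -/
theorem comm_cent {n t : G} (hn : n ∈ normalizer (H.T1 : Set G)) (hc : ∀ v ∈ VQ A T π, n * v = v * n)
    (ht : t ∈ H.T1) : n * t * n⁻¹ * t⁻¹ ∈ VV π := by
  have hnE := (H.toAf.EE_of_cent hc)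
  have hv : n * t * n⁻¹ * t⁻¹ ∈ VQ A T π := by
    apply H.mem_VQ_of_chi (mul_mem (H.norm_T1 hn ht) (inv_mem ht))
    rw [H.toAf.chi_mul (mul_mem (mul_mem hnE.1 ht.2) (inv_mem hnE.1)) (inv_mem ht.2),
      H.toAf.chi_mul (mul_mem hnE.1 ht.2) (inv_mem hnE.1), H.toAf.chi_mul hnE.1 ht.2, H.toAf.chi_inv hnE.1,
      H.toAf.chi_inv ht.2, hnE.2]
    have e2 : (2 : F) = 0 := CharTwo.two_eq_zero
    linear_combination H.chi t * e2
  set v := n * t * n⁻¹ * t⁻¹ with hvdef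
  obtain ⟨m, k, hm, hmk⟩ := exists_odd_pow n
  have h1 : ∀ i : ℕ, n ^ i * t * (n ^ i)⁻¹ = v ^ i * t := by
    intro i
    induction i with
    | zero => simp
    | succ i ih =>
      calc n ^ (i + 1) * t * (n ^ (i + 1))⁻¹ = n * (n ^ i * t * (n ^ i)⁻¹) * n⁻¹ := by rw [pow_succ']; group
        _ = n * (v ^ i * t) * n⁻¹ := by rw [ih]
        _ = (n * v ^ i) * t * n⁻¹ := by group
        _ = v ^ i * (n * t * n⁻¹) := by rw [hc _ (pow_mem hv i)]; group
        _ = v ^ i * (v * t) := by rw [hvdef]; group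
        _ = v ^ (i + 1) * t := by rw [pow_succ]; group
  have h2 : n ^ m ∈ VQ A T π := by
    apply H.toPr.mem_VQ_of_two (k := k) _ hmk
    intro w hw
    have : Commute (n ^ m) w := (show Commute n w from hc w hw).pow_left m
    exact this
  have h3 := H.comm_VQ h2 ht.2
  rw [h1 m] at h3
  have h4 : v ^ m = v := by
    obtain ⟨j, rfl⟩ := hm
    rw [pow_succ, pow_mul, pow_two, H.vsq hv, one_pow, one_mul]
  rw [h4, mul_inv_cancel_right] at h3
  exact h3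

end Sy

end Cfsg.Agent.OddHalf.D4.Rk2
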